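import Cfsg.Agent.H56.FSDefs
import Cfsg.Agent.S0205
import Cfsg.Agent.H8.SylowIn
import Cfsg.Agent.H3.Fitting

/-!
Invariant sets of subgroups of odd prime order any two of which generate a fixed group of odd
order: the structure of the subgroup generated by two members.
-/

set_option autoImplicit false

namespace Cfsg.Agent.H8.FsS

open Subgroup Cfsg.Agent.H56.FS
open scoped Pointwise commutatorElement

universe u v

variable {G : Type*} [Group G]

theorem le_or_inf {p : ℕ} (hp : p.Prime) {A : Subgroup G} (hA : Nat.card A = p) (X : Subgroup G) :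
    A ≤ X ∨ A ⊓ X = ⊥ := by
  have : Fact (Nat.card A).Prime := ⟨hA ▸ hp⟩
  rcases (X.subgroupOf A).eq_bot_or_eq_top_of_prime_card with h | h
  · right
    rw [subgroupOf_eq_bot] at h
    exact h.symm.eq_bot
  · left
    exact subgroupOf_eq_top.1 h

theorem comm_of_card {p : ℕ} (hp : p.Prime) {A : Subgroup G} (hA : Nat.card A = p) :
    IsMulCommutative A := by
  have : Fact p.Prime := ⟨hp⟩
  have := isCyclic_of_prime_card hA
  infer_instance

theorem eq_of_le_card [Finite G] {p : ℕ} {A B : Subgroup G} (hA : Nat.card A = p)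
    (hB : Nat.card B = p) (h : A ≤ B) : A = B :=
  eq_of_le_of_card_ge h (by rw [hA, hB])

/-- two subgroups of the same prime order, one normalising the other, commute -/
theorem cent_of_norm [Finite G] {p : ℕ} (hp : p.Prime) {A B : Subgroup G} (hA : Nat.card A = p)
    (hB : Nat.card B = p) (h : B ≤ normalizer (A : Set G)) : A ≤ centralizer (B : Set G) := by
  have : Fact p.Prime := ⟨hp⟩
  have pA : IsPGroup p A := IsPGroup.of_card (n := 1) (by rw [hA, pow_one])
  have pB : IsPGroup p B := IsPGroup.of_card (n := 1) (by rw [hB, pow_one])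
  have pP : IsPGroup p (B ⊔ A : Subgroup G) := pB.to_sup_of_normal_right' pA h
  have hn : (A.subgroupOf (B ⊔ A)).Normal :=
    (normal_subgroupOf_iff_le_normalizer le_sup_right).2 (sup_le h le_normalizer)
  have := pP.isNilpotent
  have hne : A.subgroupOf (B ⊔ A) ≠ ⊥ := by
    intro hb
    rw [subgroupOf_eq_bot, disjoint_iff, inf_of_le_left le_sup_right] at hb
    rw [hb, card_bot] at hA
    exact hp.one_lt.ne hA
  have h2 := H3.inf_center_ne_bot _ hne
  rcases le_or_inf hp hA (centralizer (B : Set G)) with h3 | h3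
  · exact h3
  · exfalso
    apply h2
    rw [eq_bot_iff]
    intro x hx
    have : (x : G) ∈ A ⊓ centralizer (B : Set G) := ⟨hx.1, fun b hb =>
      congrArg Subtype.val (mem_center_iff.1 hx.2 ⟨b, mem_sup_left hb⟩)⟩
    rw [h3] at this
    exact Subtype.ext (mem_bot.1 this)

/-- a solvable non-abelian subgroup has a non-central normal subgroup of prime power order -/
theorem exists_noncentral [Finite G] {L : Subgroup G} (hs : Group.IsSolvable L)
    (hn : ¬ IsMulCommutative L) : ∃ r : ℕ, r.Prime ∧ ∃ R : Subgroup G, R ≤ L ∧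
      L ≤ normalizer (R : Set G) ∧ IsPGroup r R ∧ ¬ R ≤ centralizer (L : Set G) := by
  by_contra hc
  push Not at hc
  apply hn
  have h1 : Cfsg.fittingSubgroup L ≤ center L := by
    rw [H3.fitting_eq_iSup_pCore]
    refine iSup_le fun r => ?_
    have hN : (Cfsg.pCore (r : ℕ) L).Normal := inferInstance
    have h2 := hc r r.2 ((Cfsg.pCore (r : ℕ) L).map L.subtype) (map_subtype_le _)
      (by
        rw [← normal_subgroupOf_iff_le_normalizer (map_subtype_le _), subgroupOf,
          comap_map_eq_self_of_injective L.subtype_injective]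
        exact hN) ((H3.pCore_isPGroup _ _).map _)
    intro x hx
    rw [mem_center_iff]
    intro g
    exact Subtype.ext (h2 ⟨x, hx, rfl⟩ g g.2)
  have h3 : (⊤ : Subgroup L) ≤ center L := by
    refine le_trans ?_ ((H3.centralizer_fitting_le L).trans h1)
    intro g _ x hx
    exact (mem_center_iff.1 (h1 hx) g).symm
  exact ⟨⟨fun a b => mem_center_iff.1 (h3 (mem_top b)) a⟩⟩

theorem comm_iff_of_equiv {L : Subgroup G} {F : Type*} [Group F] (e : L ≃* F) :
    IsMulCommutative ↥⁅L, L⁆ ↔ IsMulCommutative ↥(commutator F) := by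
  rw [← commutator_self_eq_bot_iff, ← commutator_self_eq_bot_iff, ← L.map_subtype_commutator,
    ← map_commutator, map_eq_bot_iff_of_injective _ L.subtype_injective]
  have h1 : commutator F = (commutator L).map (e : L →* F) := by
    rw [commutator_def, commutator_def, map_commutator, map_top_of_surjective _ e.surjective]
  rw [h1, ← map_commutator, map_eq_bot_iff_of_injective _ e.injective]

section Main

variable [Finite G] {p : ℕ} {D : Set (Subgroup G)} {F : Type*} [Group F]

/-- the hypotheses -/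
structure Hy (p : ℕ) (D : Set (Subgroup G)) (F : Type*) [Group F] : Prop where
  pp : p.Prime
  card : ∀ A ∈ D, Nat.card A = p
  inv : ∀ A ∈ D, ∀ g : G, cj g A ∈ D
  odd : Odd (Nat.card F)
  iso : ∀ A ∈ D, ∀ B ∈ D, A ≠ B → Nonempty (↥(A ⊔ B) ≃* F)
  nc : ¬ IsMulCommutative F

omit [Finite G] in
theorem Hy.ncL (h : Hy p D F) {A B : Subgroup G} (hA : A ∈ D) (hB : B ∈ D) (hne : A ≠ B) :
    ¬ IsMulCommutative ↥(A ⊔ B) := by
  intro hc
  obtain ⟨e⟩ := h.iso A hA B hB hne
  exact h.nc ⟨⟨fun a b => e.symm.injective (by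
    rw [map_mul, map_mul]; exact hc.is_comm.comm _ _)⟩⟩

theorem Hy.not_norm (h : Hy p D F) {A B : Subgroup G} (hA : A ∈ D) (hB : B ∈ D) (hne : A ≠ B) :
    ¬ B ≤ normalizer (A : Set G) := by
  intro hn
  have := comm_of_card h.pp (h.card A hA)
  have := comm_of_card h.pp (h.card B hB)
  exact h.ncL hA hB hne
    (H3.isMulCommutative_sup (cent_of_norm h.pp (h.card A hA) (h.card B hB) hn))

theorem Hy.not_pgroup (h : Hy p D F) {A B : Subgroup G} (hA : A ∈ D) (hB : B ∈ D) (hne : A ≠ B) :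
    ¬ IsPGroup p ↥(A ⊔ B) := by
  intro hP
  have : Fact p.Prime := ⟨h.pp⟩
  have h1 : (A ⊔ B) ⊓ normalizer (A : Set G) < A ⊔ B :=
    lt_of_le_of_ne inf_le_left fun e =>
      h.not_norm hA hB hne (le_sup_right.trans (e.ge.trans inf_le_right))
  obtain ⟨g, hg, hg'⟩ := SetLike.exists_of_lt (lt_inf_normalizer_of_lt hP h1)
  have h2 : cj g A ≤ normalizer (A : Set G) := by
    rintro _ ⟨a, ha, rfl⟩
    exact ((mem_normalizer_iff.1 hg.2 a).1 ⟨mem_sup_left ha, le_normalizer ha⟩).2
  refine h.not_norm hA (h.inv A hA g) (fun e => hg' ⟨hg.1, ?_⟩) h2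
  exact mem_normalizer_iff_conj_smul_eq.2 e.symm

theorem Hy.line (h : Hy p D F) {A B C E : Subgroup G} (hA : A ∈ D) (hB : B ∈ D) (hC : C ∈ D)
    (hE : E ∈ D) (h1 : C ≤ A ⊔ B) (h2 : E ≤ A ⊔ B) (hne : C ≠ E) : C ⊔ E = A ⊔ B := by
  have hAB : A ≠ B := by
    rintro rfl
    rw [sup_idem] at h1 h2
    exact hne ((eq_of_le_card (h.card C hC) (h.card A hA) h1).trans
      (eq_of_le_card (h.card E hE) (h.card A hA) h2).symm)
  obtain ⟨e⟩ := h.iso A hA B hB hAB
  obtain ⟨e'⟩ := h.iso C hC E hE hne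
  exact eq_of_le_of_card_ge (sup_le h1 h2)
    (by rw [Nat.card_congr e.toEquiv, Nat.card_congr e'.toEquiv])

/-- the structure of the subgroup generated by two distinct members -/
theorem Hy.pair (h : Hy p D F) {A B : Subgroup G} (hA : A ∈ D) (hB : B ∈ D) (hne : A ≠ B) :
    ∃ r : ℕ, r.Prime ∧ r ≠ p ∧ r ∣ Nat.card F ∧ (∃ k, Nat.card F ∣ p * r ^ k) ∧
      IsPGroup r ↥⁅A ⊔ B, A ⊔ B⁆ := by
  have : Fact p.Prime := ⟨h.pp⟩
  obtain ⟨e⟩ := h.iso A hA B hB hne
  have hcard : Nat.card ↥(A ⊔ B) = Nat.card F := Nat.card_congr e.toEquiv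
  obtain ⟨r, hr, R, hRL, hLR, pR, hnc⟩ :=
    exists_noncentral (S0205.result (by rw [hcard]; exact h.odd)) (h.ncL hA hB hne)
  have : Fact r.Prime := ⟨hr⟩
  -- some member inside `A ⊔ B` is not normalised by `R`
  have key : ∀ C ∈ D, ∀ E ∈ D, C ≠ E → C ≤ A ⊔ B → R ≤ normalizer (C : Set G) →
      R ≤ normalizer (E : Set G) → R ≤ centralizer (C : Set G) := by
    intro C hC E hE hCE hCL h1 h2
    rcases le_or_inf h.pp (h.card C hC) R with h3 | h3
    · exact absurd (h3.trans h2) (h.not_norm hE hC hCE.symm)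
    · intro x hx c hc
      have h4 : c * x * c⁻¹ * x⁻¹ ∈ C ⊓ R := by
        refine mem_inf.2 ⟨?_, mul_mem ((mem_normalizer_iff.1 (hLR (hCL hc)) x).1 hx) (inv_mem hx)⟩
        have := mul_mem hc ((mem_normalizer_iff.1 (h1 hx) _).1 (inv_mem hc))
        simpa only [mul_assoc] using this
      rw [h3, mem_bot] at h4
      calc c * x = c * x * c⁻¹ * x⁻¹ * (x * c) := by group
        _ = x * c := by rw [h4, one_mul]
  obtain ⟨C, hC, hCL, hn⟩ : ∃ C ∈ D, C ≤ A ⊔ B ∧ ¬ R ≤ normalizer (C : Set G) := by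
    by_contra hc
    push Not at hc
    have h1 := hc A hA le_sup_left
    have h2 := hc B hB le_sup_right
    apply hnc
    rw [H3.centralizer_sup]
    exact le_inf (key A hA B hB hne le_sup_left h1 h2) (key B hB A hA hne.symm le_sup_right h2 h1)
  obtain ⟨x, hx, hx'⟩ := SetLike.not_le_iff_exists.1 hn
  have h5 : cj x C ≤ C ⊔ R := by
    rintro _ ⟨c, hc, rfl⟩
    exact mul_mem (mul_mem (mem_sup_right hx) (mem_sup_left hc)) (inv_mem (mem_sup_right hx))
  have h6 : A ⊔ B = C ⊔ R := by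
    refine le_antisymm ?_ (sup_le hCL hRL)
    rw [← h.line hA hB hC (h.inv C hC x) hCL (h5.trans (sup_le hCL hRL))
      fun e => hx' (mem_normalizer_iff_conj_smul_eq.2 e.symm)]
    exact sup_le le_sup_left h5
  have pC : IsPGroup p C := IsPGroup.of_card (n := 1) (by rw [h.card C hC, pow_one])
  obtain ⟨k, hk⟩ := IsPGroup.iff_card.1 pR
  refine ⟨r, hr, ?_, ?_, ⟨k, ?_⟩, ?_⟩
  · rintro rfl
    apply h.not_pgroup hA hB hne
    rw [h6]
    exact pC.to_sup_of_normal_right' pR (hCL.trans hLR)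
  · rw [← hcard]
    refine dvd_trans ?_ (card_dvd_of_le hRL)
    rw [hk]
    refine dvd_pow_self r ?_
    rintro rfl
    apply hnc
    rw [pow_zero, card_eq_one] at hk
    rw [hk]
    exact bot_le
  · rw [← hcard, h6, ← hk, ← h.card C hC]
    exact H3.card_sup_dvd_of_le_normalizer (hCL.trans hLR)
  · refine pR.to_le ?_
    have hN : (R.subgroupOf (A ⊔ B)).Normal := (normal_subgroupOf_iff_le_normalizer hRL).2 hLR
    have := comm_of_card h.pp (h.card C hC)
    have h7 := hN.commutator_le_of_self_sup_commutative_eq_top (H := C.subgroupOf (A ⊔ B))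
      (by rw [← subgroupOf_sup hRL hCL, sup_comm R C, ← h6, subgroupOf_self]) inferInstance
    rw [← map_subtype_commutator]
    rintro _ ⟨y, hy, rfl⟩
    exact h7 hy

theorem Hy.psup (h : Hy p D F) {A B : Subgroup G} (hA : A ∈ D) (hB : B ∈ D) :
    A ⊔ B = ⁅A ⊔ B, A ⊔ B⁆ ⊔ A := by
  have : Fact p.Prime := ⟨h.pp⟩
  have hle : ⁅A ⊔ B, A ⊔ B⁆ ≤ A ⊔ B := by
    rw [← map_subtype_commutator]
    exact map_subtype_le _
  refine le_antisymm (sup_le le_sup_right ?_) (sup_le hle le_sup_left)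
  by_cases hne : A = B
  · rw [← hne]
    exact le_sup_right
  obtain ⟨r, hr, hrp, -, ⟨k, hk⟩, -⟩ := h.pair hA hB hne
  obtain ⟨e⟩ := h.iso A hA B hB hne
  rw [← Nat.card_congr e.toEquiv] at hk
  have syl : ∀ C ∈ D, C ≤ A ⊔ B → IsSylowIn p C (A ⊔ B) := fun C hC hCL => by
    refine ⟨hCL, IsPGroup.of_card (n := 1) (by rw [h.card C hC, pow_one]), fun hd => ?_⟩
    rw [card_eq_card_mul_relIndex hCL, h.card C hC] at hk
    have h1 := hd.trans (Nat.dvd_of_mul_dvd_mul_left h.pp.pos hk)
    exact hrp ((Nat.prime_dvd_prime_iff_eq h.pp hr).1 (h.pp.dvd_of_dvd_pow h1)).symm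
  obtain ⟨x, hx, hxe⟩ := (syl A hA le_sup_left).exists_conj_eq (syl B hB le_sup_right)
  intro b hb
  rw [← hxe, mem_conj_smul] at hb
  have h2 : b = ⁅x, x⁻¹ * b * x⁆ * (x⁻¹ * b * x) := by
    rw [commutatorElement_def]
    group
  rw [h2]
  exact mul_mem (mem_sup_left (commutator_mem_commutator hx (mem_sup_left hb))) (mem_sup_right hb)

end Main

theorem start : StartStmt.{u, v} := by
  intro G _ _ hG p hp p2 D hcard hinv hgen F _ _ hodd hiso
  have hall : (∀ A ∈ D, ∀ B ∈ D, IsMulCommutative ↥(A ⊔ B)) → False := by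
    intro hc
    apply hG
    have h1 : ∀ A ∈ D, A ≤ centralizer ((⊤ : Subgroup G) : Set G) := fun A hA => by
      rw [le_centralizer_iff, ← hgen]
      refine sSup_le fun B hB => ?_
      have := hc A hA B hB
      exact le_sup_right.trans ((le_centralizer (A ⊔ B)).trans (H3.centralizer_anti le_sup_left))
    have h2 : (⊤ : Subgroup G) ≤ centralizer ((⊤ : Subgroup G) : Set G) := by
      conv_lhs => rw [← hgen]
      exact sSup_le h1
    exact ⟨⟨fun a b => h2 (mem_top b) a (mem_top a)⟩⟩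
  have hself : ∀ A ∈ D, IsMulCommutative ↥(A ⊔ A) := fun A hA => by
    rw [sup_idem]
    exact comm_of_card hp (hcard A hA)
  have hnc : ¬ IsMulCommutative F := fun hc => hall fun A hA B hB => by
    by_cases hne : A = B
    · rw [← hne]
      exact hself A hA
    · obtain ⟨e⟩ := hiso A hA B hB hne
      exact ⟨⟨fun a b => e.injective (by
        rw [map_mul, map_mul]; exact hc.is_comm.comm _ _)⟩⟩
  have h : Hy p D F := ⟨hp, hcard, hinv, hodd, hiso, hnc⟩
  obtain ⟨A0, hA0, B0, hB0, hne0⟩ : ∃ A ∈ D, ∃ B ∈ D, A ≠ B := by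
    by_contra hc
    push Not at hc
    exact hall fun A hA B hB => by
      rw [← hc A hA B hB]
      exact hself A hA
  obtain ⟨r, hr, hrp, hrF, ⟨k, hk⟩, -⟩ := h.pair hA0 hB0 hne0
  have hbot : ∀ A ∈ D, ⁅A ⊔ A, A ⊔ A⁆ = ⊥ := fun A hA => commutator_self_eq_bot_iff.2 (hself A hA)
  refine ⟨r, ⟨hp, p2, hr, ?_, hrp, hcard, hinv, fun A hA B hB C hC E hE => h.line hA hB hC hE⟩,
    fun A hA B hB => ?_, fun A hA B hB => h.psup hA hB, ?_⟩
  · rintro rfl
    exact (Nat.not_even_iff_odd.2 hodd) (even_iff_two_dvd.2 hrF)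
  · by_cases hne : A = B
    · rw [← hne, hbot A hA]
      exact IsPGroup.of_bot
    · obtain ⟨r', hr', hrp', hrF', -, hP⟩ := h.pair hA hB hne
      rcases (Nat.Prime.dvd_mul hr').1 (hrF'.trans hk) with h1 | h1
      · exact absurd ((Nat.prime_dvd_prime_iff_eq hr' hp).1 h1) hrp'
      · rwa [← (Nat.prime_dvd_prime_iff_eq hr' hr).1 (hr'.dvd_of_dvd_pow h1)]
  · by_cases hc : IsMulCommutative ↥(commutator F)
    · left
      intro A hA B hB
      by_cases hne : A = B
      · rw [← hne, hbot A hA]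
        infer_instance
      · obtain ⟨e⟩ := hiso A hA B hB hne
        exact (comm_iff_of_equiv e).2 hc
    · right
      intro A hA B hB hne h1
      obtain ⟨e⟩ := hiso A hA B hB hne
      exact hc ((comm_iff_of_equiv e).1 h1)

end Cfsg.Agent.H8.FsS
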