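import Cfsg.Agent.H56.FSDefs
import Cfsg.Agent.S1221
import Cfsg.Agent.S1324
import Cfsg.Agent.H8.SylowIn
import Cfsg.Agent.H10.SylowUtil
import Cfsg.Agent.H3.Cores
import Cfsg.Agent.H89.PBasic

/-!
Two functions on involutions: the two-class configuration in a Sylow `2`-subgroup.
-/

set_option autoImplicit false

namespace Cfsg.Agent.H8.FsA

open Subgroup Cfsg.Agent.H56.FS
open scoped Pointwise

universe u

variable {G : Type*} [Group G]

theorem mem_Ce {x y : G} : y ∈ Ce x ↔ Commute y x := mem_centralizer_singleton_iff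

theorem sq_one {t : G} (h : orderOf t = 2) : t * t = 1 := by
  rw [← pow_two, ← h, pow_orderOf_eq_one]

theorem ord_two {t : G} (h1 : t ≠ 1) (h2 : t * t = 1) : orderOf t = 2 :=
  have : Fact (Nat.Prime 2) := ⟨Nat.prime_two⟩
  orderOf_eq_prime (by rw [pow_two, h2]) h1

theorem ne_one_of {t : G} (h : orderOf t = 2) : t ≠ 1 := by
  rintro rfl
  simp at h

theorem ce_le_norm {W Y : G → Subgroup G} (h : TW W Y) {t : G} (ht : orderOf t = 2) :
    Ce t ≤ normalizer (W t : Set G) := by
  intro g hg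
  have h1 := h.wcj t g ht
  rw [(mem_Ce.1 hg).eq, mul_inv_cancel_right] at h1
  exact mem_normalizer_iff_conj_smul_eq.2 h1.symm

/-- a `2`-group normalising a subgroup it meets has a central involution inside it -/
theorem exists_central_inv [Finite G] {S N : Subgroup G} (hS : IsPGroup 2 S)
    (hN : S ≤ normalizer (N : Set G)) (hne : S ⊓ N ≠ ⊥) :
    ∃ z, z ∈ S ∧ z ∈ N ∧ orderOf z = 2 ∧ S ≤ Ce z := by
  have : Fact (Nat.Prime 2) := ⟨Nat.prime_two⟩
  have hn : (N.subgroupOf S).Normal := ⟨fun n hn g => by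
    rw [mem_subgroupOf] at hn ⊢
    exact (mem_normalizer_iff.1 (hN g.2) n).1 hn⟩
  have h1 : N.subgroupOf S ≠ ⊥ := by
    intro h
    apply hne
    rw [eq_bot_iff]
    intro x hx
    have : (⟨x, hx.1⟩ : S) ∈ N.subgroupOf S := hx.2
    rw [h] at this
    exact congrArg Subtype.val (mem_bot.1 this)
  have h2 := H89.inf_center_ne_bot hS h1
  obtain ⟨z, hz, h3⟩ := H10.exists_orderOf_eq_of_ne_bot (p := 2)
    (hS.to_subgroup (N.subgroupOf S ⊓ center S)) h2
  refine ⟨z, z.2, hz.1, by rw [Subgroup.orderOf_coe, h3], fun x hx => mem_Ce.2 ?_⟩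
  exact congrArg Subtype.val (mem_center_iff.1 hz.2 ⟨x, hx⟩)

/-- a Sylow subgroup of `H` has a central involution in an even subgroup normalised by `H` -/
theorem exists_central_inv' [Finite G] {S H N : Subgroup G} (hS : IsSylowIn 2 S H) (hNH : N ≤ H)
    (hN : H ≤ normalizer (N : Set G)) (he : Even (Nat.card N)) :
    ∃ z, z ∈ S ∧ z ∈ N ∧ orderOf z = 2 ∧ S ≤ Ce z := by
  have : Fact (Nat.Prime 2) := ⟨Nat.prime_two⟩
  refine exists_central_inv hS.isPGroup (hS.le.trans hN) fun hb => ?_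
  have h1 := (hS.inf_of_le_normalizer hN).not_dvd
  rw [hb, inf_of_le_right hNH, relIndex_bot_left] at h1
  exact h1 he.two_dvd

/-- the step through the strongly embedded normaliser -/
theorem exists_ne [Finite G] {W Y : G → Subgroup G} (h : TW W Y) (hO : Cfsg.oddCore G = ⊥)
    (S : Sylow 2 G) {z : G} (oz : orderOf z = 2) (hS : (S : Subgroup G) ≤ Ce z) :
    ∃ t ∈ (S : Subgroup G), orderOf t = 2 ∧ W t ≠ W z := by
  have : Fact (Nat.Prime 2) := ⟨Nat.prime_two⟩
  by_contra hc
  push Not at hc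
  have hne : W z ≠ ⊥ := fun hb => h.wne z oz (by rw [hb, bot_inf_eq])
  apply hne
  rw [eq_bot_iff, ← hO]
  set M := normalizer (W z : Set G) with hM
  have hC : Ce z ≤ M := ce_le_norm h oz
  have hcop : (Nat.card (W z)).Coprime 2 := (Nat.coprime_two_right).2 (h.wodd z oz)
  by_cases ht : M = ⊤
  · have : (W z).Normal := normalizer_eq_top_iff.1 ht
    exact H3.le_pPrimeCore hcop
  have key : ∀ v ∈ M, orderOf v = 2 → W v = W z := fun v hv v2 => by
    obtain ⟨m, hm, h1⟩ := H10.exists_conj_mem_sylow S (hS.trans hC) (k := 1)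
      (by rw [pow_one, ← v2, pow_orderOf_eq_one]) hv
    have h2 := hc _ h1 (by rw [← v2]; exact (MulAut.conj m).orderOf_eq v)
    rw [h.wcj v m v2] at h2
    have h3 : MulAut.conj m⁻¹ • W z = W z := mem_normalizer_iff_conj_smul_eq.1 (inv_mem hm)
    rw [← h3, ← h2]
    exact (conj_inv_smul_conj_smul _ _).symm
  have hse : IsStronglyEmbedded M := by
    refine ⟨ht, H10.even_card_iff.2 ⟨z, hC (mem_Ce.2 (Commute.refl z)), oz⟩, fun g hg => ?_⟩
    refine H10.odd_card_iff.2 fun v hv v2 => hg ?_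
    obtain ⟨h1, w, hw, rfl⟩ := hv
    have w2 : orderOf w = 2 := by rw [← v2]; exact ((MulAut.conj g).orderOf_eq w).symm
    have e1 := key _ h1 v2
    have e2 := h.wcj w g w2
    rw [key w hw w2] at e2
    exact mem_normalizer_iff_conj_smul_eq.2 (e2.symm.trans e1)
  refine le_trans ?_ (S1221.result M hse)
  have hle : W z ≤ M := le_normalizer
  have h1 : (W z).subgroupOf M ≤ oddCore M := H3.le_pPrimeCore (by
    rwa [Nat.card_congr (subgroupOfEquivOfLe hle).toEquiv])
  intro x hx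
  exact ⟨⟨x, hle hx⟩, h1 hx, rfl⟩

/-- an elementary abelian `2`-group of order at least `4` centralising `t` has a subgroup of index
at most `2` on whose involutions `W` takes the value `W t` -/
theorem exists_hyper [Finite G] {W Y : G → Subgroup G} (h : TW W Y) {E : Subgroup G}
    (hE : Cfsg.IsElementaryAbelian 2 E) (h4 : 2 ^ 2 ≤ Nat.card E) {t : G} (ot : orderOf t = 2)
    (hEt : E ≤ Ce t) :
    ∃ B : Subgroup G, B ≤ E ∧ B.relIndex E ≤ 2 ∧ ∀ x ∈ B, x ≠ 1 → W x = W t := by
  have : Fact (Nat.Prime 2) := ⟨Nat.prime_two⟩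
  have hne : W t ≠ ⊥ := fun hb => h.wne t ot (by rw [hb, bot_inf_eq])
  have h1 := S1324.result 2 E (W t) hE h4
    (fun hd => (Nat.not_even_iff_odd.2 (h.wodd t ot)) (even_iff_two_dvd.2 hd))
    (hEt.trans (ce_le_norm h ot))
  by_contra hc
  apply hne
  rw [h1, iSup_eq_bot]
  rintro ⟨B, hB, hi⟩
  by_contra hb
  refine hc ⟨B, hB, hi, fun x hx x1 => ?_⟩
  refine h.weq x t (ord_two x1 (by rw [← pow_two]; exact hE.2 x (hB hx))) ot
    (mem_Ce.1 (hEt (hB hx))) fun hb' => hb ?_
  rw [eq_bot_iff, ← hb']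
  exact inf_le_inf_left _ (centralizer_le (Set.singleton_subset_iff.2 hx))

theorem inv_step [Finite G] {W Y : G → Subgroup G} (h : TW W Y) {z t : G} (oz : orderOf z = 2)
    (ot : orderOf t = 2) (zt : Commute z t) (hne : W t ≠ W z) (s : G) (os : orderOf s = 2)
    (sz : Commute s z) (st : Commute s t) : s = z ∨ s = t ∨ s = t * z := by
  classical
  by_contra hc
  push Not at hc
  obtain ⟨h1, h2, h3⟩ := hc
  have htz : t ≠ z := fun e => hne (by rw [e])
  set E : Subgroup G := closure {s, t, z} with hE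
  have hcomm : ∀ a ∈ ({s, t, z} : Set G), ∀ b ∈ ({s, t, z} : Set G), a * b = b * a := by
    rintro a (rfl | rfl | rfl) b (rfl | rfl | rfl)
    exacts [rfl, st.eq, sz.eq, st.eq.symm, rfl, zt.eq.symm, sz.eq.symm, zt.eq, rfl]
  have hcE : ∀ a ∈ E, ∀ b ∈ E, a * b = b * a := by
    have h4 : ∀ a ∈ ({s, t, z} : Set G), E ≤ Ce a := fun a ha =>
      (closure_le _).2 fun b hb => mem_Ce.2 (hcomm b hb a ha)
    intro a ha b hb
    have h5 : E ≤ Ce a := (closure_le _).2 fun c hc => mem_Ce.2 (mem_Ce.1 (h4 c hc ha)).symm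
    exact (mem_Ce.1 (h5 hb)).eq.symm
  have hsE : s ∈ E := subset_closure (by simp)
  have htE : t ∈ E := subset_closure (by simp)
  have hzE : z ∈ E := subset_closure (by simp)
  have hel : Cfsg.IsElementaryAbelian 2 E := by
    refine ⟨⟨⟨fun a b => Subtype.ext (hcE a a.2 b b.2)⟩⟩, fun a ha => ?_⟩
    rw [pow_two]
    induction ha using closure_induction with
    | mem x hx =>
      rcases hx with rfl | rfl | rfl
      exacts [sq_one os, sq_one ot, sq_one oz]
    | one => simp
    | mul x y hx hy ihx ihy =>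
      calc x * y * (x * y) = x * (y * x) * y := by group
        _ = x * x * (y * y) := by rw [hcE y hy x hx]; group
        _ = 1 := by rw [ihx, ihy, one_mul]
    | inv x hx ih => rw [← mul_inv_rev, ih, inv_one]
  have h5 : 5 ≤ Nat.card E := by
    have hs : (↑({1, z, t, t * z, s} : Finset G) : Set G) ⊆ E := by
      intro x hx
      simp only [Finset.coe_insert, Finset.coe_singleton, Set.mem_insert_iff,
        Set.mem_singleton_iff] at hx
      rcases hx with rfl | rfl | rfl | rfl | rfl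
      exacts [one_mem _, hzE, htE, mul_mem htE hzE, hsE]
    have hc5 : ({1, z, t, t * z, s} : Finset G).card = 5 := by
      have z1 := ne_one_of oz
      have t1 := ne_one_of ot
      have s1 := ne_one_of os
      have tz1 : t * z ≠ 1 := fun e => htz (by
        calc t = t * z * z := by rw [mul_assoc, sq_one oz, mul_one]
          _ = z := by rw [e, one_mul])
      have a1 : z ≠ t * z := fun e => t1 (by simpa using e.symm)
      have a2 : t ≠ t * z := fun e => z1 (by simpa using e.symm)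
      rw [Finset.card_insert_of_notMem (by simp [z1.symm, t1.symm, s1.symm, tz1.symm]),
        Finset.card_insert_of_notMem (by simp only [Finset.mem_insert, Finset.mem_singleton]; push Not; exact ⟨htz.symm, a1, h1.symm⟩),
        Finset.card_insert_of_notMem (by simp only [Finset.mem_insert, Finset.mem_singleton]; push Not; exact ⟨a2, h2.symm⟩),
        Finset.card_pair h3.symm]
    have := Set.ncard_le_ncard hs (Set.toFinite _)
    rw [Set.ncard_coe_finset, hc5] at this
    exact this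
  obtain ⟨B, hB, iB, wB⟩ := exists_hyper h hel (by omega) ot fun a ha => mem_Ce.2 (hcE a ha t htE)
  obtain ⟨B', hB', iB', wB'⟩ :=
    exists_hyper h hel (by omega) oz fun a ha => mem_Ce.2 (hcE a ha z hzE)
  have hb : B ⊓ B' = ⊥ := by
    rw [eq_bot_iff]
    intro x hx
    by_contra x1
    exact hne ((wB x hx.1 x1).symm.trans (wB' x hx.2 x1))
  have h6 := relIndex_inf_le (H := B) (K := B') (L := E)
  rw [hb, relIndex_bot_left] at h6
  have := Nat.mul_le_mul iB iB'
  omega

theorem twoA : TwoAStmt.{u} := by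
  intro G _ _ W Y hev hO h
  have : Fact (Nat.Prime 2) := ⟨Nat.prime_two⟩
  obtain ⟨S0⟩ : Nonempty (Sylow 2 G) := inferInstance
  obtain ⟨z, -, -, oz, hS0⟩ := exists_central_inv' (isSylowIn_top S0) (le_refl ⊤)
    le_normalizer (by rwa [card_top])
  obtain ⟨t, ht0, ot, hne⟩ := exists_ne h hO S0 oz hS0
  have zt : Commute z t := (mem_Ce.1 (hS0 ht0)).symm
  have hinv := inv_step h oz ot zt hne
  -- the four-group generated by `z, t`
  have hzp : IsPGroup 2 (zpowers z) :=
    H10.isPGroup_zpowers_of_pow (k := 1) (by rw [pow_one, pow_two, sq_one oz])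
  have htp : IsPGroup 2 (zpowers t) :=
    H10.isPGroup_zpowers_of_pow (k := 1) (by rw [pow_one, pow_two, sq_one ot])
  have hU : IsPGroup 2 (zpowers z ⊔ zpowers t : Subgroup G) := by
    refine hzp.to_sup_of_normal_right' htp ?_
    rw [zpowers_le]
    refine centralizer_le_normalizer _ ?_
    rw [mem_centralizer_iff]
    rintro _ ⟨k, rfl⟩
    exact (zt.symm.zpow_left k).eq
  have hUle : zpowers z ⊔ zpowers t ≤ Ce z ⊓ Ce t := by
    refine sup_le ?_ ?_ <;> rw [zpowers_le]
    exacts [⟨mem_Ce.2 (Commute.refl z), mem_Ce.2 zt⟩, ⟨mem_Ce.2 zt.symm, mem_Ce.2 (Commute.refl t)⟩]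
  have hzU : z ∈ zpowers z ⊔ zpowers t := mem_sup_left (mem_zpowers z)
  have htU : t ∈ zpowers z ⊔ zpowers t := mem_sup_right (mem_zpowers t)
  obtain ⟨Q, hQ, hUQ⟩ := exists_isSylowIn_ge hU hUle
  obtain ⟨S1, hS1, hQS⟩ := exists_isSylowIn_ge hQ.isPGroup (hQ.le.trans inf_le_left)
  have hS1t : IsSylowIn 2 S1 ⊤ :=
    (isSylowIn_top S0).of_card_ge hS1.isPGroup le_top (hS1.card_le S0.2 hS0)
  obtain ⟨S, rfl⟩ := isSylowIn_top_iff.1 hS1t
  have hQe : (S : Subgroup G) ⊓ Ce t = Q :=
    hQ.eq_of_le hS1.isPGroup.to_inf_left (inf_le_inf_right _ hS1.le)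
      (le_inf hQS (hQ.le.trans inf_le_right))
  have wz : W z ⊓ Ce t = ⊥ := by
    by_contra hb
    exact hne (h.weq t z ot oz zt.symm hb)
  have wt : W t ⊓ Ce z = ⊥ := by
    by_contra hb
    exact hne (h.weq z t oz ot zt hb).symm
  have cen : ∀ {a y : G}, orderOf a = 2 → y ∈ Y a → W a ≤ Ce y := fun {a y} oa hy w hw =>
    mem_Ce.2 (mem_centralizer_iff.1 (h.yw a oa hy) w hw)
  have zn : z ∉ Y t := fun hy => h.wne t ot (by
    rw [eq_bot_iff, ← wt]
    exact le_inf inf_le_left (inf_le_left.trans (cen ot hy)))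
  have tzn : t * z ∉ Y t := fun hy => h.wne t ot (by
    rw [eq_bot_iff, ← wt]
    refine le_inf inf_le_left fun w hw => mem_Ce.2 ?_
    have h1 := mem_Ce.1 (cen ot hy hw.1)
    have h2 := (mem_Ce.1 hw.2).inv_right.mul_right h1
    rwa [inv_mul_cancel_left] at h2)
  have tn : t ∉ Y z := fun hy => h.wne z oz (by
    rw [eq_bot_iff, ← wz]
    exact le_inf inf_le_left (inf_le_left.trans (cen oz hy)))
  have tzn' : t * z ∉ Y z := fun hy => h.wne z oz (by
    rw [eq_bot_iff, ← wz]
    refine le_inf inf_le_left fun w hw => mem_Ce.2 ?_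
    have h1 := mem_Ce.1 (cen oz hy hw.1)
    have h2 := h1.mul_right (mem_Ce.1 hw.2).inv_right
    rwa [mul_inv_cancel_right] at h2)
  have zY : z ∈ Y z := by
    obtain ⟨a, -, haY, oa, hc⟩ := exists_central_inv' hS1 (h.yc z oz) (h.ynm z oz) (h.yev z oz)
    rcases hinv a oa (mem_Ce.1 (hc (hQS (hUQ hzU)))).symm (mem_Ce.1 (hc (hQS (hUQ htU)))).symm
      with rfl | rfl | rfl
    exacts [haY, absurd haY tn, absurd haY tzn']
  have tY : t ∈ Y t := by
    obtain ⟨T, hT, hUT⟩ := exists_isSylowIn_ge hU (hUle.trans inf_le_right)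
    obtain ⟨a, -, haY, oa, hc⟩ := exists_central_inv' hT (h.yc t ot) (h.ynm t ot) (h.yev t ot)
    rcases hinv a oa (mem_Ce.1 (hc (hUT hzU))).symm (mem_Ce.1 (hc (hUT htU))).symm
      with rfl | rfl | rfl
    exacts [absurd haY zn, haY, absurd haY tzn]
  refine ⟨S, z, t, oz, ot, hQS (hUQ hzU), hQS (hUQ htU), hS1.le, fun R hR h1 h2 => ?_, hinv, zY, tY,
    zn, tzn, wz⟩
  rw [hQe] at h1 ⊢
  exact hQ.eq_of_le hR h2 h1

end Cfsg.Agent.H8.FsA
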