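import Cfsg.Agent.H98.S94Pa1

/-! An involution with centraliser `A₅ × 2 × O`: the transfer in the special case. -/

set_option autoImplicit false

namespace Cfsg.Agent.H8.S94Pb1

open Subgroup Cfsg.Agent.H8 Cfsg.Agent.H46.S94 Cfsg.Agent.H98.S94
open Cfsg.Agent.H83 (cj mem_cj card_cj isPGroup_cj isPGroup_sup)

universe u

variable {X : Type u} [Group X] [Finite X] {t σ : X} {Λ O Z D P : Subgroup X}

theorem card_le {E : Subgroup X} {y : X} (hZ : ∀ z ∈ Z, ∀ x ∈ E, x * z = z * x)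
    (h : ∀ x ∈ E, y * x * y⁻¹ * x⁻¹ ∈ Z) :
    Nat.card E ≤ Nat.card (E ⊓ centralizer {y} : Subgroup X) * Nat.card Z := by
  let φ : E →* Z := MonoidHom.mk' (fun x => ⟨_, h x x.2⟩) fun a b => Subtype.ext (by
    change y * (a * b) * y⁻¹ * (a * b : X)⁻¹ = y * a * y⁻¹ * (a : X)⁻¹ * (y * b * y⁻¹ * (b : X)⁻¹)
    rw [mul_assoc _ (a : X)⁻¹, hZ _ (h b b.2) _ (inv_mem a.2)]
    group)
  have k : φ.ker = (centralizer {y}).subgroupOf E := by
    ext x
    rw [MonoidHom.mem_ker, Subtype.ext_iff, mem_subgroupOf, mem_centralizer_singleton_iff]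
    change y * x * y⁻¹ * (x : X)⁻¹ = 1 ↔ _
    rw [mul_inv_eq_one, mul_inv_eq_iff_eq_mul, eq_comm]
  rw [card_eq_card_mul_relIndex (inf_le_left : E ⊓ centralizer {y} ≤ E), inf_relIndex_left,
    relIndex, ← k, index_ker]
  exact Nat.mul_le_mul_left _ (card_le_card_group _)

omit [Finite X] in
theorem two_Pt (h : A5C t σ Λ O Z) (iv : IV t σ Z P) :
    IsPGroup 2 (P ⊔ zpowers t : Subgroup X) := by
  rw [sup_comm]
  exact isPGroup_sup (IsPGroup.of_card (n := 1) (by rw [Nat.card_zpowers, ord_t h, pow_one]))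
    iv.two (zpowers_le.2 iv.tN)

theorem cen_Q (h : A5C t σ Λ O Z) (iv : IV t σ Z P) {Q : Subgroup X} (hQ : IsPGroup 2 Q)
    (le : P ⊔ zpowers t ≤ Q) {x : X} (hx : x ∈ Q) (c : x * t = t * x) : x ∈ Z ⊔ zpowers t :=
  (eq_Zt h (fun m => iv.tP (iv.ZP m)) (R := Q ⊓ centralizer {t}) hQ.to_inf_left
    inf_le_right (fun z hz => ⟨le (mem_sup_left (iv.ZP hz)),
      mem_centralizer_singleton_iff.2 (h.Lt z (h.ZL hz))⟩)
    ⟨le (mem_sup_right (mem_zpowers t)), mem_centralizer_singleton_iff.2 rfl⟩).ge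
    ⟨hx, mem_centralizer_singleton_iff.2 c⟩

/-- `C_P(t) = Z` -/
theorem cen_P (h : A5C t σ Λ O Z) (iv : IV t σ Z P) {x : X} (hx : x ∈ P) (c : x * t = t * x) :
    x ∈ Z :=
  (mem_Tt h.tt (centralizer_le_normalizer _ fun z hz => h.Lt z (h.ZL hz))
    (cen_Q h iv (two_Pt h iv) le_rfl (mem_sup_left hx) c)).resolve_right
    fun m => iv.tP ((P.mul_mem_cancel_left hx).1 (iv.ZP m))

theorem mem_D (h : A5C t σ Λ O Z) (iv : IV t σ Z P) (sp : Sp Z P) (d4 : D4 t σ Z D) (DP : D ≤ P)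
    {x : X} (hx : x ∈ P) (hz : t * x * t⁻¹ * x⁻¹ ∈ Z) : x ∈ D := by
  have ZC : ∀ z ∈ Z, ∀ x ∈ P, x * z = z * x := fun z hz x hx => sp.ZC hz x hx
  let E : Subgroup X :=
    { carrier := {x | x ∈ P ∧ t * x * t⁻¹ * x⁻¹ ∈ Z}
      one_mem' := ⟨one_mem _, by simp⟩
      mul_mem' := fun {a b} ha hb => ⟨mul_mem ha.1 hb.1, by
        have := mul_mem ha.2 hb.2
        rw [mul_assoc _ a⁻¹, ZC _ hb.2 _ (inv_mem ha.1)] at this
        simpa only [mul_assoc, mul_inv_rev, inv_mul_cancel_left] using this⟩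
      inv_mem' := fun {a} ha => ⟨inv_mem ha.1, by
        have e := ZC _ (inv_mem ha.2) _ ha.1
        have : t * a⁻¹ * t⁻¹ * a⁻¹⁻¹ = (t * a * t⁻¹ * a⁻¹)⁻¹ := by
          refine mul_left_cancel (a := a) ?_
          rw [e]; group
        exact this ▸ inv_mem ha.2⟩ }
  have ti : t⁻¹ = t := inv_eq_of_mul_eq_one_right h.tt
  have le : D ≤ E := fun d hd => ⟨DP hd, by
    rw [ti, d4.inv d hd]; exact sp.sq _ (inv_mem (DP hd))⟩
  have h1 := card_le (E := E) (fun z hz x hx => ZC z hz x hx.1) fun x hx => hx.2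
  have h2 := card_le_of_le (show E ⊓ centralizer {t} ≤ Z from fun x hx =>
    cen_P h iv hx.1.1 (mem_centralizer_singleton_iff.1 hx.2))
  rw [h.cZ] at h1 h2
  exact (eq_of_le_of_card_ge le (by rw [d4.card]; omega)).ge ⟨hx, hz⟩

theorem pb1 : PB1Stmt.{u} := by
  intro X _ _ t σ Λ O Z D P h iv sp d4 DP
  have ti : t⁻¹ = t := inv_eq_of_mul_eq_one_right h.tt
  have ZC : ∀ z ∈ Z, ∀ x ∈ P, x * z = z * x := fun z hz x hx => sp.ZC hz x hx
  have tN : ∀ x ∈ P, t * x * t ∈ P := fun x hx => by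
    simpa only [ti] using (mem_normalizer_iff.1 iv.tN x).1 hx
  have tP : ∀ x ∈ P, x * t * (x * t) = 1 → x ∈ D := fun x hx e =>
    mem_D h iv sp d4 DP hx (by
      have : t * x * t⁻¹ = x⁻¹ := by
        rw [ti]; exact eq_inv_of_mul_eq_one_right (by rw [← e]; group)
      rw [this]; exact sp.sq _ (inv_mem hx))
  have cj2 : ∀ g, g * t * g⁻¹ * t * t * (g * t * g⁻¹ * t * t) = 1 := fun g => by
    rw [mul_assoc _ t t, h.tt, mul_one, conj_mul, h.tt, mul_one, mul_inv_cancel]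
  have tD : ∀ d ∈ D, ∃ p ∈ P, p * t * p⁻¹ = d * t := fun d hd => by
    let f : P ⧸ Z.subgroupOf P → D := fun q => ⟨q.out * t * (q.out : X)⁻¹ * t, tP _ (by
      simpa only [mul_assoc] using mul_mem q.out.2 (tN _ (inv_mem q.out.2))) (cj2 _)⟩
    have inj : Function.Injective f := fun a b e => by
      have e1 : a.out * t * (a.out : X)⁻¹ = b.out * t * (b.out : X)⁻¹ :=
        mul_right_cancel (congrArg Subtype.val e)
      rw [← a.out_eq', ← b.out_eq', QuotientGroup.eq]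
      refine cen_P h iv (a.out⁻¹ * b.out).2 ?_
      change (a.out : X)⁻¹ * b.out * t = t * ((a.out : X)⁻¹ * b.out)
      calc _ = (a.out : X)⁻¹ * (b.out * t * (b.out : X)⁻¹) * b.out := by group
        _ = _ := by rw [← e1]; group
    have h1 := card_eq_card_mul_relIndex iv.ZP
    rw [sp.card, h.cZ] at h1
    obtain ⟨q, hq⟩ := (inj.bijective_of_nat_card_le (by
      rw [d4.card]; change _ ≤ Z.relIndex P; omega)).2 ⟨d, hd⟩
    refine ⟨q.out, q.out.2, ?_⟩
    rw [← show _ = d from congrArg Subtype.val hq, mul_assoc _ t t, h.tt, mul_one]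
  have nP : ∀ g, g * t * g⁻¹ ∉ P := fun g hg => by
    generalize hy : g * t * g⁻¹ = y at hg
    have h1 := card_le (E := P) (y := y) ZC fun x hx => by
      have := mul_mem (mul_mem (sp.sq _ (mul_mem hg hx)) (sp.sq _ (inv_mem hg)))
        (sp.sq _ (inv_mem hx))
      rw [← mul_assoc, mul_assoc _ (y⁻¹ * y⁻¹), ← ZC _ (sp.sq _ (inv_mem hg)) _ (inv_mem hx)] at this
      simpa only [mul_assoc, mul_inv_cancel_left] using this
    have h2 := card_two h (isPGroup_cj (iv.two.to_inf_left (K := centralizer {y})) g⁻¹)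
      fun x hx => by
        have := mem_centralizer_singleton_iff.1 (mem_cj.1 hx).2
        rw [mem_centralizer_singleton_iff]
        calc x * t = g⁻¹ * (g⁻¹⁻¹ * x * g⁻¹ * y) * g := by rw [← hy]; group
          _ = t * x := by rw [this, ← hy]; group
    rw [card_cj] at h2
    rw [sp.card, h.cZ] at h1
    omega
  have tS : t ∈ P ⊔ zpowers t := mem_sup_right (mem_zpowers t)
  have syl : IsSylowIn 2 (P ⊔ zpowers t) ⊤ :=
    isSylowIn_of_maximal le_top (two_Pt h iv) fun Q hQ _ hle => by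
      by_contra hn
      obtain ⟨g, ⟨gQ, gN⟩, gS⟩ := SetLike.exists_of_lt (lt_inf_normalizer_of_lt hQ ⟨hle, hn⟩)
      obtain ⟨x, hx, e⟩ := tD _ (tP _ ((mem_Tt h.tt iv.tN
        ((mem_normalizer_iff.1 gN t).1 tS)).resolve_left (nP g)) (cj2 g))
      rw [mul_assoc _ t t, h.tt, mul_one] at e
      have m : x⁻¹ * g ∈ Z ⊔ zpowers t := cen_Q h iv hQ hle
        (Q.mul_mem (Q.inv_mem (hle (mem_sup_left hx))) gQ) (by
          calc x⁻¹ * g * t = x⁻¹ * (g * t * g⁻¹) * g := by group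
            _ = t * (x⁻¹ * g) := by rw [← e]; group)
      exact gS ((mul_mem_cancel_left (inv_mem (mem_sup_left hx))).1 (sup_le_sup_right iv.ZP _ m))
  obtain ⟨X0, n0, i0, t0⟩ := H87.thompson_transfer_involution
    (H87.odd_index_sylow syl.toSylowTop) (relIndex_Tt h.tt iv.tN iv.tP)
    ((pow_two t).trans h.tt) nP
  have fZ : ∀ z ∈ Z, Commute z σ → z = 1 := fun z hz c => fpf h (h.ZL hz) (Z_sq h hz) c
  have f2 : ∀ y ∈ P, Commute y σ → y * y = 1 := fun y hy c => fZ _ (sp.sq y hy) (c.mul_left c)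
  have fP : ∀ y ∈ P, Commute y σ → y = 1 := fun y hy c => by
    have st : Commute t σ := (h.Lt σ h.sL).symm
    have c' := c.mul_left ((st.mul_left c).mul_left st)
    have m := mul_mem hy (tN y hy)
    have e1 : y⁻¹ = y := inv_eq_of_mul_eq_one_right (f2 y hy c)
    have e2 := inv_eq_of_mul_eq_one_right (f2 _ m c')
    have e3 := fZ _ (cen_P h iv m (by
      nth_rewrite 2 [← e2]
      simp only [mul_inv_rev, e1, ti, mul_assoc, h.tt, mul_one]
      rw [← mul_assoc t t, h.tt, one_mul])) c'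
    refine fZ y (cen_P h iv hy ?_) c
    nth_rewrite 1 [← (eq_inv_of_mul_eq_one_right e3).trans e1]
    rw [mul_assoc, h.tt, mul_one]
  refine ⟨X0, tD, tP, syl, n0, i0, t0, fun x hx => ?_⟩
  let f : P → P := fun a => ⟨(a : X)⁻¹ * (σ * a * σ⁻¹),
    mul_mem (inv_mem a.2) ((mem_normalizer_iff.1 iv.sN _).1 a.2)⟩
  have inj : Function.Injective f := fun a b e => by
    have e1 : (a : X)⁻¹ * (σ * a * σ⁻¹) = (b : X)⁻¹ * (σ * b * σ⁻¹) := congrArg Subtype.val e
    refine Subtype.ext (mul_inv_eq_one.1 (fP _ (mul_mem a.2 (inv_mem b.2)) ?_))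
    calc (a : X) * (b : X)⁻¹ * σ = a * ((b : X)⁻¹ * (σ * b * σ⁻¹)) * σ * (b : X)⁻¹ := by group
      _ = σ * (a * (b : X)⁻¹) := by rw [← e1]; group
  obtain ⟨a, ha⟩ := Finite.injective_iff_surjective.1 inj ⟨x, hx⟩
  rw [← show _ = x from congrArg Subtype.val ha]
  simpa only [f, mul_assoc, inv_inv] using
    mul_mem (n0.conj_mem _ (s_mem h i0) (a : X)⁻¹) (inv_mem (s_mem h i0))

end Cfsg.Agent.H8.S94Pb1
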