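import Mathlib
import Cfsg.Agent.H17.KnDef2
import Cfsg.Agent.H67.Pi

/-!
# The centraliser of the central involution and the normaliser of `F` normalise `W`
-/

set_option autoImplicit false
set_option maxRecDepth 100000

namespace Cfsg.Agent.H8.KnW1b

open Equiv Subgroup Cfsg.Agent.H63 Cfsg.Agent.H8.GD Cfsg.Agent.H17.Kn
open Cfsg.Agent.H11.A16 hiding z2
open Cfsg.Agent.H67 (cj_sup cj_piCoreOf cj_centralizer_singleton cj_eq_self_iff
  mem_normalizer_of_cj_le cj_le_of_mem_normalizer)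

universe u

variable {G : Type u} [Group G] [Finite G]

theorem occ (k a : G) : cj k (Oc C1[a]) = Oc C1[k * a * k⁻¹] := by
  rw [cj_piCoreOf, cj_centralizer_singleton]

theorem cjW (g a b : G) : cj g (W4 a b) = W4 (g * a * g⁻¹) (g * b * g⁻¹) := by
  rw [W4, cj_sup, cj_sup, occ, occ, occ, W4]
  congr 4
  group

theorem emF (a b c e : Fin 4) : em (ww a b c e) = wb 0 a * wb 1 b * wb 2 c * wb 3 e := by
  simp only [ww, map_mul, wb]

theorem wbF : ∀ i k, wb i k ∈ FF := by decide +kernel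

theorem FS {u : N2} (hB : Mod2) (h : u ∈ FF) : u ∈ S2 :=
  (hB.le.2.2.2.2.2.2.2.2.2.2.2.2.1 h).1

theorem thj : ∀ i j k, th i * pm2 (wb j k) * (th i)⁻¹ = pm2 (wb j (if i = j then ω k else k)) := by
  decide +kernel

theorem tyF : ∀ a b c e : Fin 4, cs false (ty (wb 0 a * wb 1 b * wb 2 c * wb 3 e)) = 4 →
    ty (wb 0 a * wb 1 b * wb 2 c * wb 3 e) = 8 := by decide +kernel

omit [Finite G] in
theorem Rmul {J : N2 → G} {X : Subgroup N2} (E : Em J X) {g : G} {u v u' v' : N2} (hu : u ∈ X)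
    (hv : v ∈ X) (hu' : u' ∈ X) (hv' : v' ∈ X) (h : R J g u v) (h' : R J g u' v') :
    R J g (u * u') (v * v') := by
  unfold R at *
  rw [E.mul _ hu _ hu', E.mul _ hv _ hv', ← h, ← h']; group

theorem xaA : ∀ p c, em (xa p c) ∈ AA := by decide +kernel

theorem wwF (a b c e : Fin 4) : em (ww a b c e) ∈ FF := by
  rw [emF]; exact mul_mem (mul_mem (mul_mem (wbF _ _) (wbF _ _)) (wbF _ _)) (wbF _ _)

theorem w1b (hB : Base.{u}) : W1bStmt.{u} := by
  intro G _ _ J φ s ρ n W h ho hW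
  have m2 := hB.m2
  have E : Em J S2 := h.em2
  have fs : FF ≤ S2 := fun u hu => FS m2 hu
  have zA : z2 ∈ AA := by decide +kernel
  have z1 : z2 ≠ 1 := by decide +kernel
  have w0 : ∀ p, p ≠ 0 → W = W4 (J z2) (J (em (xa p 0))) := fun p hp =>
    hW _ zA _ (xaA p 0) z1 (by revert p; decide +kernel) (by revert p; decide +kernel)
  have h0 : Oc C1[J z2] ≤ W := by
    rw [w0 1 (by decide)]; exact le_sup_left.trans le_sup_left
  have cz : ∀ g ∈ C1[J z2], g * J z2 * g⁻¹ = J z2 := fun g hg =>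
    mul_inv_eq_iff_eq_mul.2 (mem_centralizer_singleton_iff.1 hg)
  have r1 : ρ 1 = 1 := by
    have := h.mo.mul 1 (one_mem _) 1 (one_mem _)
    rw [one_mul] at this
    exact mul_eq_left.1 this.symm
  have ri : ∀ g ∈ C1[J z2], ρ g⁻¹ = (ρ g)⁻¹ := fun g hg =>
    eq_inv_of_mul_eq_one_left (by rw [← h.mo.mul _ (inv_mem hg) _ hg, inv_mul_cancel, r1])
  have lift : ∀ m, ∃ g ∈ C1[J z2], ρ g = m ∧ ∀ u ∈ S2, ∀ v ∈ S2, m * u * m⁻¹ = v → R J g u v :=
    fun m => by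
    obtain ⟨g, a, b, c⟩ := h.lift m (S2 ⊓ S2.comap (MulAut.conj m).toMonoidHom) inf_le_left
      fun u hu => hu.2
    exact ⟨g, a, b, fun u hu v hv e => e ▸ c u ⟨hu, show m * u * m⁻¹ ∈ S2 from e ▸ hv⟩⟩
  let K : Subgroup N2 :=
    { carrier := {m | ∃ g ∈ C1[J z2], g ∈ N[W] ∧ ρ g = m}
      one_mem' := ⟨1, one_mem _, one_mem _, r1⟩
      mul_mem' := by
        rintro _ _ ⟨a, a1, a2, rfl⟩ ⟨b, b1, b2, rfl⟩
        exact ⟨a * b, mul_mem a1 b1, mul_mem a2 b2, h.mo.mul _ a1 _ b1⟩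
      inv_mem' := by
        rintro _ ⟨a, a1, a2, rfl⟩
        exact ⟨a⁻¹, inv_mem a1, inv_mem a2, ri a a1⟩ }
  have h1 : ∀ c p, p ≠ 0 → Commute c (em (xa p 0)) → c ∈ K := fun c p hp hc => by
    obtain ⟨k, k1, e, hk⟩ := lift c
    have a := (AA_le_T0 (xaA p 0)).2
    refine ⟨k, k1, ?_, e⟩
    rw [← cj_eq_self_iff, w0 p hp, cjW, cz k k1, hk _ a _ a (mul_inv_eq_iff_eq_mul.2 hc)]
  have hK : ∀ m : M, em m ∈ K := fun m =>
    gen_on (K := K.comap em) (X := Finset.univ) (a := 0)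
      (fun p _ => by
        by_cases a : p = 0
        · rw [a, d_self]; exact one_mem _
        · exact h1 _ p a (by clear * -; revert p; decide +kernel))
      (fun p _ a => h1 _ p a (by clear * -; revert p; decide +kernel))
      (Finset.subset_univ (supp m))
  have hN : ∀ g ∈ C1[J z2], ρ g ∈ K → g ∈ N[W] := by
    rintro g hg ⟨k, k1, k2, e⟩
    have h4 := le_normalizer (h0 ((h.kerO (g * k⁻¹) (mul_mem hg (inv_mem k1))).1 (by
      rw [h.mo.mul _ hg _ (inv_mem k1), ri k k1, e, mul_inv_cancel])))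
    simpa using mul_mem h4 k2
  choose θ _ hθ using h.tht
  have t := fun i j k => hθ i _ (m2.le.2.2.2.2.2.2.2.2.2.2.2.2.2.2.2.2.2.2.2.2.2.2.2.2 i (wbF j k))
    _ (m2.le.2.2.2.2.2.2.2.2.2.2.2.2.2.2.2.2.2.2.2.2.2.2.2.2 i (wbF j _)) (thj i j k)
  obtain ⟨ϑ, t1⟩ : ∃ ϑ, ∀ j k, R J ϑ (wb j k) (wb j (ω k)) := ⟨_, fun j k => by
    have := (((t 0 j k).trans (t 1 j _)).trans (t 2 j _)).trans (t 3 j _)
    convert this using 2
    clear * -; revert j k; decide⟩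
  have t2 : ∀ a b c e, R J ϑ (em (ww a b c e)) (em (ww (ω a) (ω b) (ω c) (ω e))) :=
    fun a b c e => by
    have q := fun i k => fs (wbF i k)
    rw [emF, emF]
    exact Rmul E (mul_mem (mul_mem (q _ _) (q _ _)) (q _ _))
      (mul_mem (mul_mem (q _ _) (q _ _)) (q _ _)) (q _ _) (q _ _)
      (Rmul E (mul_mem (q _ _) (q _ _)) (mul_mem (q _ _) (q _ _)) (q _ _) (q _ _)
        (Rmul E (q _ _) (q _ _) (q _ _) (q _ _) (t1 0 a) (t1 1 b)) (t1 2 c)) (t1 3 e)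
  have hϑ : ϑ ∈ N[W] := by
    have a := t2 0 0 0 0
    have b := t2 1 1 1 1
    rw [show em (ww 0 0 0 0) = z2 by decide +kernel,
      show em (ww (ω 0) (ω 0) (ω 0) (ω 0)) = em (xa 1 1) by decide +kernel] at a
    rw [show em (ww 1 1 1 1) = em (xa 1 0) by decide +kernel,
      show em (ww (ω 1) (ω 1) (ω 1) (ω 1)) = z2 by decide +kernel] at b
    rw [← cj_eq_self_iff]
    conv_lhs => rw [w0 1 (by decide), cjW, a, b]
    exact (hW _ (xaA 1 1) _ zA (by decide +kernel) z1 (by decide +kernel)).symm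
  have full : ∀ y ∈ FF, ty y = 8 → Oc C1[J y] ≤ W := fun y hy h8 => by
    obtain ⟨a, b, c, e, rfl⟩ := hB.m1.nfF y hy
    rw [← emF] at h8 ⊢
    obtain ⟨l, hl, e3⟩ := conn (Z := fun m => ∃ l ∈ N[W], R J l (em m) z2)
      ⟨1, one_mem _, by simp only [R, one_mul, inv_one, mul_one]; rfl⟩
      (fun a b c e ⟨l, hl, e3⟩ => ⟨_, mul_mem hl hϑ, (t2 a b c e).trans e3⟩)
      (fun m u v hu hv e ⟨l, hl, e3⟩ => by
        obtain ⟨g, g1, g2, g3⟩ := lift (em m)
        obtain ⟨a, b, c, e, rfl⟩ := F_eq hu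
        obtain ⟨a', b', c', e', rfl⟩ := F_eq hv
        exact ⟨_, mul_mem hl (hN g g1 (g2 ▸ hK m)), (g3 _ (fs (wwF ..)) _ (fs (wwF ..)) (by
          rw [← map_inv, ← map_mul, ← map_mul, e])).trans e3⟩)
      (ww_mem a b c e) h8
    rw [← show l⁻¹ * J z2 * l⁻¹⁻¹ = _ from e3.symm, ← occ]
    exact cj_le_of_mem_normalizer (inv_mem hl) h0
  have nF : N[im J FF] ≤ N[W] := fun g hg => by
    obtain ⟨α, a1, a2⟩ := (E.mono fs).au hg
    have k : ∀ y ∈ FF, ty y = 8 → Oc C1[g * J y * g⁻¹] ≤ W := fun y hy h8 => by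
      have b := a1.mem y hy
      have c := (h.cl y (fs hy) _ (fs b) (m2.ab.2.2.2.2.1 y hy) (m2.ab.2.2.2.2.1 _ b)).1
        ⟨g, a2 y hy⟩
      rw [a2 y hy]
      refine full _ b ?_
      obtain ⟨a, b, c', e, q⟩ := hB.m1.nfF _ b
      rw [h8, q] at c
      rw [q]
      exact tyF _ _ _ _ c.symm
    refine mem_normalizer_of_cj_le ?_
    have zF : z2 ∈ FF := by decide +kernel
    have aF : em (xa 1 0) ∈ FF := by decide +kernel
    conv_lhs => rw [w0 1 (by decide), W4, cj_sup, cj_sup, occ, occ, occ,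
      ← E.mul _ (fs zF) _ (fs aF)]
    exact sup_le (sup_le (k _ zF (by decide +kernel)) (k _ aF (by decide +kernel)))
      (k _ (mul_mem zF aF) (by decide +kernel))
  refine ⟨ho, full, fun g hg => hN g hg ?_, nF⟩
  have dS : dl 0 ∈ S2 := by decide +kernel
  have dK : dl 0 ∈ K := ⟨J (dl 0), h.mo.le _ dS, nF (mem_normalizer_of_cj_le (by
    rintro _ ⟨a, ha, rfl⟩
    obtain ⟨v, hv, rfl⟩ := (E.mono fs).mem.1 ha
    change J (dl 0) * J v * (J (dl 0))⁻¹ ∈ _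
    rw [E.self dS (fs hv)]
    exact mem_im (((m2.nrm _).2.2.1 dS).1 v hv))), h.mo.res _ dS⟩
  have ev : ∀ m : N2, par m = 0 → m ∈ K := fun m hm => hK ⟨m.σ, m.f, hm⟩
  generalize ρ g = m
  rcases Cfsg.Agent.H11.A16.z2 (par m) with a | a
  · exact ev m a
  · exact (K.mul_mem_cancel_right dK).1 (ev _ (by rw [par_mul, a]; decide +kernel))

end Cfsg.Agent.H8.KnW1b
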