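import Cfsg.Agent.H8.AlKit

/-! Project AL, rank one: transfer into `Us Y`. -/

set_option autoImplicit false
set_option linter.unusedSectionVars false

namespace Cfsg.Agent.H8.AlK

open Cfsg Subgroup Cfsg.Agent.H28 Cfsg.Agent.H42.AL Cfsg.Agent.H84.ALW Cfsg.Agent.H21.Ly
open Cfsg.Agent.H72.ASB (conj_of_eq)

universe u

variable {G : Type u} [Group G] [Finite G] {D : RD G} {t g g' : G} {O Y : Subgroup G}
  {f : F4 → G} {c c0 a a' : F4} {fr fr' s s' : Bool}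

theorem Ty.ring (h : Ty D f c0 g s fr a) : a ^ 2 + a = c0 + pw fr c0 := h.choose_spec.choose_spec.ring

theorem Ty.cast (h : Ty D f c0 g s fr a) (e : s = s' ∧ fr = fr' ∧ a = a') : Ty D f c0 g s' fr' a' := by
  obtain ⟨rfl, rfl, rfl⟩ := e
  exact h

theorem Ty.or (h : Ty D f c0 g s fr a) :
    ∃ D' l m, (D' = D ∨ D' = D.swap) ∧ Ac D D' f c0 g l m fr a := by
  obtain ⟨l, m, h⟩ := h
  cases s
  exacts [⟨_, l, m, Or.inl rfl, h⟩, ⟨_, l, m, Or.inr rfl, h⟩]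

variable (hF : D.Fa) (hP : RP D t O) (hA : RA D t O f c) (hQ : RQ D t O f c0) (hS : RS D t f c0)
  (hY : RY D t Y)
include hF hP hQ

theorem ty_one : Ty D f c0 1 false false 0 :=
  hP.t2 ▸ ((ty_t hF hP hQ).mul (ty_t hF hP hQ)).cast (by decide)

include hY in
theorem eq_one (hg : g ∈ Y) (h : Ty D f c0 g false false 0) : g = 1 :=
  (triv hY hg h).resolve_right fun e => absurd ((e ▸ h).uniq hQ (ty_t hF hP hQ)).2.2 (by decide)

include hY in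
theorem eq_t (hg : g ∈ Y) (h : Ty D f c0 g false false 1) : g = t :=
  (triv hY hg h).resolve_left fun e => absurd ((e ▸ h).uniq hQ (ty_one hF hP hQ)).2.2 (by decide)

include hS hY

/-- elements of `Y` are determined by their type -/
theorem ty_ext (hg : g ∈ Y) (hg' : g' ∈ Y) (h : Ty D f c0 g s fr a) (h' : Ty D f c0 g' s fr a) :
    g = g' := by
  obtain ⟨s1, fr1, a1, k⟩ := ex_ty hS hY (inv_mem hg)
  have e := (h.mul k).uniq hQ ((inv_mul_cancel g).symm ▸ ty_one hF hP hQ)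
  exact (inv_mul_eq_one.1 (eq_one hF hP hQ hY (mul_mem (inv_mem hg) hg') ((h'.mul k).cast e)))

theorem Y_comm (hg : g ∈ Y) (hg' : g' ∈ Y) : g * g' = g' * g := by
  obtain ⟨s, fr, a, h⟩ := ex_ty hS hY hg
  obtain ⟨s', fr', a', h'⟩ := ex_ty hS hY hg'
  have k : ∀ (c0 a a' : F4) (fr fr' : Bool), a ^ 2 + a = c0 + pw fr c0 → a' ^ 2 + a' = c0 + pw fr' c0 →
      a' + pw fr' a = a + pw fr a' := by decide
  exact ty_ext hF hP hQ hS hY (mul_mem hg hg') (mul_mem hg' hg) (h'.mul h)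
    ((h.mul h').cast ⟨Bool.xor_comm _ _, Bool.xor_comm _ _, k _ _ _ _ _ h.ring h'.ring⟩)

/-- the elements of `Y` of given types -/
def KP (P : Bool → Bool → F4 → Prop) (h1 : P false false 0)
    (h2 : ∀ s fr a s' fr' a', P s fr a → P s' fr' a' → P (xor s s') (xor fr fr') (a' + pw fr' a)) :
    Subgroup G where
  carrier := {y | y ∈ Y ∧ ∃ s fr a, Ty D f c0 y s fr a ∧ P s fr a}
  one_mem' := ⟨one_mem _, _, _, _, ty_one hF hP hQ, h1⟩
  mul_mem' := fun ⟨hx, _, _, _, x1, x2⟩ ⟨hy, _, _, _, y1, y2⟩ =>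
    ⟨mul_mem hx hy, _, _, _, y1.mul x1, h2 _ _ _ _ _ _ y2 x2⟩
  inv_mem' := fun {x} ⟨hx, s, fr, a, x1, x2⟩ => ⟨inv_mem hx, _, _, _, by
    have : x⁻¹ = x * (x * x) := inv_eq_of_mul_eq_one_right (by
      rw [← mul_assoc]
      rcases triv hY (mul_mem hx hx) ((x1.mul x1).cast ⟨Bool.xor_self _, Bool.xor_self _, rfl⟩) with e | e
      · rw [e, one_mul]
      · rw [e, hP.t2])
    rw [this]
    exact (x1.mul x1).mul x1, h2 _ _ _ _ _ _ (h2 _ _ _ _ _ _ x2 x2) x2⟩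

include hA in
theorem fin {K0 : Subgroup G} (hK : K0 ≤ Y) (ht : t ∉ K0)
    (h : ∀ y ∈ Y, y ∉ K0 → y * y = 1 → y = t ∨ (t * y ∈ K0 ∧ ∀ z, y * Vv D f z = Vv D f z * y) ∨
      (Inv (Us D f) y ∧ ¬ IsConj t y)) : ∃ M : Subgroup G, M.index = 2 := by
  have hn := Y_nrm hS hY
  have ti : t⁻¹ = t := inv_eq_of_mul_eq_one_right hP.t2
  have sq : ∀ x, IsConj t x → x * x = 1 := fun x hx => by
    obtain ⟨k, rfl⟩ := isConj_iff.1 hx
    rw [conj_mul, hP.t2]; simp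
  have key : ∀ x ∈ Y ⊔ Us D f, x ∉ K0 ⊔ Us D f → IsConj t x → t⁻¹ * x ∈ Us D f ∨
      (t⁻¹ * x ∈ K0 ⊔ Us D f ∧ ∀ z, x * Vv D f z = Vv D f z * x) := fun x hx h1 h2 => by
    obtain ⟨y, hy, w, hw, rfl⟩ := (H1.mem_sup_of_le_normalizer hn).1 hx
    have h3 := sq _ h2
    have h4 : y * y = 1 := Y_Us hQ hS hY (mul_mem hy hy) (by
      have := inv_mem (mul_mem (cjm (hn (inv_mem hy)) hw) hw)
      rwa [show (y⁻¹ * w * y⁻¹⁻¹ * w)⁻¹ = (y * w * (y * w))⁻¹ * (y * y) by group, h3, inv_one,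
        one_mul] at this)
    rcases h y hy (fun e => h1 (mul_mem (mem_sup_left e) (mem_sup_right hw))) h4 with rfl | k | k
    · exact Or.inl (by rwa [inv_mul_cancel_left])
    · refine Or.inr ⟨?_, fun z => by rw [mul_assoc, Us_V hQ hw, ← mul_assoc, k.2, mul_assoc]⟩
      rw [ti, ← mul_assoc]
      exact mul_mem (mem_sup_left k.1) (mem_sup_right hw)
    · obtain ⟨v, -, e⟩ := k.1 w hw h3
      exact absurd (h2.trans (isConj_iff.2 ⟨v, e⟩).symm) k.2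
  have tK : t ∉ K0 ⊔ Us D f := fun e => by
    obtain ⟨y, hy, w, hw, e⟩ := (H1.mem_sup_of_le_normalizer (hK.trans hn)).1 e
    have : w = 1 := Y_Us hQ hS hY (by
      rw [eq_inv_mul_of_mul_eq e]; exact mul_mem (inv_mem (hK hy)) hY.tY) hw
    rw [this, mul_one] at e
    exact ht (e ▸ hy)
  have cK : ∀ w ∈ Us D f, ∀ x, w * x * w⁻¹ ∈ K0 ⊔ Us D f → x ∈ K0 ⊔ Us D f := fun w hw x e => by
    rwa [mul_mem_cancel_right (inv_mem (mem_sup_right hw)), mul_mem_cancel_left (mem_sup_right hw)] at e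
  refine H93.GT.gt_ab (H := Y ⊔ Us D f) (K := K0 ⊔ Us D f) (fun x hx y hy => ?_) hP.t2 (e := t)
    (fun x hx h1 h2 => (key x hx h1 h2).elim (fun k => mem_sup_right k) And.left) fun e => hY.syl ?_
  · obtain ⟨a, ha, b, hb, rfl⟩ := (H1.mem_sup_of_le_normalizer hn).1 hx
    obtain ⟨a', ha', b', hb', rfl⟩ := (H1.mem_sup_of_le_normalizer hn).1 hy
    have c := Y_comm hF hP hQ hS hY ha ha'
    have := mul_mem (mul_mem (cjm (hn ha) hb) (cjm (hn (mul_mem ha ha')) (mul_mem hb' (inv_mem hb))))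
      (cjm (hn ha') (inv_mem hb'))
    rw [show a * b * a⁻¹ * (a * a' * (b' * b⁻¹) * (a * a')⁻¹) * (a' * b'⁻¹ * a'⁻¹) =
      a * b * a' * b' * b⁻¹ * (a * a')⁻¹ * a' * b'⁻¹ * a'⁻¹ by group, c,
      show a * b * a' * b' * b⁻¹ * (a' * a)⁻¹ * a' * b'⁻¹ * a'⁻¹ =
        a * b * (a' * b') * (a * b)⁻¹ * (a' * b')⁻¹ by group] at this
    exact mem_sup_right this
  set X := {x : G | IsConj t x ∧ x ∈ Y ⊔ Us D f ∧ x ∉ K0 ⊔ Us D f}
  have hX : ∀ w ∈ Us D f, ∀ x ∈ X, w * x * w⁻¹ ∈ X := fun w hw x hx =>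
    ⟨hx.1.trans (isConj_iff.2 ⟨w, rfl⟩), mul_mem (mul_mem (mem_sup_right hw) hx.2.1)
      (inv_mem (mem_sup_right hw)), fun e => hx.2.2 (cK w hw x e)⟩
  have h0 : {y : G | ∃ h ∈ Us D f, y = h * t * h⁻¹} ⊆ X := by
    rintro _ ⟨w, hw, rfl⟩
    exact hX w hw t ⟨IsConj.refl t, mem_sup_left hY.tY, tK⟩
  have h1 := Set.ncard_sdiff_add_ncard_of_subset h0
  obtain ⟨m, hm⟩ : 256 ∣ (X \ {y : G | ∃ h ∈ Us D f, y = h * t * h⁻¹}).ncard := by
    refine dvd_cen hQ hS ?_ fun x hx => ⟨hx.1.1, ((key x hx.1.2.1 hx.1.2.2 hx.1.1).resolve_left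
      fun k => hx.2 ?_).2⟩
    · rintro w hw x ⟨hx, hx'⟩
      refine ⟨hX w hw x hx, fun ⟨v, hv, e⟩ => hx' ⟨w⁻¹ * v, mul_mem (inv_mem hw) hv, ?_⟩⟩
      calc x = w⁻¹ * (w * x * w⁻¹) * w := by group
        _ = _ := by rw [e]; group
    · obtain ⟨v, hv, e⟩ := hQ.inv _ k (by rw [mul_inv_cancel_left]; exact sq x hx.1.1)
      exact ⟨v, hv, by rw [e, mul_inv_cancel_left]⟩
  rw [hm, ncard_t hF hP hA hQ] at h1
  rw [← h1, card_H hQ hS hY] at e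
  obtain ⟨n, hn⟩ := hY.two.exists_card_eq
  have e2 : 128 * Nat.card Y ∣ (4 * m + 1) * Nat.card (centralizer ({t} : Set G)) :=
    Nat.dvd_of_mul_dvd_mul_left (by norm_num : 0 < 64) (by
      convert e using 1 <;> ring)
  refine Nat.Coprime.dvd_of_dvd_mul_left ?_ e2
  rw [hn, show 128 = 2 ^ 7 from rfl, ← pow_add]
  exact Nat.Coprime.pow_left _ (Nat.coprime_two_left.2 ⟨2 * m, by ring⟩)

include hA in
theorem main (hp : Pure D t f c0) :
    (∃ M : Subgroup G, M.index = 2) ∨ ∃ γ φ, Bad D t f c0 Y γ φ := by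
  have tt := ty_t hF hP hQ
  have a01 : ∀ a c0 : F4, a ^ 2 + a = c0 + pw false c0 → a = 0 ∨ a = 1 := by decide
  by_cases hfr : ∃ y ∈ Y, y * y = 1 ∧ ∃ s a, Ty D f c0 y s true a
  swap
  · refine Or.inl (fin hF hP hA hQ hS hY (K0 := KP hF hP hQ hY
      (fun s fr a => fr = false ∧ a = if s then 1 else 0) (by decide) (by decide))
      (fun _ h => h.1) (fun ⟨_, _, _, _, h1, h2⟩ => ?_) fun y hy h1 h2 => ?_)
    · obtain ⟨rfl, rfl, rfl⟩ := h1.uniq hQ tt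
      exact absurd h2 (by decide)
    obtain ⟨s, fr, a, k⟩ := ex_ty hS hY hy
    cases fr
    swap
    · exact absurd ⟨y, hy, h2, s, a, k⟩ hfr
    have h3 : ¬ a = if s then 1 else 0 := fun e => h1 ⟨hy, s, _, a, k, rfl, e⟩
    cases s
    · obtain rfl := (a01 _ _ k.ring).resolve_left h3
      exact Or.inl (eq_t hF hP hQ hY hy k)
    · obtain rfl := (a01 _ _ k.ring).resolve_right h3
      refine Or.inr (Or.inl ⟨⟨mul_mem hY.tY hy, _, _, _, k.mul tt, by decide⟩, fun z => ?_⟩)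
      obtain ⟨l, m, k⟩ := k
      have e : ∀ l : F4, sc l (tw false 0 (sc l (tw false 0 (1, 0)))) = (1, 0) →
          ∀ z, sc l (tw false 0 z) = z := by decide
      rw [← mul_inv_eq_iff_eq_mul, k.v, e _ (V_inj hQ (by rw [← k.v, ← k.v, ← cj_cj, h2]; simp))]
  obtain ⟨y0, hy0, y2, s0, a0, k0⟩ := hfr
  have hc : c0 ^ 2 = c0 := by
    have e := ((k0.mul k0).uniq hQ (y2 ▸ ty_one hF hP hQ)).2.2
    have : ∀ a c0 : F4, a + pw true a = 0 → a ^ 2 + a = c0 + pw true c0 → c0 ^ 2 = c0 := by decide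
    exact this _ _ e k0.ring
  have ac : ∀ a c0 : F4, c0 ^ 2 = c0 → a ^ 2 + a = c0 + pw true c0 → a = c0 ∨ a = c0 + 1 := by decide
  by_cases hγ : ∃ γ ∈ Y, Ty D f c0 γ true false 0 ∧ IsConj t (t * γ)
  · obtain ⟨γ, h1, h2, h3⟩ := hγ
    obtain ⟨y1, hy1, a1, k1⟩ : ∃ y ∈ Y, ∃ a, Ty D f c0 y false true a := by
      cases s0
      exacts [⟨y0, hy0, a0, k0⟩, ⟨_, mul_mem h1 hy0, _, k0.mul h2⟩]
    obtain ⟨φ, hφ, k⟩ : ∃ y ∈ Y, Ty D f c0 y false true c0 := by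
      rcases ac _ _ hc k1.ring with rfl | rfl
      · exact ⟨y1, hy1, k1⟩
      · exact ⟨_, mul_mem hY.tY hy1, (k1.mul tt).cast ⟨rfl, rfl, (by decide : ∀ x : F4, 1 + pw false (x + 1) = x) _⟩⟩
    have : ∀ c0 : F4, c0 ^ 2 = c0 → c0 + pw true c0 = 0 := by decide
    exact Or.inr ⟨γ, φ, h1, hφ, eq_one hF hP hQ hY (mul_mem h1 h1) ((h2.mul h2).cast (by decide)),
      eq_one hF hP hQ hY (mul_mem hφ hφ) ((k.mul k).cast ⟨rfl, rfl, this _ hc⟩),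
      Y_comm hF hP hQ hS hY h1 hφ, h2, k, h3⟩
  have cl : ∀ c0 : F4, c0 ^ 2 = c0 → ∀ (fr fr' : Bool), (if fr' then c0 + 1 else 0) +
      pw fr' (if fr then c0 + 1 else 0) = if xor fr fr' then c0 + 1 else 0 := by decide
  refine Or.inl (fin hF hP hA hQ hS hY (K0 := KP hF hP hQ hY
    (fun _ fr a => a = if fr then c0 + 1 else 0) rfl
    (fun _ _ _ _ _ _ e e' => by rw [e, e']; exact cl _ hc _ _))
    (fun _ h => h.1) (fun ⟨_, _, _, _, h1, h2⟩ => ?_) fun y hy h1 h2 => ?_)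
  · obtain ⟨rfl, rfl, rfl⟩ := h1.uniq hQ tt
    exact one_ne_zero h2
  obtain ⟨s, fr, a, k⟩ := ex_ty hS hY hy
  have h3 : ¬ a = if fr then c0 + 1 else 0 := fun e => h1 ⟨hy, s, fr, a, k, e⟩
  cases fr
  · obtain rfl := (a01 _ _ k.ring).resolve_left h3
    cases s
    · exact Or.inl (eq_t hF hP hQ hY hy k)
    · refine Or.inr (Or.inr ⟨k.free hQ h2 (Or.inr rfl), fun e => hγ ⟨t * y, mul_mem hY.tY hy,
        (k.mul tt).cast (by decide), ?_⟩⟩)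
      rwa [← mul_assoc, hP.t2, one_mul]
  · obtain rfl := (ac _ _ hc k.ring).resolve_right h3
    obtain ⟨D', l, m, e, k'⟩ := k.or
    exact Or.inr (Or.inr ⟨k.free hQ h2 (Or.inl rfl), hp D' e y l m (hY.ct y hy) h2 k'⟩)

end Cfsg.Agent.H8.AlK

theorem Cfsg.Agent.H8.AlK.rend.{u} : Cfsg.Agent.H42.AL.REndStmt.{u} :=
  fun _ _ _ _ _ _ _ _ _ _ hF hP hA hQ hS hp hY => Cfsg.Agent.H8.AlK.main hF hP hA hQ hS hY hp
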