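import Mathlib
import Cfsg.Agent.H75.T3Good
import Cfsg.Agent.H75.Sq
import Cfsg.Agent.H78.Embed

/-! Project T3 (S1143), piece MU: the unitary groups as models. -/

set_option autoImplicit false

namespace Cfsg.Agent.H8.T3U

open Equiv Cfsg.Agent.H34 Cfsg.Agent.H34.Split Cfsg.Agent.H80 Cfsg.Agent.H31 Cfsg.Agent.H75
  Cfsg.Agent.H75.T3G Cfsg.Agent.Lead.T3
open scoped commutatorElement MatrixGroups

section perm

variable {α : Type*} [DecidableEq α]

theorem via {k : ℕ} {f : Fin k → α} (hf : Function.Injective f) :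
    ∃ ψ : Perm (Fin k) →* Perm α, (∀ g, orderOf (ψ g) = orderOf g) ∧
      ∀ a b, swap (f a) (f b) = ψ (swap a b) :=
  ⟨Perm.viaEmbeddingHom ⟨f, hf⟩, orderOf_injective _ (Perm.viaEmbeddingHom_injective _),
    fun a b => (H78.viaEmbedding_swap ⟨f, hf⟩ a b).symm⟩

theorem p3 {f : Fin 6 → α} (hf : Function.Injective f) :
    orderOf (swap (f 0) (f 1) * swap (f 3) (f 4) * (swap (f 1) (f 2) * swap (f 4) (f 5))) = 3 := by
  obtain ⟨ψ, h1, h2⟩ := via hf
  simp only [h2, ← map_mul, h1]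
  exact orderOf_eq_prime (by decide) (by decide)

theorem p2 {f : Fin 8 → α} (hf : Function.Injective f) :
    orderOf (swap (f 0) (f 1) * swap (f 4) (f 5) * (swap (f 2) (f 3) * swap (f 6) (f 7))) = 2 := by
  obtain ⟨ψ, h1, h2⟩ := via hf
  simp only [h2, ← map_mul, h1]
  exact orderOf_eq_prime (by decide) (by decide)

theorem p4 {f : Fin 4 → α} (hf : Function.Injective f) :
    orderOf (swap (f 0) (f 1) * swap (f 2) (f 3) * swap (f 1) (f 3)) = 4 := by
  obtain ⟨ψ, h1, h2⟩ := via hf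
  simp only [h2, ← map_mul, h1]
  exact orderOf_eq_prime_pow (p := 2) (n := 1) (by decide) (by decide)

theorem p2' {f : Fin 6 → α} (hf : Function.Injective f) :
    orderOf (swap (f 0) (f 1) * swap (f 3) (f 4) * swap (f 2) (f 5)) = 2 := by
  obtain ⟨ψ, h1, h2⟩ := via hf
  simp only [h2, ← map_mul, h1]
  exact orderOf_eq_prime (by decide) (by decide)

end perm

variable {m : ℕ}

theorem rhoA_inj (hm : 0 < m) : Function.Injective (rhoA (m + 1)) := by
  rw [injective_iff_map_eq_one]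
  intro g hg
  ext a : 1
  have : Nontrivial (Fin (m + 1)) := Fin.nontrivial_iff_two_le.2 (by omega)
  obtain ⟨b, hb⟩ := exists_ne a
  exact congrArg (fun r : RA (m + 1) => r.1.1) (Perm.congr_fun hg ⟨(a, b), hb.symm⟩)

theorem rev_mem (a : Fin m) : a.rev ∈ (symA m).orb a :=
  ((symA m).stable_orb a a).2 ((symA m).mem_orb_self a)

theorem wJ_short {a : Fin m} (h : (a : ℕ) + 1 < a.rev) : (sysA m).wJ ((symA m).orb a) =
    rhoA (m + 1) (swap a.castSucc a.succ * swap a.castSucc.rev a.succ.rev) := by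
  have hv := a.2
  have hr : (a.rev : ℕ) = m - (a + 1) := Fin.val_rev a
  refine ((sysA m).eq_wJ ?_ fun j hj => ?_).symm
  · rw [map_mul, Fin.rev_castSucc, Fin.rev_succ, swap_comm a.rev.succ]
    exact mul_mem ((sysA m).s_mem_WJ ((symA m).mem_orb_self a)) ((sysA m).s_mem_WJ (rev_mem a))
  · rcases mem_orbA hj with rfl | rfl <;>
      simp only [sysA, rhoA_apply, Perm.mul_apply, swap_apply_def, Fin.lt_def, Fin.ext_iff,
        Fin.val_rev, Fin.val_castSucc, Fin.val_succ, apply_ite Fin.val] <;>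
      split_ifs <;> omega

theorem wJ_long {a : Fin m} (h : (a.rev : ℕ) = a ∨ (a : ℕ) + 1 = a.rev) :
    (sysA m).wJ ((symA m).orb a) = rhoA (m + 1) (swap a.castSucc a.castSucc.rev) := by
  have hv := a.2
  have hr : (a.rev : ℕ) = m - (a + 1) := Fin.val_rev a
  have h1 := (sysA m).s_mem_WJ ((symA m).mem_orb_self a)
  refine ((sysA m).eq_wJ ?_ fun j hj => ?_).symm
  · rw [Fin.rev_castSucc]
    rcases h with h | h
    · rw [Fin.ext h]
      exact h1
    · have e : a.succ = a.rev.castSucc := Fin.ext h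
      have h2 := (sysA m).s_mem_WJ (rev_mem a)
      rw [swap_comm, ← swap_mul_swap_mul_swap (y := a.rev.castSucc) (by
        simp only [ne_eq, Fin.ext_iff, Fin.val_castSucc]; omega) (by
        simp only [ne_eq, Fin.ext_iff, Fin.val_succ, Fin.val_castSucc]; omega), map_mul, map_mul]
      refine mul_mem (mul_mem h2 ?_) h2
      rw [← e]
      exact h1
  · rcases mem_orbA hj with rfl | rfl <;>
      simp only [sysA, rhoA_apply, swap_apply_def, Fin.lt_def, Fin.ext_iff,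
        Fin.val_rev, Fin.val_castSucc, Fin.val_succ, apply_ite Fin.val] <;>
      split_ifs <;> omega

theorem ord_lt {n : ℕ} (hm : m + 1 = 2 * n ∨ m = 2 * n) {a b : Fin m} (hab : (a : ℕ) < b)
    (hb : (b : ℕ) < n) : orderOf ((sysA m).wJ ((symA m).orb a) * (sysA m).wJ ((symA m).orb b)) =
      if (a : ℕ) + 1 = b then (if (b : ℕ) + 1 = n then 4 else 3) else 2 := by
  have ha := a.2
  have hb' := b.2
  have hr : (a.rev : ℕ) = m - (a + 1) := Fin.val_rev a
  have hr' : (b.rev : ℕ) = m - (b + 1) := Fin.val_rev b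
  rw [wJ_short (a := a) (by omega)]
  by_cases h1 : (b : ℕ) + 1 = n
  · rw [wJ_long (by omega), ← map_mul, orderOf_injective _ (rhoA_inj (by omega)), if_pos h1]
    split_ifs with h2
    · have e : b.castSucc = a.succ := Fin.ext h2.symm
      rw [e]
      refine p4 (f := ![a.castSucc, a.succ, a.castSucc.rev, a.succ.rev]) fun i j => ?_
      fin_cases i <;> fin_cases j <;> simp [Fin.ext_iff] <;> omega
    · refine p2' (f := ![a.castSucc, a.succ, b.castSucc, a.castSucc.rev, a.succ.rev, b.castSucc.rev])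
        fun i j => ?_
      fin_cases i <;> fin_cases j <;> simp [Fin.ext_iff] <;> omega
  · rw [wJ_short (by omega), ← map_mul, orderOf_injective _ (rhoA_inj (by omega)), if_neg h1]
    split_ifs with h2
    · have e : b.castSucc = a.succ := Fin.ext h2.symm
      rw [e]
      refine p3 (f := ![a.castSucc, a.succ, b.succ, a.castSucc.rev, a.succ.rev, b.succ.rev])
        fun i j => ?_
      fin_cases i <;> fin_cases j <;> simp [Fin.ext_iff] <;> omega
    · refine p2 (f := ![a.castSucc, a.succ, b.castSucc, b.succ, a.castSucc.rev, a.succ.rev,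
        b.castSucc.rev, b.succ.rev]) fun i j => ?_
      fin_cases i <;> fin_cases j <;> simp [Fin.ext_iff] <;> omega

theorem ord_all {n : ℕ} (hm : m + 1 = 2 * n ∨ m = 2 * n) (hn : n ≤ m) (a b : Fin n) :
    orderOf ((sysA m).wJ ((symA m).orb (a.castLE hn)) * (sysA m).wJ ((symA m).orb (b.castLE hn))) =
      tm n Lead.T3.parA (n - 1) a b := by
  have ha := a.2
  have hb := b.2
  rcases lt_trichotomy (a : ℕ) b with h | h | h
  · rw [ord_lt hm (by exact h) (by exact hb)]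
    unfold tm
    split_ifs <;> simp only [Lead.T3.parA, Fin.val_castLE, Fin.ext_iff] at * <;> omega
  · rw [Fin.ext h, (sysA m).wJ_mul_self, orderOf_one, tm, if_pos rfl]
  · rw [← orderOf_inv, mul_inv_rev, (sysA m).wJ_inv, (sysA m).wJ_inv,
      ord_lt hm (by exact h) (by exact ha)]
    unfold tm
    split_ifs <;> simp only [Lead.T3.parA, Fin.val_castLE, Fin.ext_iff] at * <;> omega

section card

variable {K : Type} [Field K] {N : ℕ}

theorem card_eq {G α : Type*} [Group G] {E : Subgroup G} (f : α → G) (h1 : Function.Injective f)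
    (h2 : ∀ g, g ∈ E ↔ ∃ a, f a = g) : Nat.card E = Nat.card α :=
  (Nat.card_eq_of_bijective (fun a => (⟨f a, (h2 _).2 ⟨a, rfl⟩⟩ : E))
    ⟨fun _ _ e => h1 (congrArg Subtype.val e), fun g => by
      obtain ⟨a, e⟩ := (h2 _).1 g.2
      exact ⟨a, Subtype.ext e⟩⟩).symm

theorem xA_inj' (r : RA N) {t u : K} (h : xA r t = xA r u) : t = u :=
  sub_eq_zero.1 (xA_inj r _ (by
    rw [sub_eq_add_neg, xA_add, h, ← xA_add, add_neg_cancel, par_zero (xA_add (K := K) r)]))

theorem inj2 {x y z t : Fin N} (h1 : x ≠ y) (h2 : z ≠ t) (h3 : x ≠ z) (h4 : y ≠ z) {a b a' b' : K}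
    (h : xA ⟨(x, y), h1⟩ a * xA ⟨(z, t), h2⟩ b = xA ⟨(x, y), h1⟩ a' * xA ⟨(z, t), h2⟩ b') :
    a = a' ∧ b = b' := by
  have e : a = a' := by
    simpa [coe_xA, mul_add, add_mul, Matrix.single_mul_single_of_ne _ _ _ _ h4, h1, h3.symm] using
      congrArg (fun g : SL(N, K) => g.1 x y) h
  subst e
  exact ⟨rfl, xA_inj' _ (mul_left_cancel h)⟩

section heis

variable {x y z : Fin N} (h1 : x ≠ y) (h2 : y ≠ z) (h3 : x ≠ z)

/-- the Heisenberg group -/
def hs (a b c : K) : SL(N, K) := xA ⟨(x, y), h1⟩ a * xA ⟨(y, z), h2⟩ b * xA ⟨(x, z), h3⟩ c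

theorem hs_val (a b c : K) : (hs h1 h2 h3 a b c).1 =
    1 + Matrix.single x y a + Matrix.single y z b + Matrix.single x z (a * b + c) := by
  simp [hs, coe_xA, mul_add, add_mul, Matrix.single_mul_single_of_ne _ _ _ _ h1.symm,
    Matrix.single_mul_single_of_ne _ _ _ _ h3.symm, Matrix.single_add]
  abel

theorem hs_mul (a b c a' b' c' : K) : hs h1 h2 h3 a b c * hs h1 h2 h3 a' b' c' =
    hs h1 h2 h3 (a + a') (b + b') (c + c' - a' * b) := Subtype.ext (by
  rw [Matrix.SpecialLinearGroup.coe_mul, hs_val, hs_val, hs_val,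
    show (a + a') * (b + b') + (c + c' - a' * b) = a * b + c + (a' * b' + c') + a * b' by ring]
  simp [mul_add, add_mul, Matrix.single_mul_single_of_ne _ _ _ _ h1.symm,
    Matrix.single_mul_single_of_ne _ _ _ _ h2.symm,
    Matrix.single_mul_single_of_ne _ _ _ _ h3.symm, Matrix.single_add]
  abel)

theorem hs_zero : hs h1 h2 h3 (0 : K) 0 0 = 1 := Subtype.ext (by simp [hs_val])

theorem hs_inj {a b c a' b' c' : K} (h : hs h1 h2 h3 a b c = hs h1 h2 h3 a' b' c') :
    a = a' ∧ b = b' ∧ c = c' := by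
  have e := congrArg Subtype.val h
  rw [hs_val, hs_val] at e
  have e1 : a = a' := by simpa [h1, h2.symm, h1.symm] using congrFun (congrFun e x) y
  have e2 : b = b' := by simpa [h1, h2] using congrFun (congrFun e y) z
  have e3 := congrFun (congrFun e x) z
  subst e1 e2
  exact ⟨rfl, rfl, by simpa [h3, h2, h1.symm] using e3⟩

/-- the Heisenberg group as a subgroup -/
def hsS : Subgroup SL(N, K) where
  carrier := {g | ∃ a b c, g = hs h1 h2 h3 a b c}
  one_mem' := ⟨0, 0, 0, (hs_zero _ _ _).symm⟩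
  mul_mem' := by
    rintro _ _ ⟨a, b, c, rfl⟩ ⟨a', b', c', rfl⟩
    exact ⟨_, _, _, hs_mul ..⟩
  inv_mem' := by
    rintro _ ⟨a, b, c, rfl⟩
    refine ⟨-a, -b, -c - a * b, inv_eq_of_mul_eq_one_right ?_⟩
    rw [hs_mul, ← hs_zero h1 h2 h3]
    congr 1 <;> ring

theorem hs_1 (a : K) : xA ⟨(x, y), h1⟩ a = hs h1 h2 h3 a 0 0 := by
  simp [hs, par_zero (xA_add (K := K) _)]

theorem hs_2 (a : K) : xA ⟨(y, z), h2⟩ a = hs h1 h2 h3 0 a 0 := by
  simp [hs, par_zero (xA_add (K := K) _)]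

theorem hs_3 (a : K) : xA ⟨(x, z), h3⟩ a = hs h1 h2 h3 0 0 a := by
  simp [hs, par_zero (xA_add (K := K) _)]

end heis

variable {φ : K →+* K} (hφ : IsInvol φ)

theorem mem_UJ {i : Fin m} {g : SL(m + 1, K)} :
    g ∈ (twistA m φ hφ).UJ i ↔ g ∈ (rdlA m K).split.U
      {r | r ∈ (sysA m).Phi ((symA m).orb i) ∧ (sysA m).pos r} ∧ σU φ g = g := Iff.rfl

theorem α_mem {i j : Fin m} (h : j ∈ (symA m).orb i) (t : K) : xA ((sysA m).α j) t ∈
    (rdlA m K).split.U {r | r ∈ (sysA m).Phi ((symA m).orb i) ∧ (sysA m).pos r} :=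
  mem_U (by exact ⟨(sysA m).α_mem_Phi h, (sysA m).pos_α j⟩) (xA_mem _ _)

theorem supp {i : Fin m} {r : RA (m + 1)}
    (hr : r ∈ {r | r ∈ (sysA m).Phi ((symA m).orb i) ∧ (sysA m).pos r}) :
    (r.1.1 : ℕ) < r.1.2 ∧ ∀ k : ℕ, r.1.1 ≤ k → k < r.1.2 → k = i ∨ k = i.rev :=
  ⟨hr.2, fun _ => supp_orbA hr.1⟩

theorem card_A {i : Fin m} (h : i.rev = i) :
    Nat.card ((twistA m φ hφ).UJ i) = Nat.card {t : K // t + φ t = 0} := by
  have e : ∀ t : K, σU φ (xA ((sysA m).α i) t) = xA ((sysA m).α i) (-φ t) := fun t => by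
    rw [σU_xA, (symA m).ρ_α]
    congr 2
  refine card_eq (fun t => xA ((sysA m).α i) t.1) (fun _ _ e => Subtype.ext (xA_inj' _ e))
    fun g => ⟨fun hg => ?_, ?_⟩
  · obtain ⟨h1, h2⟩ := (mem_UJ hφ).1 hg
    obtain ⟨t, rfl⟩ := (mem_parHom_range _ g).1 (U_le_X (r := (sysA m).α i) (fun r hr => by
      obtain ⟨h3, h4⟩ := supp hr
      have h5 := h4 r.1.1 le_rfl h3
      have h6 := h4 (r.1.2 - 1) (by omega) (by omega)
      rw [h] at h5 h6
      simp only [sysA, Subtype.ext_iff, Prod.ext_iff, Fin.ext_iff, Fin.val_succ, Fin.val_castSucc]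
      omega) h1)
    rw [e] at h2
    exact ⟨⟨t, by linear_combination -xA_inj' _ h2⟩, rfl⟩
  · rintro ⟨t, rfl⟩
    refine (mem_UJ hφ).2 ⟨α_mem ((symA m).mem_orb_self i) _, ?_⟩
    rw [e]
    congr 1
    linear_combination -t.2

theorem card_C {i : Fin m} (h : (i : ℕ) + 1 < i.rev) :
    Nat.card ((twistA m φ hφ).UJ i) = Nat.card K := by
  have n1 : i.castSucc ≠ i.rev.castSucc := by
    simp only [ne_eq, Fin.ext_iff, Fin.val_castSucc]; omega
  have n2 : i.succ ≠ i.rev.castSucc := by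
    simp only [ne_eq, Fin.ext_iff, Fin.val_castSucc, Fin.val_succ]; omega
  have n3 : i.castSucc ≠ i.rev.succ := by
    simp only [ne_eq, Fin.ext_iff, Fin.val_castSucc, Fin.val_succ]; omega
  have c : ∀ a b : K, Commute (xA ((sysA m).α i) a) (xA ((sysA m).α i.rev) b) := xA_commute n2 n3
  have inj : ∀ {a b a' b' : K}, xA ((sysA m).α i) a * xA ((sysA m).α i.rev) b =
      xA ((sysA m).α i) a' * xA ((sysA m).α i.rev) b' → a = a' ∧ b = b' := inj2 _ _ n1 n2
  have e : ∀ a b : K, σU φ (xA ((sysA m).α i) a * xA ((sysA m).α i.rev) b) =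
      xA ((sysA m).α i) (-φ b) * xA ((sysA m).α i.rev) (-φ a) := fun a b => by
    rw [map_mul, σU_xA, σU_xA, (symA m).ρ_α, (symA m).ρ_α, (c _ _).eq]
    congr 3
    exact (Fin.rev_rev i)
  let S : Subgroup SL(m + 1, K) :=
    { carrier := {g | ∃ a b, g = xA ((sysA m).α i) a * xA ((sysA m).α i.rev) b}
      one_mem' := ⟨0, 0, by simp [par_zero (xA_add (K := K) _)]⟩
      mul_mem' := by
        rintro _ _ ⟨a, b, rfl⟩ ⟨a', b', rfl⟩
        exact ⟨a + a', b + b', by rw [xA_add, xA_add, (c a' b).symm.mul_mul_mul_comm]⟩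
      inv_mem' := by
        rintro _ ⟨a, b, rfl⟩
        exact ⟨-a, -b, by
          rw [mul_inv_rev, ← par_neg (xA_add (K := K) _), ← par_neg (xA_add (K := K) _), (c _ _).eq]⟩ }
  refine card_eq (fun t => xA ((sysA m).α i) t * xA ((sysA m).α i.rev) (-φ t))
    (fun _ _ e => (inj e).1) fun g => ⟨fun hg => ?_, ?_⟩
  · obtain ⟨h1, h2⟩ := (mem_UJ hφ).1 hg
    obtain ⟨a, b, rfl⟩ := U_le (K := S) (fun r hr x hx => by
      obtain ⟨t, rfl⟩ := (mem_parHom_range _ x).1 hx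
      obtain ⟨h3, h4⟩ := supp hr
      have h5 := h4 r.1.1 le_rfl h3
      have h6 := h4 (r.1.2 - 1) (by omega) (by omega)
      have h7 := h4 (r.1.1 + 1) (by omega)
      have : r = (sysA m).α i ∨ r = (sysA m).α i.rev := by
        simp only [sysA, Subtype.ext_iff, Prod.ext_iff, Fin.ext_iff, Fin.val_succ, Fin.val_castSucc]
        omega
      rcases this with rfl | rfl
      · exact ⟨t, 0, by simp [par_zero (xA_add (K := K) _)]⟩
      · exact ⟨0, t, by simp [par_zero (xA_add (K := K) _)]⟩) h1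
    rw [e] at h2
    exact ⟨a, by rw [(inj h2).2]⟩
  · rintro ⟨t, rfl⟩
    refine (mem_UJ hφ).2 ⟨mul_mem (α_mem ((symA m).mem_orb_self i) _) (α_mem (rev_mem i) _), ?_⟩
    rw [e, map_neg, hφ.invol, neg_neg]

theorem card_B {j : Fin m} (e : (j : ℕ) + 1 = j.rev) :
    Nat.card ((twistA m φ hφ).UJ j) = Nat.card (Σ t : K, {c : K // c + φ c = t * φ t}) := by
  have e1 : j.rev.castSucc = j.succ := Fin.ext e.symm
  have e2 : j.succ ≠ j.rev.succ := by
    simp only [ne_eq, Fin.ext_iff, Fin.val_succ]; omega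
  have e3 : j.castSucc ≠ j.rev.succ := by
    simp only [ne_eq, Fin.ext_iff, Fin.val_succ, Fin.val_castSucc]; omega
  have e0 := j.castSucc_lt_succ.ne
  let r1 : RA (m + 1) := ⟨(j.castSucc, j.succ), e0⟩
  let r2 : RA (m + 1) := ⟨(j.succ, j.rev.succ), e2⟩
  let r3 : RA (m + 1) := ⟨(j.castSucc, j.rev.succ), e3⟩
  have f1 : (symA m).ρ r1 = r2 := by simp [r1, r2, symA_ρ, Fin.rev_succ, Fin.rev_castSucc, e1]
  have f2 : (symA m).ρ r2 = r1 := by simp [r1, r2, symA_ρ, Fin.rev_succ, ← e1, Fin.rev_castSucc]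
  have f3 : (symA m).ρ r3 = r3 := by simp [r3, symA_ρ, Fin.rev_succ, Fin.rev_castSucc]
  have g2 : (sysA m).α j.rev = r2 := Subtype.ext (Prod.ext e1 rfl)
  have p1 : (sysA m).pos r1 := (sysA m).pos_α j
  have p2 : (sysA m).pos r2 := g2 ▸ (sysA m).pos_α j.rev
  have p3 : (sysA m).pos r3 := lt_trans p1 p2
  have hj := (symA m).mem_orb_self j
  have q1 : r1 ∈ (sysA m).Phi ((symA m).orb j) := (sysA m).α_mem_Phi hj
  have q2 : r2 ∈ (sysA m).Phi ((symA m).orb j) := f1 ▸ (symA m).ρ_mem_Phi ((symA m).stable_orb j) q1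
  have q3 : r3 ∈ (sysA m).Phi ((symA m).orb j) := by
    convert (sysA m).map_mem_Phi ((sysA m).s_mem_WJ hj) q2 using 1
    simp [r2, r3, sysA, rhoA_apply, swap_apply_of_ne_of_ne e3.symm e2.symm]
  have hσ : ∀ a b c : K, σU φ (hs e0 e2 e3 a b c) =
      hs e0 e2 e3 (-φ b) (-φ a) (-φ c - φ b * φ a) := fun a b c => by
    rw [hs, map_mul, map_mul, σU_xA, σU_xA, σU_xA, f1, f2, f3, hs_1 e0 e2 e3, hs_2 e0 e2 e3,
      hs_3 e0 e2 e3, hs_mul, hs_mul]
    congr 1 <;> ring
  refine card_eq (fun t => hs e0 e2 e3 t.1 (-φ t.1) t.2.1) (fun ⟨t, c, _⟩ ⟨t', c', _⟩ h => by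
    obtain ⟨rfl, -, rfl⟩ := hs_inj e0 e2 e3 h
    rfl) fun g => ⟨fun hg => ?_, ?_⟩
  · obtain ⟨h1, h2⟩ := (mem_UJ hφ).1 hg
    obtain ⟨a, b, c, rfl⟩ := U_le (K := hsS e0 e2 e3) (fun r hr x hx => by
      obtain ⟨t, rfl⟩ := (mem_parHom_range _ x).1 hx
      obtain ⟨h3, h4⟩ := supp hr
      have h5 := h4 r.1.1 le_rfl h3
      have h6 := h4 (r.1.2 - 1) (by omega) (by omega)
      have : r = r1 ∨ r = r2 ∨ r = r3 := by
        simp only [r1, r2, r3, Subtype.ext_iff, Prod.ext_iff, Fin.ext_iff, Fin.val_succ,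
          Fin.val_castSucc]
        omega
      rcases this with rfl | rfl | rfl
      exacts [⟨_, _, _, hs_1 e0 e2 e3 t⟩, ⟨_, _, _, hs_2 e0 e2 e3 t⟩, ⟨_, _, _, hs_3 e0 e2 e3 t⟩]) h1
    rw [hσ] at h2
    obtain ⟨k1, k2, k3⟩ := hs_inj e0 e2 e3 h2
    exact ⟨⟨a, c, by linear_combination -k3 + φ a * k1⟩, by rw [k2]⟩
  · rintro ⟨⟨t, c, hc⟩, rfl⟩
    refine (mem_UJ hφ).2 ⟨mul_mem (mul_mem (mem_U (by exact ⟨q1, p1⟩) (xA_mem _ _))
      (mem_U (by exact ⟨q2, p2⟩) (xA_mem _ _))) (mem_U (by exact ⟨q3, p3⟩) (xA_mem _ _)), ?_⟩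
    rw [hσ, map_neg, hφ.invol, neg_neg]
    congr 1
    linear_combination -hc

end card

open Matrix in
theorem hasMod {K : Type} [Field K] [Fintype K] {r n : ℕ} (hF : Fintype.card K = r ^ 2) (h3 : 3 ≤ n)
    (hm : m + 1 = 2 * n ∨ m = 2 * n) :
    HasMod (tm n Lead.T3.parA (n - 1)) (qC n (r ^ 2) (if m = 2 * n then r ^ 3 else r)) := by
  have hφ := isInvol_frobQ hF
  obtain ⟨e⟩ := (isHerm_antiB (n := m + 1) _ hφ).nonempty_sisom_equiv_SU hF
    (fun _ => rfl) (finrank_fin _)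
  have ht : ∀ a, frobQ hF a = a → Nat.card {x : K // x + frobQ hF x = a} = r := fun a ha =>
    card_trace_eq hF (fun _ => rfl) ha
  generalize frobQ hF = φ at hφ e ht
  obtain ⟨p, _⟩ := CharP.exists K
  have : Fact p.Prime := ⟨CharP.char_is_prime K p⟩
  have : Nonempty (Fin m) := ⟨⟨0, by omega⟩⟩
  have hj : Function.Injective (sisomSL φ (antiB φ (m + 1))) := fun g h e =>
    Subtype.ext (LinearEquiv.ext fun x => by rw [← sisomSL_mulVec, e, sisomSL_mulVec])
  have := Finite.of_injective _ hj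
  let M : Model.{0, 0} p (sisom (antiB φ (m + 1))) := (rdlA m K).model (coordA_conn (by omega))
    (fun r _ => (H80.parA K m).isPGroup r) diagA_noTors (twistA m φ hφ) coordA_compat (sisomSL φ _) hj
    (fun g hg => ⟨⟨SpecialLinearGroup.toLin' g, mem_sisom'.2
      ⟨(σU_eq_iff φ hφ g).1 (Split.Twist.G1_le_fix _ hg), by
        rw [SpecialLinearGroup.toLin'_to_linearMap, LinearMap.det_toLin', g.2]⟩⟩,
      Subtype.ext (matrix_ext_mulVec fun x => sisomSL_mulVec _ _ _ _)⟩) (by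
    rintro _ ⟨g, rfl⟩
    refine (σU_eq_iff φ hφ _).2 fun x y => ?_
    rw [sisomSL_mulVec, sisomSL_mulVec]
    exact g.2.1 x y)
  have hZ : ∀ z ∈ Subgroup.center _, M.j z ∈ Subgroup.center M.G := fun z hz => by
    obtain ⟨a, ha⟩ := ((isHerm_antiB φ hφ).mem_center_sisom_iff (by simp; omega)).1 hz
    refine Subgroup.mem_center_iff.2 fun g : SL(m + 1, K) => Subtype.ext
      (matrix_ext_mulVec fun x => ?_)
    change (g.1 * (sisomSL φ _ z).1) *ᵥ x = ((sisomSL φ _ z).1 * g.1) *ᵥ x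
    rw [← mulVec_mulVec, ← mulVec_mulVec, sisomSL_mulVec, sisomSL_mulVec, ha, ha, mulVec_smul]
  have hn : n ≤ m := by omega
  have md : MD M (tm n Lead.T3.parA (n - 1)) (qC n (r ^ 2) (if m = 2 * n then r ^ 3 else r))
      (Fin.castLE hn) := by
    refine ⟨fun i : Fin m => ?_, ord_all hm hn, fun a => ?_⟩
    · by_cases h : (i : ℕ) < n
      · exact ⟨⟨i, h⟩, (symA m).mem_orb_self i⟩
      · have hr : (i.rev : ℕ) = m - (i + 1) := Fin.val_rev i
        have := rev_mem i.rev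
        rw [Fin.rev_rev] at this
        exact ⟨⟨i.rev, by omega⟩, this⟩
    · change Nat.card ((twistA m φ hφ).UJ (a.castLE hn)) = _
      have hr : ((a.castLE hn).rev : ℕ) = m - (a + 1) := Fin.val_rev _
      have ha := a.2
      rw [qC]
      split_ifs with h1 h2
      · rw [card_B hφ (by rw [hr, Fin.val_castLE]; omega), Nat.card_sigma,
          Finset.sum_congr rfl fun t _ => ht _ (hφ.norm_fixed t), Finset.sum_const, Finset.card_univ,
          hF, smul_eq_mul, ← pow_succ]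
      · rw [card_A hφ (Fin.ext (by rw [hr, Fin.val_castLE]; omega)), ht _ (map_zero φ)]
      · rw [card_C hφ (by rw [hr, Fin.val_castLE]; omega), Nat.card_eq_fintype_card, hF]
  have := isSimpleGroup_PSU hF (n := m + 1) (by omega) (by omega)
  exact ⟨PSU (m + 1) K r, inferInstance, ((md.quotZ hZ).ofEquiv (quotientCenterCongr e).symm).isMod
    (fun _ _ => tm_eq_one) (Or.inr (Or.inr (Or.inl ⟨K, _, _, m + 1, r, hF, by omega, by omega,
      ⟨MulEquiv.refl _⟩⟩)))⟩

theorem muStmt : MuStmt := fun _ _ _ n r h3 hF =>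
  ⟨by simpa [show 2 * n - 1 ≠ 2 * n by omega] using hasMod (m := 2 * n - 1) hF h3 (by omega),
    by simpa using hasMod (m := 2 * n) hF h3 (by omega)⟩

end Cfsg.Agent.H8.T3U
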