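import Mathlib
import Cfsg.Agent.H96.D4Defs
import Cfsg.Agent.H15.U5As
import Cfsg.Agent.H5.Ess

/-! Project D4F (S5261), piece AS3: the automizer of `U C`. -/

set_option autoImplicit false
set_option linter.unusedSectionVars false

namespace Cfsg.Agent.H96.DF

open Cfsg.Agent.H97 Cfsg.Agent.H96.VB Cfsg.Agent.H96.CP Subgroup
open scoped commutatorElement

universe u

namespace As3

/-- The abstract part: `Y` a normal `p`-subgroup, `Λ ∩ Y = 1`, and every `p'`-subgroup is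
conjugate into `Λ Y`. -/
theorem abs {p : ℕ} [hp : Fact p.Prime] {X : Type*} [Group X] [Finite X] {Y Λ I A : Subgroup X}
    [hY : Y.Normal] [hI : I.Normal] (h2 : IsPGroup p Y) (ho : ∀ l ∈ Λ, l ∈ Y → l = 1)
    (hs : ∀ D : Subgroup X, ¬ p ∣ Nat.card D → ∃ b : X, ∀ d ∈ D, ∃ l ∈ Λ, l⁻¹ * (b⁻¹ * d * b) ∈ Y)
    (hIY : I ≤ Y) (hIA : I ≤ A) (hA : ¬ p ∣ I.relIndex A) :
    ∃ (β : X) (L : Subgroup X), L ≤ Λ ∧ ¬ p ∣ Nat.card L ∧
      ∀ γ, β * γ * β⁻¹ ∈ A ↔ ∃ i ∈ I, ∃ l ∈ L, γ = i * l := by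
  have hcop : (Nat.card (I.subgroupOf A)).Coprime (I.subgroupOf A).index := by
    obtain ⟨n, hn⟩ := ((h2.to_le hIY).comap_subtype (K := A)).exists_card_eq
    rw [show Nat.card (I.subgroupOf A) = p ^ n from hn]
    exact ((Nat.Prime.coprime_iff_not_dvd hp.out).2 hA).pow_left n
  obtain ⟨D, hD⟩ := exists_right_complement'_of_coprime hcop
  have hDo : ¬ p ∣ Nat.card D := by
    rw [← hD.symm.index_eq_card]; exact hA
  let t0 : D →* X := A.subtype.comp D.subtype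
  obtain ⟨b, hb⟩ := hs t0.range fun h => hDo (h.trans (card_range_dvd t0))
  let t : D →* X := (MulAut.conj b⁻¹).toMonoidHom.comp t0
  have ht : ∀ d, t d = b⁻¹ * t0 d * b := fun d => by simp [t]
  choose f hf hf' using fun d : D => hb (t0 d) ⟨d, rfl⟩
  have uq : ∀ l ∈ Λ, ∀ l' ∈ Λ, ∀ x, l⁻¹ * x ∈ Y → l'⁻¹ * x ∈ Y → l = l' := fun l hl l' hl' x h h' => by
    have e : l⁻¹ * l' = l⁻¹ * x * (l'⁻¹ * x)⁻¹ := by group
    exact inv_mul_eq_one.1 (ho _ (mul_mem (inv_mem hl) hl') (e ▸ mul_mem h (inv_mem h')))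
  let s : D →* X := MonoidHom.mk' f fun c d => uq _ (hf _) _ (mul_mem (hf c) (hf d)) _ (hf' _) (by
    have e : (f c * f d)⁻¹ * (b⁻¹ * t0 (c * d) * b) =
        (f d)⁻¹ * ((f c)⁻¹ * (b⁻¹ * t0 c * b)) * (f d)⁻¹⁻¹ * ((f d)⁻¹ * (b⁻¹ * t0 d * b)) := by
      rw [map_mul]; group
    rw [e]
    exact mul_mem (hY.conj_mem _ (hf' c) _) (hf' d))
  obtain ⟨g, -, hg⟩ := H15.U5A.sec2 Y h2 hDo s t fun d => by rw [ht]; exact hf' d
  have hg' : ∀ d, t0 d = b * g * s d * (b * g)⁻¹ := fun d => by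
    have := hg d
    rw [ht] at this
    calc t0 d = b * (b⁻¹ * t0 d * b) * b⁻¹ := by group
      _ = _ := by rw [this]; group
  refine ⟨b * g, s.range, ?_, fun h => hDo (h.trans (card_range_dvd s)), fun γ => ⟨fun h => ?_, ?_⟩⟩
  · rintro _ ⟨d, rfl⟩
    exact hf d
  · obtain ⟨⟨i, d⟩, hid⟩ := hD.2 ⟨_, h⟩
    have h1 : ((i : A) : X) * t0 d = b * g * γ * (b * g)⁻¹ := congrArg Subtype.val hid
    refine ⟨(b * g)⁻¹ * ((i : A) : X) * (b * g)⁻¹⁻¹, hI.conj_mem _ i.2 _, s d, ⟨d, rfl⟩, ?_⟩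
    rw [hg'] at h1
    calc γ = (b * g)⁻¹ * (b * g * γ * (b * g)⁻¹) * (b * g) := by group
      _ = _ := by rw [← h1]; group
  · rintro ⟨i, hi, _, ⟨d, rfl⟩, rfl⟩
    have h1 : b * g * (i * s d) * (b * g)⁻¹ = b * g * i * (b * g)⁻¹ * t0 d := by rw [hg']; group
    rw [h1]
    exact A.mul_mem (hIA (hI.conj_mem i hi _)) (d : A).2

variable {F K : Type u} [Field F] [Field K] [Algebra F K] {C : Tri F K} [Finite K]

/-- every element is a cross product -/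
theorem exists_cr (x : K) : ∃ t y, C.cr t y = x := by
  by_cases hx : x = 0
  · exact ⟨0, 0, by simp [hx]⟩
  obtain ⟨f, hf⟩ := C.exists_not_fix
  have h0 : C.σ f - f ≠ 0 := sub_ne_zero.2 hf
  set c := (C.σ f - f) * x⁻¹ with hc
  have hc0 : c ≠ 0 := mul_ne_zero h0 (inv_ne_zero hx)
  have hT : C.T (c * x) = 0 := by
    rw [hc, inv_mul_cancel_right₀ hx, map_sub, C.T_σ, sub_self]
  have hN : C.N (C.sh c) ≠ 0 := by simpa using hc0
  refine ⟨C.sh (C.sh c), C.cr (C.sh c) ((C.N (C.sh c))⁻¹ • x), ?_⟩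
  rw [C.sh_cr, smul_smul, mul_inv_cancel₀ hN, one_smul, C.sh_sh, smul_mul_smul_comm, map_smul, hT,
    smul_zero, zero_smul, add_zero]

theorem comm_mem (g h : U C) : ⁅g, h⁆ ∈ _root_.commutator (U C) :=
  commutator_mem_commutator (mem_top _) (mem_top _)

theorem Z_le : Z C ≤ _root_.commutator (U C) := fun g ⟨h1, h2, h3, h4, h5⟩ => by
  have e : g = ⁅xa C g.z, xu C 1⁆ := by
    rw [comm_Q rfl rfl]
    ext <;> simp [xz, om, br, xa, xu, *]
  rw [e]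
  exact comm_mem _ _

theorem W_le : W C ≤ _root_.commutator (U C) := fun g ⟨h1, h2, h3, h4⟩ => by
  obtain ⟨b, hb⟩ := C.T_onto one_ne_zero g.a
  have h : (⁅xt C 1, xx C b⁆)⁻¹ * g ∈ Z C := by
    simp only [one_mul] at hb
    simp [mem_Z, comm_y, comm_x, comm_a, xt, xx, *]
  exact (mul_mem_cancel_left (inv_mem (comm_mem _ _))).1 (Z_le h)

theorem Y_le : Y C ≤ _root_.commutator (U C) := fun g hg => by
  obtain ⟨h1, h2, h3⟩ := mem_Y.1 hg
  obtain ⟨t, y, e⟩ := exists_cr (C := C) g.x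
  have h : (⁅xt C t, xy C y⁆)⁻¹ * g ∈ W C := by
    simp [mem_W, comm_y, comm_x, xt, xy, *]
  exact (mul_mem_cancel_left (inv_mem (comm_mem _ _))).1 (W_le h)

theorem J_le : J C ≤ _root_.commutator (U C) := fun g hg => by
  obtain ⟨h1, h2⟩ := mem_J.1 hg
  have h : (⁅xt C g.y, xu C 1⁆)⁻¹ * g ∈ Y C := by
    simp [mem_Y, comm_y, xt, xu, *]
  exact (mul_mem_cancel_left (inv_mem (comm_mem _ _))).1 (Y_le h)

variable (C) in
/-- torus and field automorphisms -/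
def Λ : Subgroup (MulAut (U C)) where
  carrier := {l | ∃ c φ, l = tor C c * fld C φ}
  one_mem' := ⟨1, 1, by simp⟩
  mul_mem' := by
    rintro _ _ ⟨c, φ, rfl⟩ ⟨d, ψ, rfl⟩
    exact ⟨_, φ * ψ, by
      rw [map_mul (fld C), mul_assoc, ← mul_assoc (fld C φ), fld_tor, mul_assoc, ← mul_assoc,
        ← map_mul]⟩
  inv_mem' := by
    rintro _ ⟨c, φ, rfl⟩
    exact ⟨_, φ⁻¹, by rw [← fld_tor, mul_inv_rev, map_inv, map_inv]⟩

theorem pow_eq (c : Kˣ × Fˣ) (φ : RingAut K) (n : ℕ) :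
    ∃ d, (tor C c * fld C φ) ^ n = tor C d * fld C (φ ^ n) := by
  induction n with
  | zero => exact ⟨1, by simp⟩
  | succ n ih =>
    obtain ⟨d, hd⟩ := ih
    exact ⟨_, by
      rw [pow_succ, hd, pow_succ, map_mul (fld C), mul_assoc, ← mul_assoc (fld C _), fld_tor, mul_assoc,
        ← mul_assoc, ← map_mul]⟩

/-- automorphisms trivial on `U / J` -/
def Y1 (ch : ChS C) : Subgroup (MulAut (U C)) :=
  H15.U5A.stab ⊤ (J C) (fun _ _ _ => mem_top _) ch.j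

theorem mem_Y1 (ch : ChS C) {β : MulAut (U C)} : β ∈ Y1 ch ↔ ∀ w, w⁻¹ * β w ∈ J C :=
  ⟨fun h w => h w (mem_top _), fun h w _ => h w⟩

theorem disj (ch : ChS C) : ∀ l ∈ Λ C, l ∈ Y1 ch → l = 1 := by
  rintro _ ⟨e, φ, rfl⟩ hl
  rw [mem_Y1] at hl
  have e1 : ∀ v, (e.1 : K) * φ v = v := fun v => by
    have : -v + (e.1 : K) * φ v = 0 := (hl (xt C v)).1
    linear_combination this
  have e2 : (e.2 : F) = 1 := by
    have : -1 + (e.2 : F) * fF C φ 1 = 0 := (hl (xu C 1)).2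
    rw [map_one] at this
    linear_combination this
  have e3 : (e.1 : K) = 1 := by simpa using e1 1
  have e4 : e = 1 := Prod.ext (Units.ext e3) (Units.ext e2)
  have e5 : φ = 1 := RingEquiv.ext fun v => by simpa [e3] using e1 v
  simp [e4, e5]

theorem of_lam (ch : ChS C) {β : MulAut (U C)} (h : Lam C β) : ∃ l ∈ Λ C, l⁻¹ * β ∈ Y1 ch := by
  obtain ⟨c, φ, h⟩ := h
  refine ⟨_, ⟨c, φ, rfl⟩, (mem_Y1 ch).2 fun x => ?_⟩
  have k : ∀ l : MulAut (U C), x⁻¹ * (l⁻¹ * β) x = l⁻¹ ((l x)⁻¹ * β x) := fun l => by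
    rw [map_mul, map_inv, MulAut.inv_apply_self, MulAut.mul_apply]
  rw [k]
  exact ch.j _ _ (h x)

end As3

open As3 in
theorem as3 {F K : Type u} [Field F] [Field K] [Algebra F K] {C : Tri F K} [Finite K] {p : ℕ}
    [hp : Fact p.Prime] [CharP F p] (ch : ChS C) (h1 : AS1Stmt C) (h2 : AS2Stmt C) : ASStmt C p := by
  intro A hA hi
  have : Finite F := Finite.of_injective _ (algebraMap F K).injective
  have : (Y1 ch).Normal := H15.U5A.stab_normal _ _ _ _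
  have : (MulAut.conj : U C →* MulAut (U C)).range.Normal := ⟨by
    rintro _ ⟨s, rfl⟩ g
    exact ⟨g s, MulEquiv.ext fun x => by simp⟩⟩
  have hY : IsPGroup p (Y1 ch) := fun β => by
    obtain ⟨k, hk⟩ := H5.pow_eq_one_of_triv_frattini (U.isPGroup p) β.1 fun x =>
      H3.commutator_le_frattini (U.isPGroup p) (J_le ((mem_Y1 ch).1 β.2 x))
    exact ⟨k, Subtype.ext hk⟩
  obtain ⟨β, L, hL, hpL, h⟩ := As3.abs (I := (MulAut.conj : U C →* MulAut (U C)).range) (A := A)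
    hY (disj ch) (fun D hD => by
      rcases Nat.lt_or_ge 2 (Nat.card F) with h | h
      · exact ⟨1, fun d _ => of_lam ch (h1 h _)⟩
      · have h3 : Nat.card F = 2 := le_antisymm h Finite.one_lt_card
        have h4 : p = 2 := by
          have := Fintype.ofFinite F
          have h5 : p ∣ 2 := by
            rw [← h3, Nat.card_eq_fintype_card]
            exact (CharP.cast_eq_zero_iff F p _).1 (FiniteField.cast_card_eq_zero F)
          exact (Nat.prime_dvd_prime_iff_eq hp.out Nat.prime_two).1 h5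
        subst h4
        obtain ⟨b, hb⟩ := h2 h3 D (Nat.odd_iff.2 (Nat.two_dvd_ne_zero.1 hD))
        exact ⟨b, fun d hd => of_lam ch (hb d hd)⟩) (by
      rintro _ ⟨s, rfl⟩
      refine (mem_Y1 ch).2 fun x => ?_
      have e : x⁻¹ * MulAut.conj s x = ⁅x⁻¹, s⁆ := by simp [commutatorElement_def, mul_assoc]
      rw [e]
      exact ⟨comm_t _ _, comm_u _ _⟩)
    (by rintro _ ⟨s, rfl⟩; exact hA s) hi
  refine ⟨β, L, fun l hl => ?_, fun γ => (h γ).trans ⟨?_, ?_⟩⟩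
  · obtain ⟨c, φ, e⟩ := hL hl
    refine ⟨c, φ, e, fun hd => hpL (hd.trans (orderOf_dvd_of_pow_eq_one ?_))⟩
    obtain ⟨d, hd⟩ := pow_eq (C := C) c φ (Nat.card L)
    have e1 : l ^ Nat.card L = 1 := congrArg Subtype.val (pow_card_eq_one' (x := (⟨l, hl⟩ : L)))
    rw [← e, e1] at hd
    exact (tor_fld_inj C (c' := 1) (φ' := 1) (by rw [← hd]; simp)).2
  · rintro ⟨_, ⟨s, rfl⟩, l, hl, e⟩
    exact ⟨s, l, hl, e⟩
  · rintro ⟨s, l, hl, e⟩
    exact ⟨_, ⟨s, rfl⟩, l, hl, e⟩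

end Cfsg.Agent.H96.DF
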