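import Cfsg.Agent.H53.FMDefs

/-! FPM M3: no odd order subgroup is transitive on its commutator space. -/

set_option autoImplicit false

namespace Cfsg.Agent.H8.Fm

open Subgroup Cfsg Cfsg.Agent.H83 Cfsg.Agent.H53.OpK Cfsg.Agent.H53.FM
open scoped commutatorElement

universe u

variable {Γ : Type u} [Group Γ]

theorem comm_cj {V X : Subgroup Γ} {g : Γ} (hg : g ∈ normalizer (V : Set Γ)) :
    ⁅V, cj g X⁆ = cj g ⁅V, X⁆ := by
  rw [cj_comm, cj_eq_self hg]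

theorem tr_cj {V X : Subgroup Γ} {g : Γ} (hg : g ∈ normalizer (V : Set Γ)) (h : Tr V X) :
    Tr V (cj g X) := by
  unfold Tr
  rw [comm_cj hg]
  refine ⟨fun e => h.1 (cj_eq_bot_iff.1 e), fun v hv w hw hv1 hw1 => ?_⟩
  have ne : ∀ x : Γ, x ≠ 1 → g⁻¹ * x * g ≠ 1 := fun x hx e => hx (by
    rw [show x = g * (g⁻¹ * x * g) * g⁻¹ by group, e]; group)
  obtain ⟨k, hk, e⟩ := h.2 _ (mem_cj.1 hv) _ (mem_cj.1 hw) (ne v hv1) (ne w hw1)
  refine ⟨g * k * g⁻¹, conj_mem_cj hk, ?_⟩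
  calc g * k * g⁻¹ * v * (g * k * g⁻¹)⁻¹ = g * (k * (g⁻¹ * v * g) * k⁻¹) * g⁻¹ := by group
    _ = w := by rw [e]; group

variable [Finite Γ]

/-- the combinatorial core: an invariant set of independent orbits -/
theorem core {A F V : Subgroup Γ} (hop : Op A F) (hs : Group.IsSolvable F)
    [IsMulCommutative V] (hAV : A ≤ normalizer (V : Set Γ)) (hFV : F ≤ normalizer (V : Set Γ))
    (hfpf : V ⊓ centralizer (A : Set Γ) = ⊥) (X : Set Γ) (hXV : X ⊆ V)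
    (hXA : ∀ a ∈ A, ∀ x ∈ X, a * x * a⁻¹ ∈ X) (hXF : ∀ g ∈ F, ∀ x ∈ X, g * x * g⁻¹ ∈ X)
    (hind : ∀ x ∈ X, ∀ g ∈ F, ∃ n ∈ F, n * x * n⁻¹ = g * x * g⁻¹ ∧
      ∀ z ∈ X, (¬ ∃ g ∈ F, g * x * g⁻¹ = z) → n * z * n⁻¹ = z)
    {v : Γ} (hv : v ∈ X) : v ∈ centralizer (F : Set Γ) := by
  classical
  let R : Setoid Γ := ⟨fun x y => ∃ g ∈ F, g * x * g⁻¹ = y,
    fun x => ⟨1, one_mem _, by group⟩,
    fun ⟨g, hg, e⟩ => ⟨g⁻¹, inv_mem hg, by rw [← e]; group⟩,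
    fun ⟨g, hg, e⟩ ⟨g', hg', e'⟩ => ⟨g' * g, mul_mem hg' hg, by rw [← e', ← e]; group⟩⟩
  let rep : Γ → Γ := fun x => (Quotient.mk R x).out
  have r1 : ∀ x, R x (rep x) := fun x => R.symm (Quotient.mk_out (s := R) x)
  have r2 : ∀ x y, R x y → rep x = rep y := fun x y h =>
    congrArg Quotient.out (Quotient.sound (s := R) h)
  have rX : ∀ x ∈ X, ∀ y, R x y → y ∈ X := by
    rintro x hx _ ⟨g, hg, rfl⟩
    exact hXF g hg x hx
  have rA : ∀ a ∈ A, ∀ x y, R (a * x * a⁻¹) (a * y * a⁻¹) → R x y := by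
    rintro a ha x y ⟨g, hg, e⟩
    refine ⟨a⁻¹ * g * a⁻¹⁻¹, (mem_normalizer_iff.1 (hop.norm (inv_mem ha)) g).1 hg, ?_⟩
    calc _ = a⁻¹ * (g * (a * x * a⁻¹) * g⁻¹) * a := by group
      _ = y := by rw [e]; group
  obtain ⟨k, hk, hkT⟩ := hop.fp hs (Y := normalizer {t | t ∈ X ∧ rep t = t}) fun a ha => by
    have key : ∀ s : Finset Γ, (∀ t ∈ s, t ∈ X ∧ rep t = t) →
        ∃ k ∈ F, ∀ t ∈ s, k * (a * t * a⁻¹) * k⁻¹ = rep (a * t * a⁻¹) := by
      intro s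
      induction s using Finset.induction_on with
      | empty => exact fun _ => ⟨1, one_mem _, by simp⟩
      | insert t' s ht' ih =>
        intro hs
        obtain ⟨k, hk, h1⟩ := ih fun t ht => hs t (Finset.mem_insert_of_mem ht)
        obtain ⟨h2, h3⟩ := hs t' (Finset.mem_insert_self _ _)
        have hz : R (a * t' * a⁻¹) (k * (a * t' * a⁻¹) * k⁻¹) := ⟨k, hk, rfl⟩
        obtain ⟨g, hg, e⟩ := R.trans (R.symm hz) (r1 _)
        obtain ⟨n, hn, h4, h5⟩ := hind _ (rX _ (hXA a ha t' h2) _ hz) g hg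
        refine ⟨n * k, mul_mem hn hk, fun t ht => ?_⟩
        have e1 : n * k * (a * t * a⁻¹) * (n * k)⁻¹ = n * (k * (a * t * a⁻¹) * k⁻¹) * n⁻¹ := by
          group
        rw [e1]
        rcases Finset.mem_insert.1 ht with rfl | ht
        · rw [h4, e]
        · obtain ⟨h6, h7⟩ := hs t (Finset.mem_insert_of_mem ht)
          rw [h1 t ht]
          refine h5 _ (rX _ (hXA a ha t h6) _ (r1 _)) fun h8 => ht' ?_
          have h9 := r2 _ _ (rA a ha _ _ (R.trans (R.trans hz h8) (R.symm (r1 _))))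
          rw [h3, h7] at h9
          rwa [h9]
    obtain ⟨k, hk, h1⟩ := key (Set.toFinite {t | t ∈ X ∧ rep t = t}).toFinset
      fun t ht => by simpa using ht
    refine ⟨k⁻¹, inv_mem hk, mem_normalizer_fintype fun t ht => ?_⟩
    have e : k⁻¹⁻¹ * a * t * (k⁻¹⁻¹ * a)⁻¹ = rep (a * t * a⁻¹) := by
      rw [← h1 t (by simpa using ht)]; group
    rw [e]
    exact ⟨rX _ (hXA a ha t ht.1) _ (r1 _), (r2 _ _ (r1 _)).symm⟩
  let _ : CommGroup V := { mul_comm := fun x y => mul_comm' x y }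
  have := Fintype.ofFinite V
  let s : Finset V := Finset.univ.filter fun t => k⁻¹ * t * k ∈ X ∧ rep (k⁻¹ * t * k) = k⁻¹ * t * k
  have hu : ∏ t ∈ s, t = 1 := by
    apply Subtype.ext
    rw [coe_one, ← mem_bot, ← hfpf]
    refine ⟨(∏ t ∈ s, t).2, fun a ha => ?_⟩
    let σ := V.normalizerMonoidHom ⟨a, hAV ha⟩
    have e : σ (∏ t ∈ s, t) = ∏ t ∈ s, t := by
      rw [map_prod]
      refine Finset.prod_equiv σ.toEquiv (fun t => ?_) fun _ _ => rfl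
      have h1 := mem_set_normalizer_iff.1 (hkT a ha) (k⁻¹ * t * k)
      have e1 : k⁻¹ * a * k * (k⁻¹ * t * k) * (k⁻¹ * a * k)⁻¹ = k⁻¹ * (a * t * a⁻¹) * k := by group
      rw [e1] at h1
      simp only [s, Finset.mem_filter, Finset.mem_univ, true_and]
      exact h1
    exact mul_inv_eq_iff_eq_mul.1 (congrArg Subtype.val e)
  have h0 : R v (k * rep v * k⁻¹) := R.trans (r1 v) ⟨k, hk, rfl⟩
  have h0X := rX v hv _ h0
  have hfix : ∀ g ∈ F, g * (k * rep v * k⁻¹) * g⁻¹ = k * rep v * k⁻¹ := by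
    intro g hg
    obtain ⟨n, hn, h4, h5⟩ := hind _ h0X g hg
    rw [← h4]
    let t₀ : V := ⟨_, hXV h0X⟩
    have e0 : k⁻¹ * (t₀ : Γ) * k = rep v := by show k⁻¹ * (k * rep v * k⁻¹) * k = _; group
    have ht₀ : t₀ ∈ s := by
      simp only [s, Finset.mem_filter, Finset.mem_univ, true_and, e0]
      exact ⟨rX v hv _ (r1 v), (r2 _ _ (r1 _)).symm⟩
    let σ := V.normalizerMonoidHom ⟨n, hFV hn⟩
    have e1 : σ (∏ t ∈ s.erase t₀, t) = ∏ t ∈ s.erase t₀, t := by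
      rw [map_prod]
      refine Finset.prod_congr rfl fun t ht => Subtype.ext ?_
      obtain ⟨h6, h7⟩ := Finset.mem_erase.1 ht
      obtain ⟨h8, h9⟩ := (Finset.mem_filter.1 h7).2
      have h10 : R (k⁻¹ * t * k) t := ⟨k, hk, by group⟩
      refine h5 t (rX _ h8 _ h10) fun h11 => h6 (Subtype.ext ?_)
      have h12 := r2 _ _ (R.trans (R.trans h0 h11) (R.symm h10))
      rw [h9] at h12
      show _ = k * rep v * k⁻¹
      rw [h12]; group
    have e2 := Finset.mul_prod_erase s (fun t => t) ht₀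
    rw [hu] at e2
    have e3 := congrArg σ e2
    rw [map_mul, e1, map_one, ← e2] at e3
    exact congrArg Subtype.val (mul_right_cancel e3)
  obtain ⟨c, hc, e⟩ := h0
  intro g hg
  have := hfix (c * g * c⁻¹) (mul_mem (mul_mem hc hg) (inv_mem hc))
  rw [← e] at this
  calc g * v = c⁻¹ * (c * g * c⁻¹ * (c * v * c⁻¹) * (c * g * c⁻¹)⁻¹) * c * g := by group
    _ = v * g := by rw [this]; group

theorem k4 (hM : MergeStmt.{u}) : K4Stmt.{u} := by
  intro Γ _ _ A H V G₀ hop hfpf hs hVH hV hHV hAV hG₀ hodd₀ htr₀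
  obtain ⟨F, hF, hAF⟩ := hop.exists_hall hs ({2}ᶜ : Set ℕ)
  have hFodd : Odd (Nat.card F) :=
    Nat.not_even_iff_odd.1 fun h => hF.2.1 2 Nat.prime_two h.two_dvd rfl
  obtain ⟨h, hh, hGF⟩ := H67.exists_cj_le_hall hs hF hG₀ fun p hp hd e => by
    rw [show p = 2 from e] at hd
    exact (Nat.not_even_iff_odd.2 hodd₀) (even_iff_two_dvd.2 hd)
  have htr := tr_cj (hHV hh) htr₀
  change cj h G₀ ≤ F at hGF
  generalize cj h G₀ = G₁ at hGF htr
  have := hV.1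
  have hFV : F ≤ normalizer (V : Set Γ) := hF.1.trans hHV
  have hGa : ∀ a ∈ A, cj a G₁ ≤ F := fun a ha => cj_le_of_norm hGF (hAF ha)
  let F₀ : Subgroup Γ := ⨆ a : A, cj (a : Γ) G₁
  have hF₀ : F₀ ≤ F := iSup_le fun a => hGa a a.2
  have hle : ∀ a ∈ A, cj a G₁ ≤ F₀ := fun a ha => le_iSup (fun a : A => cj (a : Γ) G₁) ⟨a, ha⟩
  have hAF₀ : A ≤ normalizer (F₀ : Set Γ) := fun b hb => mem_normalizer_fintype fun x hx => by
    have : F₀ ≤ cj b⁻¹ F₀ := iSup_le fun a y hy => by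
      rw [mem_cj]
      apply hle (b * a) (mul_mem hb a.2)
      rw [mem_cj] at hy ⊢
      convert hy using 1
      group
    simpa using mem_cj.1 (this hx)
  obtain ⟨⟨v, hv⟩, hv1⟩ := ne_bot_iff_exists_ne_one.1 htr.1
  replace hv1 : v ≠ 1 := fun e => hv1 (Subtype.ext e)
  have hcV : ∀ X : Subgroup Γ, X ≤ F → ⁅V, X⁆ ≤ V := fun X hX =>
    H4.commutator_le_left_of_le_normalizer (hX.trans hFV)
  let R : Γ → Γ → Prop := fun x y => ∃ g ∈ F₀, g * x * g⁻¹ = y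
  have Rs : ∀ {x y}, R x y → R y x := fun ⟨g, hg, e⟩ => ⟨g⁻¹, inv_mem hg, by rw [← e]; group⟩
  have Rt : ∀ {x y z}, R x y → R y z → R x z := fun ⟨g, hg, e⟩ ⟨g', hg', e'⟩ =>
    ⟨g' * g, mul_mem hg' hg, by rw [← e', ← e]; group⟩
  have hva : ∀ a ∈ A, a * v * a⁻¹ ∈ ⁅V, cj a G₁⁆ := fun a ha => by
    rw [comm_cj (hAV ha)]; exact conj_mem_cj hv
  have hR : ∀ a ∈ A, ∀ x ∈ ⁅V, cj a G₁⁆, x ≠ 1 → R (a * v * a⁻¹) x := fun a ha x hx hx1 => by
    obtain ⟨g, hg, e⟩ := (tr_cj (hAV ha) htr).2 _ (hva a ha) x hx (by simpa using hv1) hx1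
    exact ⟨g, hle a ha hg, e⟩
  have merge : ∀ a ∈ A, ∀ b ∈ A, ¬ R (a * v * a⁻¹) (b * v * b⁻¹) →
      ⁅V, cj a G₁⁆ ≤ centralizer ((cj b G₁ : Subgroup Γ) : Set Γ) := by
    intro a ha b hb hn
    refine (hM Γ V _ _ hV (hFodd.of_dvd_nat (card_dvd_of_le (sup_le (hGa a ha) (hGa b hb))))
      ((hGa a ha).trans hFV) ((hGa b hb).trans hFV) (tr_cj (hAV ha) htr) (tr_cj (hAV hb) htr)
      (by rw [comm_cj (hAV ha), comm_cj (hAV hb), card_cj, card_cj])).resolve_right ?_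
    rintro ⟨x, hx, hx1, g, hg, hg'⟩
    exact hn (Rt (Rt (hR a ha x hx hx1) ⟨g, sup_le (hle a ha) (hle b hb) hg, rfl⟩)
      (Rs (hR b hb _ hg' (by simpa using hx1))))
  -- the span of the class of `x` and the group generated by the factors of the class
  let W : Γ → Subgroup Γ := fun x => ⨆ (a : A) (_ : R (a * v * (a : Γ)⁻¹) x), ⁅V, cj (a : Γ) G₁⁆
  let N : Γ → Subgroup Γ := fun x => ⨆ (a : A) (_ : R (a * v * (a : Γ)⁻¹) x), cj (a : Γ) G₁
  have hWV : ∀ x, W x ≤ V := fun x => iSup₂_le fun a _ => hcV _ (hGa a a.2)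
  have hNF : ∀ x, N x ≤ F₀ := fun x => iSup₂_le fun a _ => hle a a.2
  have hWC : ∀ x, ∀ b ∈ A, ¬ R (b * v * b⁻¹) x →
      cj b G₁ ≤ centralizer ((W x : Subgroup Γ) : Set Γ) := fun x b hb hn =>
    le_centralizer_iff.1 (iSup₂_le fun a h1 => merge a a.2 b hb fun h2 => hn (Rt (Rs h2) h1))
  have hWN : ∀ x, F₀ ≤ normalizer ((W x : Subgroup Γ) : Set Γ) := fun x => iSup_le fun b => by
    by_cases hb : R (b * v * (b : Γ)⁻¹) x
    · intro g hg
      refine mem_normalizer_fintype fun w hw => ?_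
      have h1 : ⁅w⁻¹, g⁆ ∈ W x := le_iSup₂_of_le
        (f := fun (a : A) (_ : R (a * v * (a : Γ)⁻¹) x) => ⁅V, cj (a : Γ) G₁⁆) b hb le_rfl
        (commutator_mem_commutator (inv_mem (hWV x hw)) hg)
      have e : g * w * g⁻¹ = w * ⁅w⁻¹, g⁆ := by rw [commutatorElement_def]; group
      rw [e]
      exact mul_mem hw h1
    · exact (hWC x b b.2 hb).trans (centralizer_le_normalizer _)
  have hXW : ∀ x, (∃ a ∈ A, R (a * v * a⁻¹) x) → x ∈ W x := by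
    rintro x ⟨a, ha, g, hg, e⟩
    have h1 : a * v * a⁻¹ ∈ W x := le_iSup₂_of_le
      (f := fun (a : A) (_ : R (a * v * (a : Γ)⁻¹) x) => ⁅V, cj (a : Γ) G₁⁆) ⟨a, ha⟩ ⟨g, hg, e⟩
      le_rfl (hva a ha)
    have := (mem_normalizer_iff.1 (hWN x hg) _).1 h1
    rwa [e] at this
  have hact : ∀ x, ∀ g ∈ F₀, ∃ n ∈ N x, ∀ w ∈ W x, n * w * n⁻¹ = g * w * g⁻¹ := by
    intro x
    let Z : Subgroup Γ :=
      { carrier := {g | ∃ n ∈ N x, ∀ w ∈ W x, n * w * n⁻¹ = g * w * g⁻¹}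
        mul_mem' := by
          rintro g g' ⟨n, hn, h1⟩ ⟨n', hn', h2⟩
          refine ⟨n * n', mul_mem hn hn', fun w hw => ?_⟩
          calc n * n' * w * (n * n')⁻¹ = n * (n' * w * n'⁻¹) * n⁻¹ := by group
            _ = g * (n' * w * n'⁻¹) * g⁻¹ :=
                h1 _ ((mem_normalizer_iff.1 (hWN x (hNF x hn')) w).1 hw)
            _ = _ := by rw [h2 w hw]; group
        one_mem' := ⟨1, one_mem _, fun _ _ => rfl⟩
        inv_mem' := by
          rintro g ⟨n, hn, h1⟩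
          refine ⟨n⁻¹, inv_mem hn, fun w hw => ?_⟩
          have := h1 _ ((mem_normalizer_iff.1 (hWN x (hNF x (inv_mem hn))) w).1 hw)
          calc n⁻¹ * w * n⁻¹⁻¹ = g⁻¹ * (g * (n⁻¹ * w * n⁻¹⁻¹) * g⁻¹) * g := by group
            _ = _ := by rw [← this]; group }
    have : F₀ ≤ Z := iSup_le fun b g hg => by
      by_cases hb : R (b * v * (b : Γ)⁻¹) x
      · exact ⟨g, le_iSup₂_of_le
          (f := fun (a : A) (_ : R (a * v * (a : Γ)⁻¹) x) => cj (a : Γ) G₁) b hb le_rfl hg,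
          fun _ _ => rfl⟩
      · refine ⟨1, one_mem _, fun w hw => ?_⟩
        rw [← hWC x b b.2 hb hg w hw]
        group
    exact fun g hg => this hg
  have hcent := core (A := A) (F := F₀) (V := V) (hop.sub (hF₀.trans hF.1) hAF₀)
    (H4.isSolvable_of_le (hF₀.trans hF.1) hs) hAV (hF₀.trans hFV)
    (eq_bot_iff.2 ((inf_le_inf_right _ hVH).trans hfpf.le)) {x | ∃ a ∈ A, R (a * v * a⁻¹) x}
    (fun x hx => hWV x (hXW x hx))
    (by
      rintro b hb x ⟨a, ha, g, hg, e⟩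
      refine ⟨b * a, mul_mem hb ha, b * g * b⁻¹, (mem_normalizer_iff.1 (hAF₀ hb) g).1 hg, ?_⟩
      rw [← e]; group)
    (fun g hg x ⟨a, ha, h1⟩ => ⟨a, ha, Rt h1 ⟨g, hg, rfl⟩⟩)
    (fun x hx g hg => by
      obtain ⟨n, hn, h1⟩ := hact x g hg
      refine ⟨n, hNF x hn, h1 x (hXW x hx), fun z hz hn' => ?_⟩
      have h2 : N x ≤ centralizer ((W z : Subgroup Γ) : Set Γ) :=
        iSup₂_le fun b hb => hWC z b b.2 fun h3 => hn' (Rt (Rs hb) h3)
      rw [← h2 hn z (hXW z hz)]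
      group)
    (v := v) ⟨1, one_mem _, 1, one_mem _, by group⟩
  have hG₁ : G₁ ≤ F₀ := by simpa [cj_one] using hle 1 (one_mem _)
  have hcop : (Nat.card G₁).Coprime (Nat.card V) := by
    have : Fact (Nat.Prime 2) := ⟨Nat.prime_two⟩
    have h2 : IsPGroup 2 V := fun x => ⟨1, Subtype.ext (by simpa using hV.2 x x.2)⟩
    obtain ⟨j, hj⟩ := h2.exists_card_eq
    rw [hj]
    exact (Nat.coprime_two_right.2 (hFodd.of_dvd_nat (card_dvd_of_le hGF))).pow_right j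
  have := H4.centralizer_inf_commutator_eq_bot (hGF.trans hFV) hcop
  exact hv1 (mem_bot.1 (this ▸ ⟨centralizer_le hG₁ hcent, hv⟩))

end Cfsg.Agent.H8.Fm
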