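import Cfsg.Agent.H50.DerDefs

/-!
The structure of the non-abelian minimal `r`-group in the linear part of the derangement theorem.
-/

set_option autoImplicit false

namespace Cfsg.Agent.H8.DerB

open Cfsg.Agent.H50.Der MulAction Subgroup
open scoped commutatorElement

universe u

section

variable {M V : Type u} [Group M] [CommGroup V] [MulDistribMulAction M V]

theorem norm_eq_one {g : M} {r : ℕ} (hg : g ^ r = 1) (hf : ∀ v : V, g • v = v → v = 1) (v : V) :
    ∏ j ∈ Finset.range r, g ^ j • v = 1 := by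
  apply hf
  rw [Finset.smul_prod']
  have h1 := Finset.prod_range_succ' (fun j => g ^ j • v) r
  have h2 := Finset.prod_range_succ (fun j => g ^ j • v) r
  simp only [hg, pow_zero, one_smul] at h1 h2
  simp only [smul_smul, ← pow_succ']
  exact mul_right_cancel (h1.symm.trans h2)

theorem rr [Finite V] {N : Subgroup M} {r : ℕ} (hr : r.Prime) (cop : ¬ r ∣ Nat.card V)
    (hV : ∃ v : V, v ≠ 1) (semi : ∀ y ∈ N, ∀ v : V, v ≠ 1 → y • v = v → y = 1) {z u : M}
    (hz : z ∈ N) (oz : orderOf z = r) (hu : u ∈ N) (ur : u ^ r = 1) (hc : Commute u z) :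
    u ∈ zpowers z := by
  by_contra hn
  have fpf : ∀ y ∈ N, y ≠ 1 → ∀ v : V, y • v = v → v = 1 := fun y hy h1 v hv => by
    by_contra h
    exact h1 (semi y hy v h hv)
  have zr : z ^ r = 1 := by rw [← oz, pow_orderOf_eq_one]
  obtain ⟨v, hv⟩ := hV
  have key : v ^ r = 1 := by
    have h1 : ∏ k ∈ Finset.range r, ∏ j ∈ Finset.range r, (u * z ^ k) ^ j • v = 1 := by
      refine Finset.prod_eq_one fun k _ => norm_eq_one ?_ (fpf _ (mul_mem hu (pow_mem hz k)) ?_) v
      · rw [(hc.pow_right k).mul_pow, ur, ← pow_mul, mul_comm k, pow_mul, zr, one_pow, one_mul]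
      · intro e
        apply hn
        rw [eq_inv_of_mul_eq_one_left e]
        exact inv_mem (pow_mem (mem_zpowers z) k)
    rw [Finset.prod_comm, Finset.prod_eq_single 0] at h1
    · simpa using h1
    · intro j hj hj0
      have h2 : ∀ k, (u * z ^ k) ^ j • v = u ^ j • (z ^ j) ^ k • v := fun k => by
        rw [(hc.pow_right k).mul_pow, mul_smul, ← pow_mul, ← pow_mul, mul_comm k]
      simp only [h2]
      rw [← Finset.smul_prod', norm_eq_one (r := r) (by
        rw [← pow_mul, mul_comm, pow_mul, zr, one_pow]) (fpf _ (pow_mem hz j) ?_), smul_one]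
      exact pow_ne_one_of_lt_orderOf hj0 (by rw [oz]; exact Finset.mem_range.1 hj)
    · intro h
      exact absurd (Finset.mem_range.2 hr.pos) h
  have := Fact.mk hr
  exact cop (orderOf_eq_prime key hv ▸ orderOf_dvd_natCard v)

theorem exists_proper [Finite M] {R : Subgroup M} {r : ℕ} (hr : r.Prime) (pg : IsPGroup r R)
    (h0 : R ≠ ⊥) : ∃ K : Subgroup M, K < R ∧ (∀ a ∈ R, ∀ b ∈ R, ⁅a, b⁆ ∈ K) ∧
      ∀ a ∈ R, a ^ r ∈ K := by
  have := Fact.mk hr
  have : Nontrivial R := (nontrivial_iff_ne_bot R).2 h0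
  obtain ⟨n, hn0, hn⟩ := pg.nontrivial_iff_card.1 this
  obtain ⟨K, hK⟩ := Sylow.exists_subgroup_card_pow_prime (G := R) r (n := n - 1)
    (by rw [hn]; exact pow_dvd_pow r (by omega))
  have hi : K.index = r := by
    have h1 := K.card_mul_index
    rw [hK, hn, show n = (n - 1) + 1 by omega, pow_succ, Nat.add_sub_cancel] at h1
    exact Nat.eq_of_mul_eq_mul_left (pow_pos hr.pos _) h1
  have hN : K.Normal := normal_of_index_eq_minFac_card (by
    rw [hi, hn, hr.pow_minFac hn0.ne'])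
  have hc : IsCyclic (R ⧸ K) := isCyclic_of_prime_card (p := r) hi
  refine ⟨K.map R.subtype, lt_of_le_of_ne (map_subtype_le K) fun e => ?_, fun a ha b hb => ?_,
    fun a ha => ?_⟩
  · have : K = ⊤ := by
      rw [eq_top_iff]
      intro x _
      obtain ⟨y, hy, e1⟩ : x.1 ∈ K.map R.subtype := e.symm ▸ x.2
      rwa [← Subtype.ext e1]
    rw [this, index_top] at hi
    exact hr.one_lt.ne hi
  · refine ⟨⁅(⟨a, ha⟩ : R), ⟨b, hb⟩⁆, ?_, rfl⟩
    have h1 : (QuotientGroup.mk' K ⁅(⟨a, ha⟩ : R), ⟨b, hb⟩⁆) = 1 := by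
      rw [map_commutatorElement, commutatorElement_eq_one_iff_mul_comm]
      exact hc.isMulCommutative.is_comm.comm _ _
    exact (QuotientGroup.eq_one_iff _).1 h1
  · exact ⟨(⟨a, ha⟩ : R) ^ r, hi ▸ K.pow_index_mem _, rfl⟩

theorem exists_central [Finite M] {R N : Subgroup M} {r : ℕ} (hr : r.Prime) (pg : IsPGroup r R)
    (hN : N ≤ R) (hn : Nm R N) (h0 : N ≠ ⊥) :
    ∃ z ∈ N, orderOf z = r ∧ ∀ x ∈ R, x * z = z * x := by
  have := Fact.mk hr
  let act : MulAction R N :=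
    { smul := fun g x => ⟨g.1 * x.1 * g.1⁻¹, hn _ g.2 _ x.2⟩
      one_smul := fun x => Subtype.ext (by
        change (1 : M) * x.1 * (1 : M)⁻¹ = x.1
        group)
      mul_smul := fun g h x => Subtype.ext (by
        change (g.1 * h.1) * x.1 * (g.1 * h.1)⁻¹ = g.1 * (h.1 * x.1 * h.1⁻¹) * g.1⁻¹
        group) }
  have : Nontrivial N := (nontrivial_iff_ne_bot N).2 h0
  have pN : IsPGroup r N := pg.to_le hN
  obtain ⟨n, hn0, hn'⟩ := pN.nontrivial_iff_card.1 this
  obtain ⟨w, hw, hw1⟩ := pg.exists_fixed_point_of_prime_dvd_card_of_fixed_point N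
    (by rw [hn']; exact dvd_pow_self r hn0.ne') (a := 1) (fun g => Subtype.ext (by
      change g.1 * 1 * g.1⁻¹ = 1
      group))
  have hc : ∀ x ∈ R, Commute x w.1 := fun x hx =>
    mul_inv_eq_iff_eq_mul.1 (congrArg Subtype.val (hw ⟨x, hx⟩))
  have hw1' : w.1 ≠ 1 := fun e => hw1 (Subtype.ext e).symm
  obtain ⟨k, hk⟩ := IsPGroup.iff_orderOf.1 pN w
  have ho : orderOf w.1 = r ^ k := by rw [← hk, Subgroup.orderOf_coe]
  have hk0 : k ≠ 0 := fun e => hw1' (by rw [← orderOf_eq_one_iff, ho, e, pow_zero])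
  refine ⟨w.1 ^ (orderOf w.1 / r), pow_mem w.2 _, orderOf_pow_orderOf_div (orderOf_pos _).ne' ?_,
    fun x hx => ((hc x hx).pow_right _).eq⟩
  rw [ho]
  exact dvd_pow_self r hk0

end

theorem linB : LinBStmt.{u} := by
  intro M V _ _ _ _ _ E U R r h hna
  have := Fact.mk h.pr
  let N : Subgroup M := closure ({x | ∃ a ∈ R, ∃ b ∈ R, x = ⁅a, b⁆} ∪ {x | ∃ a ∈ R, x = a ^ r})
  have cN : ∀ a ∈ R, ∀ b ∈ R, ⁅a, b⁆ ∈ N := fun a ha b hb =>
    subset_closure (Or.inl ⟨a, ha, b, hb, rfl⟩)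
  have pN : ∀ a ∈ R, a ^ r ∈ N := fun a ha => subset_closure (Or.inr ⟨a, ha, rfl⟩)
  obtain ⟨y0, hy0, hy01, v0, hv0, -⟩ := h.ns
  have R0 : R ≠ ⊥ := fun e => hy01 (mem_bot.1 (e ▸ hy0))
  have hNR : N < R := by
    obtain ⟨K, hK, h1, h2⟩ := exists_proper h.pr h.pg R0
    refine lt_of_le_of_lt ((closure_le _).2 ?_) hK
    rintro _ (⟨a, ha, b, hb, rfl⟩ | ⟨a, ha, rfl⟩)
    exacts [h1 a ha b hb, h2 a ha]
  have nN : Nm U N := fun m hm z hz => by
    have : N ≤ N.comap (MulAut.conj m).toMonoidHom := (closure_le _).2 (by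
      rintro _ (⟨a, ha, b, hb, rfl⟩ | ⟨a, ha, rfl⟩)
      · change (MulAut.conj m).toMonoidHom ⁅a, b⁆ ∈ N
        rw [map_commutatorElement]
        exact cN _ (h.nR m hm a ha) _ (h.nR m hm b hb)
      · change (MulAut.conj m).toMonoidHom (a ^ r) ∈ N
        rw [map_pow]
        exact pN _ (h.nR m hm a ha))
    exact this hz
  have semi := h.mn N hNR nN
  have N0 : N ≠ ⊥ := fun e => hna fun a ha b hb =>
    commutatorElement_eq_one_iff_mul_comm.1 (mem_bot.1 (e ▸ cN a ha b hb))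
  obtain ⟨z, hz, oz, cz⟩ := exists_central h.pr h.pg hNR.le (fun m hm => nN m (h.RU hm)) N0
  have c4 : ∀ w ∈ R, ∀ v : V, v ≠ 1 → w • v = v → w ^ r = 1 := fun w hw v hv e =>
    semi _ (pN w hw) v hv (pow_mem (show w ∈ stabilizer M v from e) r)
  refine ⟨z, hNR.le hz, oz, cz, fun u hu hu1 v hv => ?_, c4, fun y hy hy1 ⟨v, hv, e⟩ => ?_⟩
  · by_contra hv1
    exact hu1 (semi u (zpowers_le.2 hz hu) v hv1 hv)
  have yr := c4 y hy v hv e
  have nc : ¬ ∀ x ∈ R, x * y = y * x := fun hc => by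
    let S : Subgroup M :=
      { carrier := {x | x ∈ R ∧ (∀ a ∈ R, Commute a x) ∧ x ^ r = 1}
        one_mem' := ⟨one_mem _, fun a _ => Commute.one_right a, one_pow r⟩
        mul_mem' := fun {a b} ha hb => ⟨mul_mem ha.1 hb.1,
          fun c hc => (ha.2.1 c hc).mul_right (hb.2.1 c hc),
          by rw [(hb.2.1 a ha.1).mul_pow, ha.2.2, hb.2.2, one_mul]⟩
        inv_mem' := fun {a} ha => ⟨inv_mem ha.1, fun c hc => (ha.2.1 c hc).inv_right,
          by rw [inv_pow, ha.2.2, inv_one]⟩ }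
    refine hy1 (h.mn S (lt_of_le_of_ne (fun x hx => hx.1) fun e1 => hna fun a ha b hb => ?_)
      (fun m hm x hx => ⟨h.nR m hm x hx.1, fun a ha => ?_, by rw [conj_pow, hx.2.2]; group⟩)
      y ⟨hy, hc, yr⟩ v hv e)
    · exact (show b ∈ S from e1.symm ▸ hb).2.1 a ha
    · have h1 := (hx.2.1 _ (h.nR _ (inv_mem hm) a ha)).eq
      rw [inv_inv] at h1
      change a * (m * x * m⁻¹) = m * x * m⁻¹ * a
      calc a * (m * x * m⁻¹) = m * (m⁻¹ * a * m * x) * m⁻¹ := by group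
        _ = _ := by rw [h1]; group
  have nil : Group.IsNilpotent R := h.pg.isNilpotent
  have hlt : (centralizer {y}).subgroupOf R < ⊤ := lt_top_iff_ne_top.2 fun e1 => nc fun x hx =>
    mem_centralizer_singleton_iff.1
      (show (⟨x, hx⟩ : R) ∈ (centralizer {y}).subgroupOf R from e1.symm ▸ mem_top _)
  obtain ⟨g, hg, hgC⟩ := SetLike.exists_of_lt (Group.normalizerCondition_of_isNilpotent _ hlt)
  have h1 : Commute (g.1 * y * g.1⁻¹) y := mem_centralizer_singleton_iff.1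
    (show g * ⟨y, hy⟩ * g⁻¹ ∈ (centralizer {y}).subgroupOf R from
      (mem_normalizer_iff.1 hg _).1 (mem_centralizer_singleton_iff.2 rfl))
  have hu : y⁻¹ * (g.1 * y * g.1⁻¹) ∈ N := by
    have := cN _ (inv_mem hy) _ g.2
    rwa [commutatorElement_def, inv_inv, mul_assoc, mul_assoc, ← mul_assoc g.1] at this
  refine ⟨g, g.2, y⁻¹ * (g.1 * y * g.1⁻¹), rr h.pr h.cop ⟨v, hv⟩ semi hz oz hu ?_
    (cz _ (hNR.le hu)), fun e1 => hgC ?_, by group⟩
  · rw [h1.symm.inv_left.mul_pow, inv_pow, conj_pow, yr]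
    group
  · exact mem_centralizer_singleton_iff.2 (mul_inv_eq_iff_eq_mul.1 (inv_mul_eq_one.1 e1).symm)

end Cfsg.Agent.H8.DerB
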