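import Cfsg.Agent.H56.ZCN1

/-! Project ZC (S3617), piece L. -/

set_option autoImplicit false
set_option linter.unusedSectionVars false

namespace Cfsg.Agent.H8.ZCL

open Subgroup Cfsg.Agent.H56.FS Cfsg.Agent.H56.ZC
open scoped commutatorElement

universe u

variable {G : Type*} [Group G] {p : ℕ} {D : Set (Subgroup G)}

theorem cen_comm {z : G} (hz : z ∈ center G) (g : G) : g * z = z * g := mem_center_iff.1 hz g

theorem Ce_mul {x z : G} (hz : z ∈ center G) : Ce (x * z) = Ce x := by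
  ext y
  rw [mem_Ce, mem_Ce, ← mul_assoc, mul_assoc x z y, ← cen_comm hz y, ← mul_assoc, mul_left_inj]

theorem phi_mul (t x : G) {y : G} (hy : ⁅t, y⁆ ∈ center G) : ⁅t, x * y⁆ = ⁅t, x⁆ * ⁅t, y⁆ := by
  calc ⁅t, x * y⁆ = ⁅t, x⁆ * (x * ⁅t, y⁆) * x⁻¹ := by simp only [commutatorElement_def]; group
    _ = _ := by rw [cen_comm hy x]; group

theorem phi_cen (t : G) {z : G} (hz : z ∈ center G) : ⁅t, z⁆ = 1 :=
  commutatorElement_eq_one_iff_mul_comm.2 (cen_comm hz t)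

/-- the elements commuting with `t` modulo the centre -/
def Cs (t : G) : Subgroup G where
  carrier := {x | ⁅t, x⁆ ∈ center G}
  one_mem' := by simp
  mul_mem' := fun {x y} hx hy => by
    change ⁅t, x * y⁆ ∈ center G
    rw [phi_mul t x hy]
    exact mul_mem hx hy
  inv_mem' := fun {x} hx => by
    change ⁅t, x⁻¹⁆ ∈ center G
    have := phi_mul t x⁻¹ hx
    rw [inv_mul_cancel, commutatorElement_one_right] at this
    rw [eq_inv_of_mul_eq_one_left this.symm]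
    exact inv_mem hx

theorem phi_conj {t g x : G} (hg : g ∈ Cs t) (hx : x ∈ Cs t) : ⁅t, g * x * g⁻¹⁆ = ⁅t, x⁆ := by
  have h1 := phi_mul t g (y := g⁻¹) (inv_mem hg)
  rw [mul_inv_cancel, commutatorElement_one_right] at h1
  rw [phi_mul t _ (y := g⁻¹) (inv_mem hg), phi_mul t g hx, cen_comm hx, mul_assoc, ← h1, mul_one]

theorem memE {ζ : G} (hζ : Gz D ζ) : ζ ∈ Ez D ζ := ⟨hζ.2, le_Ce_iff.1 (LL_le _)⟩

theorem gzZ {X : Subgroup G} {e : G} (he : e ∈ ZZ D X) (h1 : e ∉ center G) : Gz D e :=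
  ⟨h1, RR_le_RR (LL_le_Ce_of_Z he) he.1⟩

theorem Ce_ne {x : G} (hx : x ∉ center G) : Ce x ≠ ⊤ := fun e =>
  hx (mem_center_iff.2 fun g => mem_Ce.1 (e ▸ mem_top g))

theorem conj_n {t : G} (ht : t * t ∈ center G) (x : G) :
    ⁅t, x⁻¹ * (t * x * t⁻¹)⁆ = (x⁻¹ * (t * x * t⁻¹) * (x⁻¹ * (t * x * t⁻¹)))⁻¹ := by
  calc ⁅t, x⁻¹ * (t * x * t⁻¹)⁆ = t * x⁻¹ * t⁻¹ * ((t * t) * x) * (t * t)⁻¹ * (t * x⁻¹ * t⁻¹ * x) := by
        simp only [commutatorElement_def]; group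
    _ = _ := by rw [← cen_comm ht x]; group

variable [Finite G] (h : Fx p D)
include h

theorem sv {x : G} (hx : x ∉ center G) : Sv D (Ce x) := h.sol _ (Ce_ne hx)

theorem blk2 {ζ : G} (hζ : Gz D ζ) {x : G} (hx : x ∉ center G) (hle : Bk D ζ ≤ Ce x) :
    Bk D x ≤ Ce ζ := by
  obtain ⟨A, hA, hAζ⟩ := exists_pt_of_RR (D := D) (X := Ce ζ) fun e =>
    hζ.1 (mem_bot.1 (e ▸ hζ.2) ▸ one_mem _)
  exact LL_le_Ce_of_Z (h.mz _ (sv h hx) A hA ((le_LL hA hAζ).trans hle) _ (RR_le_RR hle hζ.2)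
    (cj_of_cent (le_Ce_iff.1 hAζ)))

theorem blk_eq {ζ : G} (hζ : Gz D ζ) {x : G} (hx : x ∉ center G) (hle : Bk D ζ ≤ Ce x) :
    Bk D x = Bk D ζ := le_antisymm (LL_le_LL (blk2 h hζ hx hle)) (LL_le_LL hle)

theorem blk3 {ζ w : G} (hζ : Gz D ζ) (hw : w ∈ Ez D ζ) (w1 : w ∉ center G) : Bk D w = Bk D ζ :=
  blk_eq h hζ w1 (LL_le_Ce_of_Z hw)

theorem exists_cz {ζ t : G} (hζ : Gz D ζ) (ht : t * t ∈ center G)
    (hn : t ∈ normalizer (Bk D ζ : Set G)) : ∃ e ∈ Ez D ζ, e ∉ center G ∧ e ∈ Cs t := by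
  by_cases h1 : ⁅t, ζ⁆ ∈ center G
  · exact ⟨ζ, memE hζ, hζ.1, h1⟩
  have h2 : ⁅t, ζ⁆ ∈ Ez D ζ :=
    mul_mem ((mem_normalizer_iff.1 (norm_ZZ _ hn) _).1 (memE hζ)) (inv_mem (memE hζ))
  refine ⟨_, h2, h1, ?_⟩
  change ⁅t, ⁅t, ζ⁆⁆ ∈ center G
  have e : ⁅t, ⁅t, ζ⁆⁆ = (⁅t, ζ⁆ * ⁅t, ζ⁆)⁻¹ := by
    calc ⁅t, ⁅t, ζ⁆⁆ = (t * t) * ζ * (t * t)⁻¹ * (t * ζ⁻¹ * t⁻¹ * ζ * t * ζ⁻¹ * t⁻¹) := by
          simp only [commutatorElement_def]; group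
      _ = _ := by rw [← cen_comm ht ζ]; simp only [commutatorElement_def]; group
  rw [e, h.e2 _ (sv h hζ.1) _ h2, inv_one]
  exact one_mem _

theorem fix_le {ζ t : G} (hζ : Gz D ζ) (h1 : t ∉ center G) (ht : t * t ∈ center G)
    (hn : t ∈ normalizer (Bk D ζ : Set G)) {A : Subgroup G} (hA : A ∈ D) (hAζ : A ≤ Ce ζ)
    (hAt : A ≤ Ce t) : Bk D t ≤ Bk D ζ := by
  obtain ⟨e, he, e1, e2⟩ := exists_cz h hζ ht hn
  rw [← blk3 h hζ he e1]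
  refine LL_le_LL (h.n1 e (gzZ he e1) _ (Ce_ne h1) A hA hAt
    ((le_LL hA hAζ).trans (LL_le_Ce_of_Z he)) (norm_LL h.inv _ (cj_eq_iff.1 ?_)))
  have e3 : e * t * e⁻¹ = t * (⁅t, e⁆)⁻¹ := by
    rw [cen_comm (inv_mem e2) t]; simp only [commutatorElement_def]; group
  rw [cj_Ce, e3, Ce_mul (inv_mem e2)]

/-- elements of the radical commuting with `t` modulo `Ez` -/
theorem split {ζ t : G} (hζ : Gz D ζ) (h1 : t ∉ center G) (hF : Bk D t ≤ Bk D ζ) {A : Subgroup G}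
    (hA : A ∈ D) (hAζ : A ≤ Ce ζ) (hAt : A ≤ Ce t) {y : G} (hy : y ∈ RR D (Ce ζ))
    (hc : ⁅t, y⁆ ∈ Ez D ζ) : ∃ y0 ∈ RR D (Ce t), ∃ e ∈ Ez D ζ, y = y0 * e := by
  have hB := h.inv A hA y
  have h2 : cj y A ≤ Bk D ζ := cj_le_of_mem (RR_le _ hy) (le_LL hA hAζ)
  have h3 : cj t (cj y A) = cj y A := by
    have e : t * y = ⁅t, y⁆ * (y * t) := by simp only [commutatorElement_def]; group
    rw [cj_cj, e, ← cj_cj, ← cj_cj, cj_of_cent (le_Ce_iff.1 hAt)]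
    exact cj_of_cent fun x hx => ZZ_comm hc (h2 hx)
  obtain ⟨y0, hy0, e⟩ := h.toCl2.conj_pt (sv h h1) hA hAt hB
    (le_Ce_iff.2 (h.eps _ hB (cj_eq_iff.1 h3)))
  refine ⟨y0, hy0, y0⁻¹ * y, h.mz _ (sv h hζ.1) A hA hAζ _
    (mul_mem (inv_mem (RR_le_RR (hF.trans (LL_le _)) hy0)) hy) ?_, by group⟩
  rw [← cj_cj, e, cj_inv_cj]

omit [Finite G] h in
theorem comm_E {X : Subgroup G} {x y e : G} (hx : x ∈ LL D X) (he : e ∈ ZZ D X) :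
    ⁅x, y * e⁆ = ⁅x, y⁆ := by
  calc ⁅x, y * e⁆ = x * y * (e * x⁻¹) * e⁻¹ * y⁻¹ := by simp only [commutatorElement_def]; group
    _ = _ := by rw [← ZZ_comm he (inv_mem hx)]; simp only [commutatorElement_def]; group

end Cfsg.Agent.H8.ZCL

namespace Cfsg.Agent.H8.ZCL

open Subgroup Cfsg.Agent.H56.FS Cfsg.Agent.H56.ZC
open scoped commutatorElement

universe u

theorem l (od : OdStmt.{u}) : LStmt.{u} := by
  intro G _ _ p D h ζ₁ ζ₂ g1 g2 A hA a1 a2 hne big t tz tt at' n1 n2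
  have F1 := fix_le h g1 tz tt n1 hA a1 at'
  have F2 := fix_le h g2 tz tt n2 hA a2 at'
  have s1 := sv h g1.1
  obtain ⟨ζ', z2, z1, zc⟩ := exists_cz h g2 tt n2
  have EF : ∀ e ∈ Ez D t, e ∈ center G := fun e he => by
    by_contra e1
    have k : cj e A = A := cj_of_cent fun x hx => ZZ_comm he (le_LL hA at' hx)
    exact hne ((blk3 h g1 (h.mz _ s1 A hA a1 e (RR_le_RR (F1.trans (LL_le _)) he.1) k) e1).symm.trans
      (blk3 h g2 (h.mz _ (sv h g2.1) A hA a2 e (RR_le_RR (F2.trans (LL_le _)) he.1) k) e1))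
  obtain ⟨x, hx, hn⟩ : ∃ x ∈ RR D (Ce ζ₁), x⁻¹ * (t * x * t⁻¹) ∉ Ez D ζ₁ := by
    by_contra! hc
    exact hne (blk_eq h g1 g2.1 ((LL_le_LL ((h.t2 _ s1 A hA a1 t at' n1).2 hc)).trans
      (F2.trans (LL_le _)))).symm
  have nR : ∀ x ∈ RR D (Ce ζ₁), x⁻¹ * (t * x * t⁻¹) ∈ RR D (Ce ζ₁) := fun x hx =>
    mul_mem (inv_mem hx) ((mem_normalizer_iff.1 (norm_RR _ n1) x).1 hx)
  have nE : ∀ x ∈ RR D (Ce ζ₁), ⁅t, x⁻¹ * (t * x * t⁻¹)⁆ ∈ Ez D ζ₁ := fun x hx => by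
    rw [conj_n tt]
    exact inv_mem (h.sq _ s1 _ (nR x hx))
  have two : ∀ y ∈ RR D (Ce ζ₁), ∀ y' ∈ RR D (Ce ζ₁), ⁅t, y⁆ ∈ Ez D ζ₁ → ⁅t, y'⁆ ∈ Ez D ζ₁ →
      ⁅y, y'⁆ ∈ center G := fun y hy y' hy' c c' => by
    obtain ⟨y0, h0, e, he, rfl⟩ := split h g1 tz F1 hA a1 at' hy c
    obtain ⟨y0', h0', e', he', rfl⟩ := split h g1 tz F1 hA a1 at' hy' c'
    rw [comm_E (RR_le _ hy) he', ← commutatorElement_inv, comm_E (F1 (RR_le _ h0')) he]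
    exact inv_mem (EF _ (h.cm _ (sv h tz) _ h0' _ h0))
  obtain ⟨a, ha, a0, -⟩ := h.toCl2.toBs2.exists_gen hA
  have aL : a ∈ Bk D ζ₁ := le_LL hA a1 ha
  set n := x⁻¹ * (t * x * t⁻¹) with hndef
  have yR : a * n * a⁻¹ ∈ RR D (Ce ζ₁) := (mem_normalizer_iff.1 (LL_le_norm_RR _ aL) n).1 (nR x hx)
  have yE : ⁅t, a * n * a⁻¹⁆ ∈ Ez D ζ₁ := by
    have e : ⁅t, a * n * a⁻¹⁆ = a * ⁅t, n⁆ * a⁻¹ := by
      have := mem_Ce.1 (at' ha)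
      rw [conjugate_commutatorElement, this, mul_inv_cancel_right]
    rw [e]
    exact (mem_normalizer_iff.1 (norm_ZZ _ (le_normalizer aL)) _).1 (nE x hx)
  obtain ⟨y0, h0, e, he, ey⟩ := split h g1 tz F1 hA a1 at' yR yE
  have y0R : y0 ∈ RR D (Ce ζ₁) := RR_le_RR (F1.trans (LL_le _)) h0
  have y0t : ⁅t, y0⁆ ∈ Ez D ζ₁ := by
    rw [commutatorElement_eq_one_iff_mul_comm.2 (mem_Ce.1 (LL_le _ (RR_le _ h0))).symm]
    exact one_mem _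
  have εE : ⁅x, y0⁆ ∈ Ez D ζ₁ := h.cm _ s1 _ hx _ y0R
  have z0 : ⁅t, ⁅x, y0⁆⁆ ≠ 1 := by
    rw [← comm_E (RR_le _ hx) he, ← ey, ← h.t1 _ s1 t n1 x hx _ yR yE]
    exact h.nc _ s1 A hA a1 a ha a0 n (nR x hx) hn
  have ε1 : ⁅x, y0⁆ ∉ center G := fun e => z0 (phi_cen t e)
  have od' : ∀ ε ∈ Ez D ζ₁, ε ∉ center G →
      ∃ g ∈ closure ({ε, ζ'} : Set G), ∃ z ∈ center G, g * ε * g⁻¹ = ζ' * z := fun ε hε e1 =>
    od G p D h ε ζ' (gzZ hε e1) (gzZ z2 z1) A hA ((le_LL hA a1).trans (LL_le_Ce_of_Z hε))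
      ((le_LL hA a2).trans (LL_le_Ce_of_Z z2)) (by rwa [blk3 h g1 hε e1, blk3 h g2 z2 z1])
  have cy : ∀ ε ∈ Ez D ζ₁, closure ({ε, ζ'} : Set G) ≤ Ce y0 := fun ε hε => (closure_le _).2 (by
    rintro _ (rfl | rfl)
    · exact mem_Ce.2 (ZZ_comm hε (F1 (RR_le _ h0))).symm
    · exact mem_Ce.2 (ZZ_comm z2 (F2 (RR_le _ h0))).symm)
  have EC : ∀ ε ∈ Ez D ζ₁, ε ∈ Cs t := fun ε hε => by
    by_cases e1 : ε ∈ center G
    · change ⁅t, ε⁆ ∈ center G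
      rw [phi_cen t e1]
      exact one_mem _
    obtain ⟨u, hu, z, hz, eu⟩ := od' _ εE ε1
    obtain ⟨v, hv, z', hz', ev⟩ := od' _ hε e1
    have hg : v⁻¹ * u ∈ Ce y0 := mul_mem (inv_mem (cy _ hε hv)) (cy _ εE hu)
    have eg : v⁻¹ * u * ⁅x, y0⁆ * (v⁻¹ * u)⁻¹ = ε * (z'⁻¹ * z) := by
      calc _ = v⁻¹ * (u * ⁅x, y0⁆ * u⁻¹) * v := by group
        _ = v⁻¹ * (ζ' * z') * ((z'⁻¹ * z) * v) := by rw [eu]; group
        _ = _ := by rw [← ev, ← cen_comm (mul_mem (inv_mem hz') hz) v]; group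
    generalize v⁻¹ * u = g at hg eg
    have gn : g ∈ normalizer (Bk D ζ₁ : Set G) := cj_eq_iff.1 (by
      conv_lhs => rw [← blk3 h g1 εE ε1]
      rw [cj_LL h.inv, cj_Ce, eg, Ce_mul (mul_mem (inv_mem hz') hz)]
      exact blk3 h g1 hε e1)
    have gx : g * x * g⁻¹ ∈ RR D (Ce ζ₁) := (mem_normalizer_iff.1 (norm_RR _ gn) x).1 hx
    have k := two _ (nR _ gx) _ y0R (nE _ gx) y0t
    rw [conjugate_commutatorElement, mem_Ce.1 hg, mul_inv_cancel_right] at eg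
    rw [h.t1 _ s1 t n1 _ gx _ y0R y0t, eg, phi_mul t ε (by
      rw [phi_cen t (mul_mem (inv_mem hz') hz)]; exact one_mem _),
      phi_cen t (mul_mem (inv_mem hz') hz), mul_one] at k
    exact k
  have ph : ∀ ε ∈ Ez D ζ₁, ε ∉ center G → ⁅t, ε⁆ = ⁅t, ζ'⁆ := fun ε hε e1 => by
    obtain ⟨v, hv, z, hz, ev⟩ := od' _ hε e1
    have hv' : v ∈ Cs t := (closure_le (Cs t)).2 (by
      rintro _ (rfl | rfl)
      exacts [EC _ hε, zc]) hv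
    rw [← phi_conj hv' (EC _ hε), ev, phi_mul t ζ' (by rw [phi_cen t hz]; exact one_mem _),
      phi_cen t hz, mul_one]
  obtain ⟨e', he', b1, b2⟩ := big
  have k := ph _ (mul_mem (memE g1) he') b2
  rw [phi_mul t _ (EC _ he'), ph _ he' b1, ph _ (memE g1) g1.1, mul_eq_left] at k
  exact z0 ((ph _ εE ε1).trans k)

end Cfsg.Agent.H8.ZCL
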