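import Cfsg.Agent.H68.SpDefs2
import Cfsg.Agent.H29.SpKit
import Cfsg.Agent.H73.Descent

/-!
# Classes of involutions of `Aut Sp₂ₖ(2ⁿ)` for the wreath case
-/

set_option autoImplicit false

namespace Cfsg.Agent.H8.SpWci

open Cfsg Cfsg.Agent.H63 Cfsg.Agent.H63.SL Cfsg.Agent.H26 Cfsg.Agent.H68.Sp Cfsg.Agent.H29.SpK
open Cfsg.Agent.H78 hiding tv
open Cfsg.Agent.H63.WR (ClsI FixC cc)
open Cfsg.Agent.H34.TW (TGI)
open Subgroup Module
open scoped Pointwise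

universe u v

section Gen

variable {G : Type u} [Group G] {L : Subgroup G}

theorem conj_cent {g c : G} (hg : g ∈ N[L]) (hc : c ∈ C[L]) : g * c * g⁻¹ ∈ C[L] := by
  refine mem_centralizer_iff.2 fun y hy => ?_
  have h1 : g⁻¹ * y * g ∈ L := by
    have := (mem_normalizer_iff.1 (inv_mem hg) y).1 hy
    rwa [inv_inv] at this
  have h2 := mem_centralizer_iff.1 hc _ h1
  calc y * (g * c * g⁻¹) = g * (g⁻¹ * y * g * c) * g⁻¹ := by group
    _ = _ := by rw [h2]; group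

theorem split {y : G} (hy : y ∈ L ⊔ C[L]) : ∃ a ∈ L, ∃ c ∈ C[L], y = a * c := by
  let H : Subgroup G :=
    { carrier := {y | ∃ a ∈ L, ∃ c ∈ C[L], y = a * c}
      one_mem' := ⟨1, one_mem _, 1, one_mem _, (one_mul 1).symm⟩
      mul_mem' := by
        rintro _ _ ⟨a, ha, c, hc, rfl⟩ ⟨b, hb, d, hd, rfl⟩
        refine ⟨a * b, mul_mem ha hb, c * d, mul_mem hc hd, ?_⟩
        rw [mul_assoc, ← mul_assoc c, ← mem_centralizer_iff.1 hc b hb]
        group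
      inv_mem' := by
        rintro _ ⟨a, ha, c, hc, rfl⟩
        refine ⟨a⁻¹, inv_mem ha, c⁻¹, inv_mem hc, ?_⟩
        rw [mem_centralizer_iff.1 hc a ha, mul_inv_rev] }
  have : L ⊔ C[L] ≤ H := sup_le (fun a ha => ⟨a, ha, 1, one_mem _, (mul_one a).symm⟩)
    fun c hc => ⟨1, one_mem _, c, hc, (one_mul c).symm⟩
  exact this hy

theorem exists_two [Finite G] {r : G} (h2 : r * r ∈ C[L]) :
    ∃ c ∈ C[L], IsPGroup 2 (zpowers (r * c)) ∧ r * c * (r * c) ∈ C[L] := by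
  obtain ⟨n, m, hm, e⟩ := Nat.exists_eq_two_pow_mul_odd (orderOf_pos r).ne'
  obtain ⟨i, rfl⟩ := hm
  have e1 : r * (r * r) ^ i = r ^ (2 * i + 1) := by rw [← sq, ← pow_mul, pow_succ']
  refine ⟨(r * r) ^ i, pow_mem h2 i, ?_, ?_⟩
  · rw [e1]
    rintro ⟨_, z, rfl⟩
    refine ⟨n, Subtype.ext ?_⟩
    change ((r ^ (2 * i + 1)) ^ z) ^ 2 ^ n = 1
    rw [← zpow_natCast, ← zpow_mul, mul_comm z, zpow_mul, zpow_natCast, ← pow_mul, mul_comm _ (2 ^ n),
      ← e, pow_orderOf_eq_one, one_zpow]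
  · rw [e1, ← sq, ← pow_mul, mul_comm _ 2, pow_mul, sq]
    exact pow_mem h2 _

theorem pg_of_is2 {a : G} (ha : Is2 a) : IsPGroup 2 (zpowers a) := by
  obtain ⟨n, hn⟩ := ha
  rintro ⟨_, z, rfl⟩
  refine ⟨n, Subtype.ext ?_⟩
  change (a ^ z) ^ 2 ^ n = 1
  rw [← zpow_natCast, ← zpow_mul, mul_comm z, zpow_mul, zpow_natCast, hn, one_zpow]

end Gen

variable {F V : Type v} [Field F] [AddCommGroup V] [Module F V] {G : Type u} [Group G]
  {P : PForm F V} {φ : P.E →* G} {L : Subgroup G} {k : ℕ}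

theorem cap (h : SG P φ L k) (nf : NF P φ L) {x : G} (h1 : x ∈ L) (h2 : x ∈ C[L]) : x = 1 := by
  obtain ⟨e, rfl⟩ := exists_φ h h1
  refine (φ_eq_one h).2 fun v => ?_
  by_cases hv : v = 0
  · rw [hv, map_zero]
  · exact nf.ct e v 1 hv one_ne_zero (mem_centralizer_iff.1 h2 _ (ET_mem h _ _ _)).symm

/-- Every coset of `L` in `N(L)` has an element fixing a given normalized frame. -/
theorem exists_fix (h : SM P φ L k) (g1 : G1 P k) {g : G} (hg : g ∈ N[L]) {Fr : Frame P k}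
    (hN : Fr.Norm) : ∃ l ∈ L, ∃ T ψ, Ind P φ (l * g) T ψ ∧ ∀ a, T (Fr.e a) = Fr.e a := by
  obtain ⟨T, ψ, hI⟩ := h.aut g hg
  let Fr' : Frame P k := ⟨fun a => T (Fr.e a), fun a => sing h.toSG _,
    fun a b hab => by rw [hI.form, Fr.orth a b hab, map_zero],
    fun a => by rw [hI.form]; exact (map_ne_zero ψ).2 (Fr.pair a)⟩
  obtain ⟨e0, he⟩ := g1.frt Fr' Fr (fun i => by
    change P.f (T _) (T _) = 1
    rw [hI.form, hN i, map_one]) hN
  refine ⟨φ e0, φ_mem h.toSG e0, T.trans e0.1.toAddEquiv, ψ, ⟨⟨fun c x => ?_, fun x y => ?_,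
    fun x => by rw [h.lam]; trivial, hI.lam, hI.cs⟩, fun e => ?_⟩, he⟩
  · change e0.1 (T (c • x)) = ψ c • e0.1 (T x)
    rw [hI.smul, map_smul]
  · change P.f (e0.1 (T x)) (e0.1 (T y)) = _
    rw [ef, hI.form]
  · obtain ⟨e', a1, a2⟩ := hI.conj e
    refine ⟨e0 * e' * e0⁻¹, fun x => ?_, ?_⟩
    · change (e0 * e' * e0⁻¹).1 (e0.1 (T x)) = e0.1 (T (e.1 x))
      rw [emul, emul, einv_apply, a1]
    · rw [map_mul, map_mul, map_inv, ← a2]
      group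

theorem comm_out [Finite F] (nf : NF P φ L) {g r : G} (hg : g ∈ N[L]) (hr : r ∈ N[L]) :
    g * r * g⁻¹ * r⁻¹ ∈ L ⊔ C[L] := by
  obtain ⟨χ, -, hk⟩ := nf.out
  have : IsCyclic (F ≃+* F) := H73.isCyclic_ringAut (F := F)
  refine (hk (⟨g, hg⟩ * ⟨r, hr⟩ * ⟨g, hg⟩⁻¹ * ⟨r, hr⟩⁻¹)).1 ?_
  rw [map_mul, map_mul, map_mul, map_inv, map_inv,
    IsCyclic.commGroup.mul_comm (χ ⟨g, hg⟩) (χ ⟨r, hr⟩)]
  group

theorem clsI [Finite F] (h : LL P φ L k) : ClsI L := by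
  intro Q hQ _ r hr h2 g hg
  have s := h.toSG
  by_cases hi : r ∈ L ⊔ C[L]
  · obtain ⟨j, hj, c, hc, rfl⟩ := split hi
    have cj := mem_centralizer_iff.1 hc j hj
    have j2 : j * j = 1 := cap s h.nf (mul_mem hj hj) (by
      have e : j * j = j * c * (j * c) * (c * c)⁻¹ := by
        rw [mul_assoc j c, ← mul_assoc c, ← cj]
        group
      rw [e]
      exact mul_mem h2 (inv_mem (mul_mem hc hc)))
    obtain ⟨Fr, hN, hm⟩ := h.g3.cl2 j hj j2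
    obtain ⟨l, hl, T, ψ, hI, hF⟩ := exists_fix h.toSM h.g1 (hQ hg) hN
    have h3 : j ∈ C1[l * g] := by
      refine (closure_le _).2 ?_ hm
      rintro _ ⟨i, i', rfl | rfl⟩
      · refine mem_centralizer_singleton_iff.2 (mul_inv_eq_iff_eq_mul.1 ?_).symm
        rw [ind_tv s hI, hF, map_one]
      · refine mem_centralizer_singleton_iff.2 (mul_inv_eq_iff_eq_mul.1 ?_).symm
        rw [ind_Es s hI, hF, hF]
    have h4 := mem_centralizer_singleton_iff.1 h3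
    have h5 := mul_mem (conj_cent (mul_mem (le_normalizer hl) (hQ hg)) hc) (inv_mem hc)
    refine ⟨l, hl, ?_⟩
    have e : l * g * (j * c) * (l * g)⁻¹ * (j * c)⁻¹ =
        j * (l * g * c * (l * g)⁻¹ * c⁻¹) * j⁻¹ := by
      rw [← mul_assoc (l * g), ← h4]
      group
    rw [e]
    exact conj_cent (le_normalizer hj) h5
  · obtain ⟨l, hl, h3⟩ := h.lg.cls r (hQ hr) (g * r * g⁻¹)
      (hQ (mul_mem (mul_mem hg hr) (inv_mem hg))) h2 (by
        have e : g * r * g⁻¹ * (g * r * g⁻¹) = g * (r * r) * g⁻¹ := by group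
        rw [e]
        exact conj_cent (hQ hg) h2) hi (comm_out h.nf (hQ hg) (hQ hr))
    refine ⟨l, hl, ?_⟩
    have e : l * g * r * (l * g)⁻¹ * r⁻¹ = l * (g * r * g⁻¹) * l⁻¹ * r⁻¹ := by group
    rwa [e]

/-- An outer coset of order two contains an involution modulo `C(L)`. -/
theorem exists_sq (h : LL P φ L k) {a : G} (ha : a ∈ N[L]) (h2 : a * a ∈ L ⊔ C[L])
    {Fr : Frame P k} (hN : Fr.Norm) : ∃ l ∈ L, l * a * (l * a) ∈ C[L] := by
  obtain ⟨l, hl, T, ψ, hI, hF⟩ := exists_fix h.toSM h.g1 ha hN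
  obtain ⟨χ, hχ, hk⟩ := h.nf.out
  have e1 : χ ⟨a, ha⟩ = ψ := by
    rw [← hχ (⟨l, le_normalizer hl⟩ * ⟨a, ha⟩) T ψ hI, map_mul,
      (hk ⟨l, le_normalizer hl⟩).2 (mem_sup_left hl), one_mul]
  have e2 : ψ * ψ = 1 := by
    rw [← e1, ← map_mul]
    exact (hk _).2 h2
  have pp : ∀ c, ψ (ψ c) = c := fun c => RingEquiv.congr_fun e2 c
  have TT : ∀ x, T (T x) = x := fun x => by
    have h3 := Fr.sub_sum_mem x
    rw [h.g1.v0, Submodule.mem_bot, sub_eq_zero] at h3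
    rw [h3]
    simp only [map_sum, hI.smul, hF, pp]
  refine ⟨l, hl, mem_centralizer_iff.2 fun y hy => ?_⟩
  obtain ⟨e, rfl⟩ := exists_φ h.toSG hy
  obtain ⟨e', a1, a2⟩ := hI.conj e
  obtain ⟨e'', b1, b2⟩ := hI.conj e'
  have e3 : e'' = e := eext fun x => by
    conv_lhs => rw [← TT x, b1, a1, TT]
  rw [← a2, e3] at b2
  conv_lhs => rw [← b2]
  group

theorem cc_lt [Finite F] [Finite G] (h : LL P φ L k) {r j : G} (hr : r ∈ N[L])
    (h2 : r * r ∈ C[L]) (h3 : r ∉ L ⊔ C[L]) (hj : j ∈ L) (j2 : j * j = 1) : cc L r < cc L j := by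
  have : CharP F 2 := CharTwo.of_one_ne_zero_of_two_eq_zero one_ne_zero h.two
  have := Fintype.ofFinite F
  obtain ⟨n, -, hn⟩ := FiniteField.card F 2
  rw [← Nat.card_eq_fintype_card] at hn
  obtain ⟨R, hR⟩ := exists_isSylowIn 2 (L ⊓ C1[r])
  have c1 := h.lg.le r hr h2 h3 R hR.le hR.isPGroup
  rw [hR.card_eq, hn, ← pow_mul, ← pow_mul, Nat.pow_le_pow_iff_right one_lt_two] at c1
  obtain ⟨Fr, -, hm⟩ := h.g3.inv j hj j2
  obtain ⟨-, a1, a2, a3, -⟩ := h.g2.el (Set.range fun i => Fr.e (i, false)) (by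
    rintro _ ⟨i, rfl⟩ _ ⟨i', rfl⟩
    exact Fr.orth _ _ (by simp [ng]))
  have c2 : AW P φ Fr ≤ L ⊓ C1[j] := fun x hx => ⟨(h.g4.syl Fr).le ((h.g4.AU Fr).1 hx),
    mem_centralizer_singleton_iff.2 (mem_centralizer_iff.1 (a3 hx) j (a2 (a1 hm))).symm⟩
  have c3 := card_dvd_of_le c2
  rw [h.g4.cardA, hn, ← pow_mul, Nat.prime_two.pow_dvd_iff_le_factorization Nat.card_pos.ne'] at c3
  have c4 : 2 * (k * (k + 1) / 2) = k * (k + 1) := Nat.two_mul_div_two_of_even (Nat.even_mul_succ_self k)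
  have c5 : 0 < (n : ℕ) * k := Nat.mul_pos n.pos (by have := h.k3; omega)
  unfold cc
  generalize k * (k + 1) / 2 = m at c3 c4
  nlinarith

theorem tgi [Finite F] [Finite G] (h : LL P φ L k) {Fr : Frame P k} (hN : Fr.Norm) :
    TGI L (UF P φ Fr) := by
  rintro a ⟨ha, haU⟩ a2 h2 h3
  have hU := h.g4.syl Fr
  generalize UF P φ Fr = U at *
  obtain ⟨l, hl, h4⟩ := exists_sq h ha h2 hN
  obtain ⟨c, hc, p1, h5⟩ := exists_two h4
  have lN := le_normalizer hl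
  have cN := centralizer_le_normalizer _ hc
  have rN : l * a * c ∈ N[L] := mul_mem (mul_mem lN ha) cN
  obtain ⟨S, hS, hle⟩ := exists_isSylowIn_ge (p := 2) (H := N[L])
    ((pg_of_is2 a2).to_sup_of_normal_right' hU.isPGroup (zpowers_le.2 haU))
    (sup_le (zpowers_le.2 ha) (hU.le.trans le_normalizer))
  obtain ⟨γ, hγ, h6⟩ := hS.exists_conj_le p1 (zpowers_le.2 rN)
  have h7 : γ * (l * a * c) * γ⁻¹ ∈ S := h6 (conj_mem_conj_smul.2 (mem_zpowers _))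
  have aS : a ∈ S := hle (mem_sup_left (mem_zpowers a))
  have SL : S ⊓ L = U := hU.eq_of_le hS.isPGroup.to_inf_left inf_le_right
    (le_inf (le_sup_right.trans hle) hU.le)
  set s := γ * (l * a * c) * γ⁻¹ with hs
  have yS : s * a⁻¹ ∈ S := mul_mem h7 (inv_mem aS)
  have y1 : s * a⁻¹ ∈ L ⊔ C[L] := by
    have e : s * a⁻¹ = s * (l * a * c)⁻¹ * (l * (a * c * a⁻¹)) := by group
    rw [e]
    exact mul_mem (comm_out h.nf hγ rN) (mul_mem (mem_sup_left hl) (mem_sup_right (conj_cent ha hc)))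
  obtain ⟨l', hl', κ, hκ, e⟩ := split y1
  have ck : Commute l' κ := mem_centralizer_iff.1 hκ l' hl'
  have l2 : Is2 l' := by
    obtain ⟨m, hm⟩ := hS.isPGroup ⟨_, yS⟩
    have hm' : (l' * κ) ^ 2 ^ m = 1 := e ▸ congrArg Subtype.val hm
    rw [ck.mul_pow, mul_eq_one_iff_eq_inv] at hm'
    exact ⟨m, cap h.toSG h.nf (pow_mem hl' _) (hm' ▸ inv_mem (pow_mem hκ _))⟩
  have lU : l' ∈ N[U] := by
    have e1 : l' = s * a⁻¹ * κ⁻¹ := by rw [e, mul_inv_cancel_right]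
    rw [e1]
    refine mul_mem ?_ (inv_mem (centralizer_le_normalizer _ (centralizer_le hU.le hκ)))
    rw [← SL]
    exact inf_normalizer_le_normalizer_inf ⟨le_normalizer yS, hS.le yS⟩
  have mU : l' ∈ U := hU.le_of_le_normalizer' (pg_of_is2 l2) (zpowers_le.2 hl') (zpowers_le.2 lU)
    (mem_zpowers _)
  have q2 : l' * a * (l' * a) ∈ C[L] := by
    have sN : s ∈ N[L] := hS.le h7
    have k1 := conj_cent (inv_mem ha) (inv_mem hκ)
    have e1 : l' * a = s * (a⁻¹ * κ⁻¹ * a⁻¹⁻¹) := by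
      have : l' = s * a⁻¹ * κ⁻¹ := by rw [e, mul_inv_cancel_right]
      rw [this]
      group
    have e2 : s * s = γ * (l * a * c * (l * a * c)) * γ⁻¹ := by rw [hs]; group
    rw [e1]
    generalize a⁻¹ * κ⁻¹ * a⁻¹⁻¹ = d at k1
    have e3 : s * d * (s * d) = s * d * s⁻¹ * (s * s) * d := by group
    rw [e3, e2]
    exact mul_mem (mul_mem (conj_cent sN k1) (conj_cent hγ h5)) k1
  exact ⟨l', mU, q2, fun j hj j2 => cc_lt h (mul_mem (le_normalizer hl') ha) q2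
    (fun hi => h3 ((mul_mem_cancel_left (mem_sup_left hl')).1 hi)) hj j2⟩

/-- **WCI** -/
theorem wci : WCiStmt.{u, v} := by
  intro F V _ _ _ _ _ G _ _ P φ L k _ h
  exact ⟨clsI h, fun Fr hN => tgi h hN⟩

end Cfsg.Agent.H8.SpWci
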