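import Cfsg.Agent.H73.CVKit
import Cfsg.Agent.H40.C6Lift

/-! Project CV, piece LIFT. -/

set_option autoImplicit false

namespace Cfsg.Agent.H8.CvLift

open Matrix Cfsg.Geo Cfsg.Agent.H25 Cfsg.Agent.H73.CV
open Cfsg.Agent.H25.C6 hiding Fld Mod Bc Low Ar Tri StdStmt NrmStmt EsStmt GeoStmt TpStmt TvStmt
  OddStmt ZsStmt H3bStmt H3cStmt H3dStmt H3Stmt A1Stmt K0Stmt SwStmt PrimStmt RealStmt BigStmt
  SmallStmt ClsStmt A2Stmt CopStmt Tv5Stmt LiftStmt KbStmt KoddStmt UqStmt One mem_Aa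
open Cfsg.Agent.H40.C6Lift hiding diag fpf conj_Kk dgr lift
open scoped MatrixGroups commutatorElement

universe u

variable {F : Type u} [Field F] {r n : ℕ} [Fact r.Prime] {ω : Fˣ} {G : Subgroup (GL (ZMod r) F)}

variable [Fintype F] {p : ℕ}

theorem diag (h : Bc n p ω G) {g : GL (ZMod r) F} (hg : g ∈ G) (hT : Commute g (gT r F))
    (hU : Commute g (gU r ω)) {d : Fin n → Fˣ} (hd : Rho g (gD d)) :
    ∃ (d' : ZMod r → Fˣ) (e : Fˣ), gD d' ∈ G ∧ (∀ i, d' (-i) = d' i) ∧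
      (∀ k : Fin n, d' ((k : ℕ) + 1 : ℕ) = d k * e) ∧ (gD d')⁻¹ * g ∈ Aa r F := by
  have hn := nm h.fld.rn
  obtain ⟨d', rfl | rfl⟩ := h.cu g hg hU
  · have h1 := comm_T.1 hT
    refine ⟨d', 1, hg, h1, fun k => ?_, by rw [inv_mul_cancel]; exact one_mem _⟩
    rw [mul_one]
    exact congrFun (gD_inj (rho_uniq hn (rho_gD h1) hd)) k
  · have e : gD d' * gT r F * gT r F = gD d' := by rw [mul_assoc, TT, mul_one]
    have h1 := comm_T.1 (e ▸ hT.mul_left (Commute.refl _))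
    refine ⟨d', -1, e ▸ G.mul_mem hg h.t, h1, fun k => ?_,
      by rw [inv_mul_cancel_left]; exact T_mem⟩
    have h2 := hd.mul (rho_T (r := r) (n := n) (F := F))
    rw [e, scal_eq, ← map_mul] at h2
    exact congrFun (gD_inj (rho_uniq hn (rho_gD h1) h2)) k

theorem fpf (h : Bc n p ω G) : Fpf n ω G := by
  rintro k ⟨hk, hT, c, hc⟩ ha
  have hn := nm h.fld.rn
  rw [scal_eq] at hc
  obtain ⟨d, e, h1, h2, h3, h4⟩ := diag h hk hT
    (commute_U hn h.fld.ord ha hc (by rw [commutatorElement_def, inv_mul_cancel_right])) hc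
  have h5 : ∀ i, i ≠ 0 → d i = c * e := fun i hi => by
    obtain ⟨k, rfl | rfl⟩ := (hn.cov i).resolve_left hi
    · exact h3 k
    · rw [h2]; exact h3 k
  have h6 := h.noH (d 0 * (c * e)⁻¹) (by
    have := G.mul_mem h1 (h.z ⟨(c * e)⁻¹, rfl⟩ : scal _ (c * e)⁻¹ ∈ G)
    rw [scal_eq, ← map_mul] at this
    convert this
    funext i
    by_cases hi : i = 0
    · subst hi; simp
    · rw [Function.update_of_ne hi, Pi.mul_apply, h5 i hi, mul_inv_cancel, Pi.one_apply])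
  have h7 : gD d = scal _ (c * e) := by
    rw [scal_eq]
    congr 1
    funext i
    by_cases hi : i = 0
    · rw [hi]; exact mul_inv_eq_one.1 h6
    · exact h5 i hi
  have := (Aa r F).mul_mem (h7 ▸ scal_memA (c * e) : gD d ∈ Aa r F) h4
  rwa [mul_inv_cancel_left] at this

theorem conj_Kk (h : Bc n p ω G) {k : GL (ZMod r) F} (hk : k ∈ Kk n G) :
    gU r ω * k * (gU r ω)⁻¹ ∈ Kk n G := by
  obtain ⟨hk, hT, c, hc⟩ := hk
  refine ⟨G.mul_mem (G.mul_mem h.u hk) (G.inv_mem h.u), (UT.mul_left hT).mul_left UT.inv_left,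
    c, ?_⟩
  rw [scal_eq] at hc ⊢
  exact rho_conj hc

theorem dgr (h : Bc n p ω G) : DgR r (Hm n G) := by
  rintro d ⟨g, hg, hT, hd⟩ i j
  have hn := nm h.fld.rn
  have hT' : Commute (gU r ω * g * (gU r ω)⁻¹) (gT r F) := (UT.mul_left hT).mul_left UT.inv_left
  have hκ : g⁻¹ * (gU r ω * g * (gU r ω)⁻¹) ∈ Kk n G :=
    ⟨G.mul_mem (G.inv_mem hg) (G.mul_mem (G.mul_mem h.u hg) (G.inv_mem h.u)),
      hT.inv_left.mul_left hT', 1, by
        have := hd.inv.mul (rho_conj (ω := ω) hd)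
        rwa [inv_mul_cancel, ← map_one (scal (Fin n))] at this⟩
  let f : Kk n G ⧸ (Aa r F).subgroupOf (Kk n G) → Kk n G ⧸ (Aa r F).subgroupOf (Kk n G) :=
    fun q => (q.out⁻¹ * ⟨_, conj_Kk h q.out.2⟩ : Kk n G)
  have key : ∀ k l : GL (ZMod r) F, k ∈ Kk n G → l ∈ Kk n G →
      (k⁻¹ * (gU r ω * k * (gU r ω)⁻¹))⁻¹ * (l⁻¹ * (gU r ω * l * (gU r ω)⁻¹)) ∈ Aa r F →
      k⁻¹ * l ∈ Aa r F := by
    intro k l hk hl e
    have h1 : ⁅gU r ω, l * k⁻¹⁆ ∈ Aa r F := by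
      convert conj_mem e (conj_Kk h hl).2.1 using 1
      rw [commutatorElement_def]
      group
    have h2 := fpf h _ ((Kk n G).mul_mem hl ((Kk n G).inv_mem hk)) h1
    convert conj_mem h2 hk.2.1.inv_left using 1
    group
  have hf : Function.Injective f := by
    intro a b hab
    have e := QuotientGroup.eq.1 hab
    rw [Subgroup.mem_subgroupOf] at e
    rw [← a.out_eq', ← b.out_eq', QuotientGroup.eq, Subgroup.mem_subgroupOf]
    exact key _ _ a.out.2 b.out.2 e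
  obtain ⟨q, hq⟩ := Finite.surjective_of_injective hf ((⟨_, hκ⟩ : Kk n G) : _ ⧸ _)
  have e := QuotientGroup.eq.1 hq
  rw [Subgroup.mem_subgroupOf] at e
  obtain ⟨k, ⟨hk, hkT, c, hc⟩, e⟩ : ∃ k ∈ Kk n G,
      (k⁻¹ * (gU r ω * k * (gU r ω)⁻¹))⁻¹ * (g⁻¹ * (gU r ω * g * (gU r ω)⁻¹)) ∈ Aa r F :=
    ⟨_, q.out.2, e⟩
  have h1 := hd.mul hc.inv
  rw [← map_inv, scal_eq, ← map_mul] at h1
  obtain ⟨d', e', h2, -, h3, -⟩ := diag h (G.mul_mem hg (G.inv_mem hk)) (hT.mul_left hkT.inv_left)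
    (commute_U hn h.fld.ord (conj_mem e hT') h1 (by group)) h1
  have h4 := (dg h.toGen h.noH h2 ((i : ℕ) + 1 : ℕ)).trans
    (dg h.toGen h.noH h2 ((j : ℕ) + 1 : ℕ)).symm
  rw [h3, h3, Pi.mul_apply, Pi.mul_apply, mul_assoc, mul_assoc, mul_pow,
    mul_pow (d j)] at h4
  exact mul_right_cancel h4

theorem lift : LiftStmt.{u} := fun _ _ _ _ _ _ _ _ _ h => ⟨fpf h, dgr h⟩

end Cfsg.Agent.H8.CvLift
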