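import Cfsg.Agent.H74.CksDefs
import Cfsg.Agent.H82.Zsigmondy
import Cfsg.Agent.S0280
import Cfsg.Agent.S2151

/-!
# Project CKS: the endgame for `PSU₅`
-/

set_option autoImplicit false

namespace Cfsg.Agent.H8.CksFu5

open Cfsg Cfsg.Agent.H74.Cks

/-- The shape of the degree. -/
theorem shape {G : Type} [Group G] [Finite G] {p b e M : ℕ} [hp : Fact p.Prime] {H : Subgroup G}
    (h2 : Two H) (hd : p ∣ H.index) (hF : FTI p H b) (hN : H.index ≠ pp p G)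
    (hG : Nat.card G ∣ p ^ e * M) (hM : ¬ p ∣ M) :
    ∃ k c, 0 < k ∧ k ≤ b ∧ ¬ p ∣ k ∧ H.index = k * p ^ c ∧ c ≤ e ∧ ¬ (k = 1 ∧ c = e) ∧
      H.index - 1 ∣ M := by
  obtain ⟨-, k, k0, kb, kp, hk⟩ := hF
  obtain ⟨U⟩ : Nonempty (Sylow p G) := inferInstance
  have hU := U.card_eq_multiplicity
  have h1 := Subgroup.card_dvd_of_le (inf_le_left : (U : Subgroup G) ⊓ H ≤ U)
  rw [hU] at h1
  obtain ⟨a, ha, ea⟩ := (Nat.dvd_prime_pow hp.out).1 h1
  have h3 := hk U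
  have h4 : (Nat.card G).factorization p ≤ e := by
    have := (U : Subgroup G).card_subgroup_dvd_card.trans hG
    rw [hU] at this
    exact (Nat.pow_dvd_pow_iff_le_right hp.out.one_lt).1
      ((((Nat.Prime.coprime_iff_not_dvd hp.out).2 hM).pow_left _).dvd_of_dvd_mul_right this)
  have h5 : H.index = k * p ^ ((Nat.card G).factorization p - a) := by
    refine Nat.eq_of_mul_eq_mul_right (pow_pos hp.out.pos a) ?_
    rw [mul_assoc, ← pow_add, Nat.sub_add_cancel ha, ← hU, ← h3, ea]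
  refine ⟨k, _, k0, kb, kp, h5, by omega, fun ⟨e1, e2⟩ => hN ?_, ?_⟩
  · rw [h5, e1, one_mul, pp]
    congr 1
    omega
  · have h6 : (H.index - 1).Coprime p := by
      have h0 : H.index ≠ 0 := Subgroup.FiniteIndex.index_ne_zero
      refine ((Nat.Prime.coprime_iff_not_dvd hp.out).2 fun h => hp.out.one_lt.ne' ?_).symm
      have := Nat.dvd_sub hd h
      rwa [Nat.sub_sub_self (by omega), Nat.dvd_one] at this
    exact (h6.pow_right e).dvd_of_dvd_mul_left ((Dvd.intro_left _ rfl).trans (h2.dvd.trans hG))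

theorem ar1 {r j D : ℤ} (hr : 2 ≤ r)
    (hM : j * D = (r ^ 2 - 1) * (r ^ 3 + 1) * (r ^ 4 - 1) * (r ^ 5 + 1))
    (hj : r ^ 7 ≤ j + (r ^ 6 - r ^ 4 + r ^ 3 - r ^ 2 + 1)) (hD : 3 * r ^ 7 - 2 ≤ 2 * D) :
    False := by
  obtain ⟨s, rfl⟩ : ∃ s, r = s + 2 := ⟨r - 2, by ring⟩
  have hs : 0 ≤ s := by omega
  have h0 : 0 ≤ (s + 2) ^ 7 - ((s + 2) ^ 6 - (s + 2) ^ 4 + (s + 2) ^ 3 - (s + 2) ^ 2 + 1) := by
    ring_nf; positivity
  have h1 : 0 ≤ 3 * (s + 2) ^ 7 - 2 := by ring_nf; positivity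
  have h2 := mul_le_mul (sub_le_iff_le_add.2 hj) hD h1 (h0.trans (sub_le_iff_le_add.2 hj))
  have h3 : 0 < (s + 2) ^ 7 * ((s + 2) ^ 5 * (s + 1) * s + (s + 2) ^ 3 * (s + 1) +
    (3 * s + 7) * (s + 1)) := by positivity
  nlinarith

theorem ar2 {r j w : ℤ} (hr : 2 ≤ r) (hw : r ^ 7 = 2 * w)
    (hM : j * (3 * w - 1) = (r ^ 2 - 1) * (r ^ 3 + 1) * (r ^ 4 - 1) * (r ^ 5 + 1))
    (hj : j ≤ w) : False := by
  obtain ⟨s, rfl⟩ : ∃ s, r = s + 2 := ⟨r - 2, by ring⟩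
  have hs : 0 ≤ s := by omega
  have h0 : 0 < (s + 2) ^ 7 := by positivity
  have h1 := mul_le_mul_of_nonneg_right hj (show 0 ≤ 3 * w - 1 by omega)
  have h2 : 0 < 4 * (((s + 2) ^ 2 - 1) * ((s + 2) ^ 3 + 1) * ((s + 2) ^ 4 - 1) *
      ((s + 2) ^ 5 + 1)) - 3 * ((s + 2) ^ 7) ^ 2 := by ring_nf; positivity
  rw [← hM, hw] at h2
  nlinarith

theorem num {p f k c : ℕ} (hp : p.Prime) (hf : 0 < f) (k0 : 0 < k) (k3 : k ≤ 3) (kp : ¬ p ∣ k)
    (hc : c ≤ f * 10) (hk : ¬ (k = 1 ∧ c = f * 10)) (hN : (p ^ f) ^ 7 < k * p ^ c)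
    (hD : ((k * p ^ c : ℕ) - 1 : ℤ) ∣ ((p ^ f : ℕ) ^ 2 - 1 : ℤ) * ((p ^ f : ℕ) ^ 3 + 1) *
      ((p ^ f : ℕ) ^ 4 - 1) * ((p ^ f : ℕ) ^ 5 + 1)) : False := by
  have hr : 2 ≤ p ^ f := (Nat.one_lt_pow hf.ne' hp.one_lt)
  rw [← pow_mul] at hN
  rcases Nat.eq_or_lt_of_le (Nat.succ_le_of_lt k0) with e | k2
  · obtain rfl : k = 1 := e.symm
    rw [one_mul] at hN hD
    have h7 := (Nat.pow_lt_pow_iff_right hp.one_lt).1 hN
    obtain ⟨l, hl, hz⟩ := H82.zsigmondy p c hp.one_lt (by omega) (by omega) (by omega)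
    have : Fact l.Prime := ⟨hl⟩
    have h1 := (ZMod.intCast_zmod_eq_zero_iff_dvd _ l).2 (dvd_trans
      ((ZMod.intCast_zmod_eq_zero_iff_dvd _ l).1 (by push_cast; rw [hz.pow_eq_one, sub_self])) hD)
    push_cast at h1
    have key : ∀ m, 0 < m → ((p : ZMod l) ^ f) ^ m = 1 → c ∣ f * m := fun m _ h =>
      hz.dvd_of_pow_eq_one _ (by rwa [pow_mul])
    have h10 : ¬ c ∣ f * 10 := by
      rintro ⟨d, hd⟩
      rcases d with _ | _ | d
      · omega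
      · omega
      · nlinarith
    simp only [mul_eq_zero] at h1
    generalize (p : ZMod l) ^ f = x at h1 key
    rcases h1 with ((h | h) | h) | h
    · exact h10 (key 10 (by norm_num)
        (by linear_combination (x ^ 8 + x ^ 6 + x ^ 4 + x ^ 2 + 1) * h))
    · have := Nat.le_of_dvd (by omega) (key 6 (by norm_num)
        (by linear_combination (x ^ 3 - 1) * h))
      omega
    · have := Nat.le_of_dvd (by omega) (key 4 (by norm_num) (by linear_combination h))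
      omega
    · exact h10 (key 10 (by norm_num) (by linear_combination (x ^ 5 - 1) * h))
  · obtain ⟨j, hj⟩ := hD
    have h7 : ((p ^ f : ℕ) : ℤ) ^ 7 = (p ^ (f * 7) : ℕ) := by rw [pow_mul]; push_cast; rfl
    replace hr : (2 : ℤ) ≤ (p ^ f : ℕ) := by exact_mod_cast hr
    generalize ((p ^ f : ℕ) : ℤ) = r at hr h7 hj
    have hE : 0 < r ^ 6 - r ^ 4 + r ^ 3 - r ^ 2 + 1 := by
      obtain ⟨s, hs⟩ : ∃ s, r = s + 2 := ⟨r - 2, by ring⟩
      have : 0 ≤ s := by omega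
      rw [hs]; ring_nf; positivity
    have hM : 0 < (r ^ 2 - 1) * (r ^ 3 + 1) * (r ^ 4 - 1) * (r ^ 5 + 1) := by
      obtain ⟨s, hs⟩ : ∃ s, r = s + 2 := ⟨r - 2, by ring⟩
      have : 0 ≤ s := by omega
      rw [hs]; ring_nf; positivity
    have hw : 0 < p ^ (f * 7) := pow_pos hp.pos _
    have j0 : 0 < j := by
      rw [hj] at hM
      exact (pos_iff_pos_of_mul_pos hM).1 (by omega)
    have hE' : j + (r ^ 6 - r ^ 4 + r ^ 3 - r ^ 2 + 1) =
        j * (k * p ^ c : ℕ) - r ^ 7 * (r ^ 7 - r ^ 5 + r ^ 4 - r ^ 3 + r - 2) := by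
      linear_combination hj
    rcases le_or_gt (f * 7) c with h | h
    · have h1 : r ^ 7 ∣ (k * p ^ c : ℕ) := by
        rw [h7]; exact_mod_cast (pow_dvd_pow p h).mul_left k
      have h2 := Int.le_of_dvd (by omega)
        (hE' ▸ dvd_sub (h1.mul_left j) (dvd_mul_right (r ^ 7) _))
      have h3 : 2 * p ^ (f * 7) ≤ k * p ^ c :=
        Nat.mul_le_mul k2 (Nat.pow_le_pow_right hp.pos h)
      exact ar1 hr ((mul_comm _ _).trans hj.symm) h2 (by rw [h7]; omega)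
    · obtain ⟨d, hd⟩ := Nat.exists_eq_add_of_lt h
      rw [hd, add_assoc, pow_add, mul_comm] at hN
      have h1 := Nat.lt_of_mul_lt_mul_right hN
      have h2 : p ≤ p ^ (d + 1) := Nat.le_self_pow (by omega) p
      have := hp.two_le
      obtain rfl : p = 2 := by omega
      obtain rfl : k = 3 := by omega
      obtain rfl : d = 0 := by
        rcases d with _ | d
        · rfl
        · have : 2 ^ 2 ≤ 2 ^ (d + 1 + 1) := Nat.pow_le_pow_right (by norm_num) (by omega)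
          omega
      have h3 : r ^ 7 = 2 * (2 ^ c : ℕ) := by rw [h7, hd]; push_cast; ring
      have h4 : ((3 * 2 ^ c : ℕ) : ℤ) = 3 * (2 ^ c : ℕ) := by push_cast; rfl
      rw [h4] at hj hE'
      generalize ((2 ^ c : ℕ) : ℤ) = w at hj hE' h3
      obtain ⟨a, ha⟩ : w ∣ j + (r ^ 6 - r ^ 4 + r ^ 3 - r ^ 2 + 1) :=
        ⟨3 * j - 2 * (r ^ 7 - r ^ 5 + r ^ 4 - r ^ 3 + r - 2), by
          rw [hE']; linear_combination (-(r ^ 7 - r ^ 5 + r ^ 4 - r ^ 3 + r - 2)) * h3⟩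
      have w0 : 0 < w := by
        have : 0 < r ^ 7 := by positivity
        omega
      rcases le_or_gt a 1 with k | k
      · exact ar2 hr h3 ((mul_comm _ _).trans hj.symm) (by nlinarith)
      · exact ar1 hr ((mul_comm _ _).trans hj.symm) (by rw [ha, h3]; nlinarith) (by omega)

theorem fu5 : Fu5Stmt := fun F _ _ p hp _ r hF H h2 hd hI hN => by
  obtain ⟨n, -, hn⟩ := FiniteField.card F p
  obtain ⟨f, -, rfl⟩ := (Nat.dvd_prime_pow hp.out).1
    (show r ∣ p ^ (n : ℕ) by rw [← hn, hF]; exact dvd_pow_self r two_ne_zero)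
  have hf : 0 < f := Nat.pos_of_ne_zero fun e => by
    have := Fintype.one_lt_card (α := F)
    rw [hF, e] at this
    simp at this
  have hr : 2 ≤ p ^ f := (Nat.one_lt_pow hf.ne' hp.out.one_lt)
  have hr' : p ∣ p ^ f := dvd_pow_self p hf.ne'
  have hG : Nat.card (PSU 5 F (p ^ f)) ∣ p ^ (f * 10) * (((p ^ f) ^ 2 - 1) * ((p ^ f) ^ 3 + 1) *
      ((p ^ f) ^ 4 - 1) * ((p ^ f) ^ 5 + 1)) := by
    refine Dvd.intro_left (Nat.gcd 5 (p ^ f + 1)) (Nat.eq_of_mul_eq_mul_left (p ^ f).succ_pos ?_)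
    rw [mul_left_comm, S0280.result hF 5 (by norm_num), pow_mul]
    simp [Finset.prod_range_succ, show ¬ Even 3 by decide, show Even 4 by decide]
    ring
  have e2 : 1 ≤ (p ^ f) ^ 2 := Nat.one_le_pow _ _ (by omega)
  have e4 : 1 ≤ (p ^ f) ^ 4 := Nat.one_le_pow _ _ (by omega)
  obtain ⟨k, c, k0, k3, kp, hk, hc, hkc, hD⟩ := shape h2 hd hI hN hG (fun h => by
    have h1 := (ZMod.natCast_eq_zero_iff _ p).2 h
    have h0 := (ZMod.natCast_eq_zero_iff _ p).2 hr'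
    rw [Nat.cast_mul, Nat.cast_mul, Nat.cast_mul, Nat.cast_sub e2, Nat.cast_sub e4] at h1
    generalize p ^ f = r at h0 h1
    push_cast at h1
    simp [h0] at h1)
  have h1 := (S2151.result (p ^ f) hF hr 5 le_rfl (by decide)).1 H h2.max.1
  have h3 : (p ^ f) ^ (5 - 1) - 1 = ((p ^ f) ^ 2 + 1) * ((p ^ f) ^ 2 - 1) := by
    rw [← Nat.sq_sub_sq, ← pow_mul (p ^ f)]
  have e2' : 2 ^ 2 ≤ (p ^ f) ^ 2 := Nat.pow_le_pow_left hr 2
  rw [h3, ← mul_assoc, Nat.mul_div_cancel _ (by omega), hk] at h1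
  refine num hp.out hf k0 k3 kp hc hkc (lt_of_lt_of_le (by nlinarith) h1) ?_
  have h4 := Int.natCast_dvd_natCast.2 hD
  rw [hk, Nat.cast_sub (by nlinarith), Nat.cast_mul, Nat.cast_mul, Nat.cast_mul, Nat.cast_mul,
    Nat.cast_sub e2, Nat.cast_sub e4] at h4
  push_cast at h4 ⊢
  exact h4

end Cfsg.Agent.H8.CksFu5
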