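import Cfsg.Agent.H42.ALDefs2
import Cfsg.Agent.H84.AlB
import Cfsg.Agent.H21.Lay
import Cfsg.Agent.H93.GT
import Cfsg.Agent.H1.Card

/-! Project AL, rank one: types of elements acting on the double of `U`. -/

set_option autoImplicit false
set_option linter.unusedSectionVars false

namespace Cfsg.Agent.H8.AlK

open Cfsg Subgroup Cfsg.Agent.H28 Cfsg.Agent.H42.AL Cfsg.Agent.H84.ALW Cfsg.Agent.H21.Ly
open Cfsg.Agent.H42.AS (om)
open Cfsg.Agent.H72.ASB (f4_add conj_of_eq)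
open Cfsg.Agent.H84.AW (sw)

universe u

variable {G : Type u} [Group G] [Finite G] {D D' D'' : RD G} {t g g' x y : G} {O Y : Subgroup G}
  {f : F4 → G} {c c0 l m l' m' a a' : F4} {fr fr' s s' : Bool}

theorem pw_mul : ∀ (fr : Bool) (a b : F4), pw fr (a * b) = pw fr a * pw fr b := by decide
theorem pw_add : ∀ (fr : Bool) (a b : F4), pw fr (a + b) = pw fr a + pw fr b := by decide
theorem pw_sq : ∀ (fr : Bool) (a : F4), pw fr (a ^ 2) = pw fr a ^ 2 := by decide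
theorem pw_pw : ∀ (fr fr' : Bool) (a : F4), pw fr' (pw fr a) = pw (xor fr fr') a := by decide
theorem pw_ne : ∀ (fr : Bool) (a : F4), a ≠ 0 → pw fr a ≠ 0 := by decide
theorem p_add : ∀ x : F4 × F4, x + x = 0 := by decide
theorem p_eq {x y : F4 × F4} (h : x + y = 0) : x = y := by
  rw [← add_zero x, ← p_add y, ← add_assoc, h, zero_add]

theorem sc_tw (l l' a a' : F4) (fr fr' : Bool) (x : F4 × F4) :
    sc l' (tw fr' a' (sc l (tw fr a x))) = sc (l' * pw fr' l) (tw (xor fr fr') (a' + pw fr' a) x) := by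
  simp only [sc, tw, pw_mul, pw_add, pw_pw, Prod.mk.injEq]
  constructor <;> ring

theorem cj_cj (g g' x : G) : g' * g * x * (g' * g)⁻¹ = g' * (g * x * g⁻¹) * g'⁻¹ := by group

theorem St.mul (h : D.St D' g l m fr) (h' : D'.St D'' g' l' m' fr') :
    D.St D'' (g' * g) (l' * pw fr' l) (m' * pw fr' m) (xor fr fr') where
  l0 := mul_ne_zero h'.l0 (pw_ne _ _ h.l0)
  m0 := mul_ne_zero h'.m0 (pw_ne _ _ h.m0)
  e t := by rw [cj_cj, h.e, h'.e, pw_mul, pw_pw, mul_assoc]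
  b t := by rw [cj_cj, h.b, h'.b, pw_mul, pw_pw, mul_assoc]
  v t := by rw [cj_cj, h.v, h'.v, pw_mul, pw_mul, pw_pw]; congr 1; ring
  e' t := by rw [cj_cj, h.e', h'.e', pw_mul, pw_sq, pw_pw]; congr 3; ring
  b' t := by rw [cj_cj, h.b', h'.b', pw_mul, pw_sq, pw_pw]; congr 3; ring

theorem Ac.swap (h : Ac D D' f c0 g l m fr a) : Ac D.swap D'.swap f c0 g m l fr a :=
  ⟨St_swap h.st, h.ring, h.b, h.e, fun x => mul_comm l m ▸ h.v x⟩

theorem ring_mul : ∀ (c0 a a' : F4) (fr fr' : Bool), a ^ 2 + a = c0 + pw fr c0 →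
    a' ^ 2 + a' = c0 + pw fr' c0 → (a' + pw fr' a) ^ 2 + (a' + pw fr' a) = c0 + pw (xor fr fr') c0 := by
  decide

theorem Ac.mul (h : Ac D D' f c0 g l m fr a) (h' : Ac D' D'' f c0 g' l' m' fr' a')
    (hv : Vv D' f = Vv D f) :
    Ac D D'' f c0 (g' * g) (l' * pw fr' l) (m' * pw fr' m) (xor fr fr') (a' + pw fr' a) where
  st := St.mul h.st h'.st
  ring := ring_mul _ _ _ _ _ h.ring h'.ring
  e x := by rw [cj_cj, h.e, h'.e, sc_tw]
  b x := by rw [cj_cj, h.b, h'.b, sc_tw]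
  v x := by rw [cj_cj, h.v, ← hv, h'.v, sc_tw, pw_mul, mul_mul_mul_comm]

/-- `D` or its graph image -/
def sD (D : RD G) : Bool → RD G
  | false => D
  | true => D.swap

/-- the type of an element acting on the double -/
def Ty (D : RD G) (f : F4 → G) (c0 : F4) (g : G) (s fr : Bool) (a : F4) : Prop :=
  ∃ l m, Ac D (sD D s) f c0 g l m fr a

theorem Ty.mul (h : Ty D f c0 g s fr a) (h' : Ty D f c0 g' s' fr' a') :
    Ty D f c0 (g' * g) (xor s s') (xor fr fr') (a' + pw fr' a) := by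
  obtain ⟨l, m, h⟩ := h
  obtain ⟨l', m', h'⟩ := h'
  cases s
  · exact ⟨_, _, by simpa using Ac.mul h h' rfl⟩
  · cases s'
    · exact ⟨_, _, Ac.mul h (Ac.swap h') rfl⟩
    · exact ⟨_, _, Ac.mul h (Ac.swap h') rfl⟩

theorem E_mem (x : F4 × F4) : Ee D f x ∈ Us D f := subset_closure (Or.inl (Or.inl ⟨x, rfl⟩))
theorem B_mem (x : F4 × F4) : Ee D.swap f x ∈ Us D f := subset_closure (Or.inl (Or.inr ⟨x, rfl⟩))
theorem V_mem (x : F4 × F4) : Vv D f x ∈ Us D f := subset_closure (Or.inr ⟨x, rfl⟩)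

theorem Us_ind {H : Subgroup G} (he : ∀ x, Ee D f x ∈ H) (hb : ∀ x, Ee D.swap f x ∈ H)
    (hv : ∀ x, Vv D f x ∈ H) : Us D f ≤ H :=
  (closure_le H).2 (by
    rintro _ ((⟨t, rfl⟩ | ⟨t, rfl⟩) | ⟨t, rfl⟩)
    exacts [he t, hb t, hv t])

theorem Ty.nrm (h : Ty D f c0 g s fr a) : g ∈ normalizer (Us D f : Set G) := by
  obtain ⟨l, m, h⟩ := h
  refine H21.Ly.nrm fun x hx => Us_ind (H := (Us D f).comap (MulAut.conj g).toMonoidHom) (fun x => ?_)
    (fun x => ?_) (fun x => ?_) hx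
  · change g * _ * g⁻¹ ∈ Us D f
    rw [h.e]; cases s
    exacts [E_mem _, B_mem _]
  · change g * _ * g⁻¹ ∈ Us D f
    rw [h.b]; cases s
    exacts [B_mem _, E_mem _]
  · change g * _ * g⁻¹ ∈ Us D f
    rw [h.v]; exact V_mem _

theorem tw_id : ∀ x, sc 1 (tw false 0 x) = x := by decide

theorem sc_one : ∀ x, sc 1 x = x := by decide

section RQ

variable (hQ : RQ D t O f c0)
include hQ

theorem E0 : Ee D f 0 = 1 := by simpa using hQ.EE 0 0
theorem B0 : Ee D.swap f 0 = 1 := by simpa using hQ.BB 0 0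
theorem V0 : Vv D f 0 = 1 := by simpa using hQ.VV 0 0
theorem E_sq (x : F4 × F4) : Ee D f x * Ee D f x = 1 := by rw [← hQ.EE, p_add, E0 hQ]
theorem B_sq (x : F4 × F4) : Ee D.swap f x * Ee D.swap f x = 1 := by rw [← hQ.BB, p_add, B0 hQ]
theorem V_sq (x : F4 × F4) : Vv D f x * Vv D f x = 1 := by rw [← hQ.VV, p_add, V0 hQ]
theorem E_inv (x : F4 × F4) : (Ee D f x)⁻¹ = Ee D f x := inv_eq_of_mul_eq_one_right (E_sq hQ x)
theorem B_inv (x : F4 × F4) : (Ee D.swap f x)⁻¹ = Ee D.swap f x :=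
  inv_eq_of_mul_eq_one_right (B_sq hQ x)
theorem V_inv (x : F4 × F4) : (Vv D f x)⁻¹ = Vv D f x := inv_eq_of_mul_eq_one_right (V_sq hQ x)

theorem nf_mul (a b x a' b' x' : F4 × F4) :
    Ee D f a * Ee D.swap f b * Vv D f x * (Ee D f a' * Ee D.swap f b' * Vv D f x') =
      Ee D f (a + a') * Ee D.swap f (b + b') * Vv D f (rm c0 a' b + x + x') := by
  rw [hQ.EE, hQ.BB, hQ.VV, hQ.VV]
  simp only [mul_assoc]
  rw [sw (hQ.EV a' x).symm, sw (hQ.BV b' x).symm, ← mul_assoc (Ee D.swap f b), hQ.BE, mul_assoc,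
    mul_assoc, sw (hQ.BV b _).symm, sw (hQ.BV b' _).symm]

theorem nf_inj {a b x a' b' x' : F4 × F4} (e : Ee D f a * Ee D.swap f b * Vv D f x =
    Ee D f a' * Ee D.swap f b' * Vv D f x') : a = a' ∧ b = b' ∧ x = x' := by
  have h1 := nf_mul hQ a b x a' b' (rm c0 a' b' + x')
  rw [e, nf_mul hQ, p_add, p_add, show rm c0 a' b' + x' + (rm c0 a' b' + x') = 0 from p_add _, E0 hQ,
    B0 hQ, V0 hQ, one_mul, one_mul] at h1
  obtain ⟨h2, h3, h4⟩ := hQ.nf _ _ _ h1.symm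
  obtain rfl := p_eq h2
  obtain rfl := p_eq h3
  exact ⟨rfl, rfl, add_left_cancel (p_eq h4)⟩

theorem V_inj : Function.Injective (Vv D f) := fun _ _ e =>
  (nf_inj hQ (a := 0) (b := 0) (a' := 0) (b' := 0) (by rw [e])).2.2

theorem E_inj : Function.Injective (Ee D f) := fun _ _ e =>
  (nf_inj hQ (b := 0) (x := 0) (b' := 0) (x' := 0) (by rw [e])).1

theorem B_inj : Function.Injective (Ee D.swap f) := fun _ _ e =>
  (nf_inj hQ (a := 0) (x := 0) (a' := 0) (x' := 0) (by rw [e])).2.1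

theorem BE' (a b x : F4 × F4) : Ee D.swap f b * Ee D f a * Vv D f x =
    Ee D f a * Ee D.swap f b * Vv D f (rm c0 a b + x) := by
  rw [hQ.BE, hQ.VV, mul_assoc (Ee D f a), ← hQ.BV]; simp only [mul_assoc]

theorem Us_V (hy : y ∈ Us D f) (x : F4 × F4) : y * Vv D f x = Vv D f x * y :=
  mem_centralizer_singleton_iff.1 (Us_ind (H := centralizer {Vv D f x})
    (fun u => mem_centralizer_singleton_iff.2 (hQ.EV u x))
    (fun u => mem_centralizer_singleton_iff.2 (hQ.BV u x))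
    (fun u => mem_centralizer_singleton_iff.2 (by rw [← hQ.VV, ← hQ.VV, add_comm])) hy)

/-- the double of `V` -/
def Vs : Subgroup G where
  carrier := Set.range (Vv D f)
  one_mem' := ⟨0, V0 hQ⟩
  mul_mem' := by
    rintro _ _ ⟨a, rfl⟩ ⟨b, rfl⟩
    exact ⟨a + b, hQ.VV a b⟩
  inv_mem' := by
    rintro _ ⟨a, rfl⟩
    exact ⟨a, (V_inv hQ a).symm⟩

theorem card_Vs : Nat.card (Vs hQ) = 16 :=
  (Nat.card_congr (Equiv.ofInjective _ (V_inj hQ))).symm.trans (by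
    rw [Nat.card_eq_fintype_card]; rfl)

theorem Vs_le : Vs hQ ≤ Us D f := by
  rintro _ ⟨a, rfl⟩
  exact V_mem a

theorem lay1 : Lay ⊥ (Vs hQ) :=
  ⟨bot_le, by
    rintro x hx _ ⟨a, rfl⟩
    exact c_of (Us_V hQ (Vs_le hQ hx) a), by
    rintro _ ⟨a, rfl⟩
    exact V_sq hQ a⟩

theorem lay2 : Lay (Vs hQ) (Us D f) := by
  refine ⟨Vs_le hQ, fun x hx y hy => ?_, fun x hx => ?_⟩
  · obtain ⟨a, b, z, rfl⟩ := hQ.unf x hx
    obtain ⟨a', b', z', rfl⟩ := hQ.unf y hy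
    refine ⟨rm c0 a' b + rm c0 a b', ?_⟩
    rw [eq_mul_inv_iff_mul_eq, eq_mul_inv_iff_mul_eq, mul_assoc, nf_mul hQ, nf_mul hQ,
      ← Us_V hQ (mul_mem (mul_mem (E_mem _) (B_mem _)) (V_mem _)), mul_assoc, ← hQ.VV, add_comm a',
      add_comm b']
    congr 2
    linear_combination p_add (rm c0 a b')
  · obtain ⟨a, b, z, rfl⟩ := hQ.unf x hx
    rw [nf_mul hQ, p_add, p_add, E0 hQ, B0 hQ, one_mul, one_mul]
    exact ⟨_, rfl⟩

omit hQ in
theorem uniq_fin : ∀ (l l' a a' : F4) (fr fr' : Bool), l ≠ 0 →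
    (∀ x, sc l (tw fr a x) = sc l' (tw fr' a' x)) → fr = fr' ∧ a = a' := by
  decide +kernel

omit hQ in
theorem ne_fin : ∀ (l a : F4) (fr : Bool), l ≠ 0 → sc l (tw fr a (1, 0)) ≠ 0 := by decide

theorem EB_ne' {x y z : F4 × F4} (e : Ee D f x * Vv D f z = Ee D.swap f y) : x = 0 :=
  (nf_inj hQ (b := 0) (x := z) (a' := 0) (b' := y) (x' := 0) (by
    rw [B0 hQ, E0 hQ, V0 hQ, mul_one, one_mul, mul_one, e])).1

theorem EB_ne {x y : F4 × F4} (e : Ee D f x = Ee D.swap f y) : x = 0 :=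
  EB_ne' hQ (z := 0) (by rw [V0 hQ, mul_one, e])

theorem Ty.uniq (h : Ty D f c0 g s fr a) (h' : Ty D f c0 g s' fr' a') :
    s = s' ∧ fr = fr' ∧ a = a' := by
  obtain ⟨l, m, h⟩ := h
  obtain ⟨l', m', h'⟩ := h'
  refine ⟨?_, uniq_fin _ _ _ _ _ _ (mul_ne_zero h.st.l0 h.st.m0) fun x =>
    V_inj hQ ((h.v x).symm.trans (h'.v x))⟩
  have e := (h.e (1, 0)).symm.trans (h'.e (1, 0))
  cases s <;> cases s'
  · rfl
  · exact absurd (EB_ne hQ e) (ne_fin _ _ _ h.st.l0)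
  · exact absurd (EB_ne hQ e.symm) (ne_fin _ _ _ h'.st.l0)
  · rfl

/-- an element centralising `Vs` -/
theorem Ty.of_cen (h : Ty D f c0 g s fr a) (e : ∀ x, g * Vv D f x = Vv D f x * g) :
    fr = false ∧ a = 0 := by
  obtain ⟨l, m, h⟩ := h
  exact uniq_fin _ 1 _ _ _ _ (mul_ne_zero h.st.l0 h.st.m0) fun x =>
    V_inj hQ (by rw [← h.v, e, mul_inv_cancel_right, tw_id])

theorem Ty.of_mem (h : Ty D f c0 g s fr a) (hg : g ∈ Us D f) : s = false ∧ fr = false ∧ a = 0 := by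
  refine ⟨?_, h.of_cen hQ (Us_V hQ hg)⟩
  obtain ⟨l, m, h⟩ := h
  cases s
  · rfl
  obtain ⟨z, hz⟩ := (lay2 hQ).comm g hg _ (E_mem (1, 0))
  rw [h.e, eq_mul_inv_iff_mul_eq, ← hQ.EV] at hz
  exact absurd (EB_ne' hQ hz) (by decide)

omit hQ in
theorem free_fin : ∀ (l a : F4) (fr : Bool), (fr = true ∨ a = 1) →
    (∀ x, sc l (tw fr a (sc l (tw fr a x))) = x) → ∀ x, sc l (tw fr a x) = x →
    ∃ d, sc l (tw fr a d) + d = x := by
  decide +kernel

/-- free involutions -/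
theorem Ty.free (h : Ty D f c0 g s fr a) (gg : g * g = 1) (ha : fr = true ∨ a = 1) :
    Inv (Us D f) g := by
  have gi : g⁻¹ = g := inv_eq_of_mul_eq_one_right gg
  have hn := h.nrm
  obtain ⟨l, m, h⟩ := h
  have k : ∀ x : G, g * (g * x * g⁻¹) * g⁻¹ = x := fun x => by rw [← cj_cj, gg]; simp
  have I1 : Inv (Vs hQ) g := by
    refine (lay1 hQ).step inv_bot gg ?_ ?_
    · rintro _ ⟨x, rfl⟩
      exact ⟨_, by rw [← h.v, gi]⟩
    · rintro H - hH _ ⟨x, rfl⟩ e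
      obtain ⟨d, rfl⟩ := free_fin _ _ _ ha (fun x => V_inj hQ (by rw [← h.v, ← h.v, k])) x
        (V_inj hQ (by rw [← h.v, ← e, mul_inv_cancel_right]))
      have := hH _ ⟨d, rfl⟩
      rw [V_inv hQ] at this
      rwa [hQ.VV, ← h.v, gi]
  refine (lay2 hQ).step I1 gg (fun y hy => by simpa only [gi] using cjm hn hy) fun H h1 hH r hr e => ?_
  obtain ⟨x, y, z, rfl⟩ := hQ.unf r hr
  have e1 := conj_of_eq e.symm
  rw [← conj_mul, ← conj_mul, h.e, h.b, h.v] at e1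
  have hE := fun d => hH _ (E_mem (D := D) (f := f) d)
  have hB := fun d => hH _ (B_mem (D := D) (f := f) d)
  simp only [E_inv hQ, B_inv hQ] at hE hB
  refine mul_mem ?_ (h1 ⟨z, rfl⟩)
  cases s
  · obtain ⟨e2, e3, -⟩ := nf_inj hQ e1
    obtain ⟨d, rfl⟩ := free_fin _ _ _ ha (fun x => E_inj hQ (by
      exact ((h.e _).symm.trans (congrArg (g * · * g⁻¹) (h.e _).symm)).trans (k _))) x e2
    obtain ⟨d', rfl⟩ := free_fin _ _ _ ha (fun x => B_inj hQ (by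
      exact ((h.b _).symm.trans (congrArg (g * · * g⁻¹) (h.b _).symm)).trans (k _))) y e3
    refine mul_mem ?_ ?_
    · rw [hQ.EE]
      exact (show g * Ee D f d * g = _ from gi ▸ h.e d) ▸ hE d
    · rw [hQ.BB]
      exact (show g * Ee D.swap f d' * g = _ from gi ▸ h.b d') ▸ hB d'
  · obtain ⟨-, rfl, -⟩ := nf_inj hQ ((BE' hQ _ _ _).symm.trans e1)
    have := hE x
    rw [show g * Ee D f x * g = _ from gi ▸ h.e x] at this
    have h3 := mul_mem this (h1 ⟨rm c0 x (sc l (tw fr a x)), rfl⟩)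
    rwa [show Ee (sD D true) f = Ee D.swap f from rfl, BE' hQ, p_add, V0 hQ, mul_one] at h3

end RQ

section Full

variable (hF : D.Fa) (hP : RP D t O) (hA : RA D t O f c) (hQ : RQ D t O f c0)
include hF hP hA hQ

omit hA in
theorem ty_t : Ty D f c0 t false false 1 := by
  have k : ∀ a ∈ D.A, t * a * t⁻¹ = a := fun a ha => conj_of_eq (K_comm hP.tK ha).symm
  refine ⟨1, 1, ⟨one_ne_zero, one_ne_zero, fun x => ?_, fun x => ?_, fun x => ?_, fun x => ?_,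
    fun x => ?_⟩, by simp [pw, f4_add], fun x => ?_, fun x => ?_, fun x => ?_⟩
  · rw [k _ (xe_A x)]; simp [pw, sD]
  · rw [k _ (xb_A x)]; simp [pw, sD]
  · rw [k _ (xv_A hF.rel x)]; simp [pw, sD]
  · rw [k _ (mul_mem (mul_mem ne_A (xe_A x)) ne_A)]; simp [pw, sD]
  · rw [k _ (mul_mem (mul_mem nb_A (xb_A x)) nb_A)]; simp [pw, sD]
  · rw [sc_one]; exact conj_of_eq (hQ.tE x)
  · rw [sc_one]; exact conj_of_eq (hQ.tB x)
  · rw [mul_one, sc_one]; exact conj_of_eq (hQ.tV x)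

theorem cent_t : Us D f ⊓ centralizer {t} = D.U := by
  have e1 : ∀ x, Ee D f (x, 0) = D.xe x := fun x => by simp [Ee, sE, hA.f0, hF.rel.nb2]
  have e2 : ∀ x, Ee D.swap f (x, 0) = D.xb x := fun x => by
    simp [Ee, sE, hA.f0, RD.swap, hF.rel.ne2]
  have e3 : ∀ x, Vv D f (x, 0) = D.xv x := fun x => by simp [Vv, hA.f0]
  refine le_antisymm (fun y hy => ?_) (le_inf (U_ind (fun x => e1 x ▸ E_mem _) (fun x => e2 x ▸ B_mem _)
    fun x => e3 x ▸ V_mem _) fun y hy => mem_centralizer_singleton_iff.2 (K_comm hP.tK (U_A hF.rel hy)))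
  obtain ⟨x, y, z, rfl⟩ := hQ.unf y hy.1
  have e := conj_of_eq (mem_centralizer_singleton_iff.1 hy.2).symm
  rw [← conj_mul, ← conj_mul, conj_of_eq (hQ.tE x), conj_of_eq (hQ.tB y), conj_of_eq (hQ.tV z)] at e
  have k : ∀ x : F4 × F4, tw false 1 x = x → x = (x.1, 0) := by decide
  obtain ⟨h1, h2, h3⟩ := nf_inj hQ e
  rw [k x h1, k y h2, k z h3, e1, e2, e3]
  exact mul_mem (mul_mem (xe_U _) (xb_U _)) (xv_U _)

/-- the class of `t` under `Us` has `64` elements -/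
theorem ncard_t : {y : G | ∃ h ∈ Us D f, y = h * t * h⁻¹}.ncard = 64 := by
  have := H93.GT.ncard_cls (Us D f) t
  rw [cent_t hF hP hA hQ, hF.par.cardU, hQ.card] at this
  omega

end Full

section RY

variable (hQ : RQ D t O f c0) (hS : RS D t f c0) (hY : RY D t Y)
include hS hY

theorem ex_ty (hg : g ∈ Y) : ∃ s fr a, Ty D f c0 g s fr a := by
  obtain ⟨l, m, fr, h | h⟩ := hY.st g hg
  · obtain ⟨a, k⟩ := hS.act D (Or.inl rfl) g l m fr (hY.ct g hg) h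
    exact ⟨false, fr, a, l, m, k⟩
  · obtain ⟨a, k⟩ := hS.act _ (Or.inr rfl) g l m fr (hY.ct g hg) h
    exact ⟨true, fr, a, l, m, k⟩

theorem Y_nrm : Y ≤ normalizer (Us D f : Set G) := fun _ hg => by
  obtain ⟨_, _, _, h⟩ := ex_ty hS hY hg
  exact h.nrm

omit hS in
theorem triv (hg : g ∈ Y) (h : Ty D f c0 g false false a) : g = 1 ∨ g = t := by
  obtain ⟨l, m, h⟩ := h
  exact hY.triv g hg l m h.st

include hQ in
theorem Y_Us (hg : g ∈ Y) (h : g ∈ Us D f) : g = 1 := by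
  obtain ⟨s, fr, a, k⟩ := ex_ty hS hY hg
  obtain ⟨rfl, rfl, rfl⟩ := k.of_mem hQ h
  refine (triv hY hg k).resolve_right fun e => hS.noU g h ?_
  rw [e]

include hQ in
theorem card_H : Nat.card (Y ⊔ Us D f : Subgroup G) = Nat.card Y * 4096 := by
  have := H1.card_sup_mul_card_inf_of_le_normalizer (Y_nrm hS hY)
  rwa [show Y ⊓ Us D f = ⊥ from eq_bot_iff.2 fun g hg => Y_Us hQ hS hY hg.1 hg.2, card_bot, mul_one,
    hQ.card] at this

omit hY in
include hQ in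
/-- conjugates of `t` centralising `Vs` come in multiples of `256` -/
theorem dvd_cen {X : Set G} (h1 : ∀ h ∈ Us D f, ∀ x ∈ X, h * x * h⁻¹ ∈ X)
    (h2 : ∀ x ∈ X, IsConj t x ∧ ∀ z, x * Vv D f z = Vv D f z * x) : 256 ∣ X.ncard := by
  refine H93.GT.dvd_ncard (Us D f) 256 X h1 fun x hx => ?_
  have : Us D f ⊓ centralizer {x} ≤ Vs hQ := fun y hy => by
    obtain ⟨z, e⟩ := hS.cen x (h2 x hx).1 (h2 x hx).2 y hy.1 (mem_centralizer_singleton_iff.1 hy.2)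
    exact ⟨z, e.symm⟩
  have := card_dvd_of_le this
  rw [card_Vs hQ] at this
  rw [hQ.card]
  exact Nat.mul_dvd_mul_left 256 this

end RY

end Cfsg.Agent.H8.AlK
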