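import Cfsg.Agent.H40.L3K1

/-! Project L33: the end game in case I. -/

set_option autoImplicit false
set_option linter.unusedSectionVars false

namespace Cfsg.Agent.H8.L3E

open Subgroup Cfsg.Agent.H83 Cfsg.Agent.H40 Cfsg.Agent.H40.L3

universe u

/-! ### the model -/

def cw (k : Bool) : N := bif k then .T * .Q else .Q
def ph (k : Bool) (m : N) : N := bif m.c then N.tv (.Ep k) (m * (N.A k)⁻¹) * .A k else N.tv (.Ep k) m
def eqz (x y : N) : Prop := x = y ∨ x = y * .Z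
instance (x y : N) : Decidable (eqz x y) := inferInstanceAs (Decidable (_ ∨ _))
def ps (k j : Bool) (m x : N) : N := bif j then ph k (m * x * m⁻¹) else m * x * m⁻¹
def ch (k j : Bool) (m : N) : N := bif j then ph k (m * ph k m⁻¹) else m * ph k m⁻¹
def sg (k j : Bool) (m : N) : N := bif j then ph k m * m else m * m

theorem key (k j : Bool) : ∀ m : N,
    (eqz (ps k j m (cw k)) (cw k) ∨ eqz (ps k j m (cw k)) (cw k * .W)) ∧
    (eqz (ps k j m .T) .T ∨ eqz (ps k j m .T) (.T * .Ep k)) ∧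
    (eqz (ps k j m (.A k)) (.A k) ∨ eqz (ps k j m (.A k)) (.A k * .W)) ∧
    (eqz (ch k j m) 1 ∨ eqz (ch k j m) (.Ep k)) ∧
    (eqz (sg k j m) 1 → (eqz (ps k j m (cw k)) (cw k) ∨ eqz (ps k j m (.A k)) (.A k)) ∧
      (eqz (ps k j m .T) .T ∨ eqz (ch k j m) 1)) ∧
    (eqz (ps k j m (cw k)) (cw k) → eqz (ps k j m .T) .T → eqz (ps k j m (.A k)) (.A k) →
      eqz (ch k j m) 1 → j = false ∧ m ∈ N.sE k) := by
  cases k <;> cases j <;> decide +kernel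

theorem keyD (k j : Bool) : ∀ d : N, d ∈ N.sE k → ∀ m : N, eqz (ps k j m d) d := by
  cases k <;> cases j <;> decide +kernel

theorem keyT (k : Bool) : ∀ m : N, m ∈ N.sF → m * m = 1 → m * .W = .W * m → m * .Ep k ≠ .Ep k * m →
    eqz m .T ∨ eqz m (N.tv (.Ep k) .T) := by
  cases k <;> decide +kernel

theorem keyE (k : Bool) : ∀ d : N, d ∈ N.sE k → d * d ≠ 1 → eqz d .W ∨ eqz d (.Ep k) := by
  cases k <;> decide +kernel

theorem cosF (k : Bool) : ∀ m : N, m ∈ N.sF →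
    (m * .W = .W * m → m * .Ep k ≠ .Ep k * m → .T⁻¹ * m ∈ N.sE k) ∧
    (m * .W ≠ .W * m → m * .Ep k = .Ep k * m → (cw k)⁻¹ * m ∈ N.sE k) := by
  cases k <;> decide +kernel

theorem cosE (k : Bool) : ∀ m : N, m ∈ N.sE k →
    m * .W = .W * m ∧ m * .Ep k = .Ep k * m ∧ m * .A k * .W ≠ .W * (m * .A k) ∧
      m * .A k * .Ep k = .Ep k * (m * .A k) := by
  cases k <;> decide +kernel

abbrev sZ (k : Bool) : Subgroup N :=
  N.sub (fun m => decide (m ∈ N.sE k ∧ m * m = 1)) (by cases k <;> decide +kernel)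

theorem card_sZ (k : Bool) : Nat.card (sZ k) = 4 := by
  rw [N.card_sub]; cases k <;> decide +kernel
theorem card_sE (k : Bool) : Nat.card (N.sE k) = 8 := by
  rw [N.card_sub]; cases k <;> decide +kernel

theorem keyZ (k : Bool) : ∀ d : N, d ∈ N.sE k → d * d = 1 → d ∈ sZ k := by
  cases k <;> decide +kernel

theorem gens (k : Bool) : cw k ∈ N.sF ∧ cw k * .W ≠ .W * cw k ∧ cw k * .Ep k = .Ep k * cw k ∧
    (.T * .W : N) = .W * .T ∧ .T * N.Ep k ≠ .Ep k * .T ∧ N.A k * .W ≠ .W * .A k ∧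
    N.A k * .Ep k = .Ep k * .A k ∧ N.W ∈ N.sE k ∧ N.Ep k ∈ N.sE k ∧ ¬ eqz (.Ep k) .W ∧
    N.A k ∉ N.sF ∧ (N.W * .W ≠ 1) ∧ (N.Ep k * .Ep k ≠ 1) ∧ N.Ep k * .Z ≠ .Ep k := by
  cases k <;> decide +kernel

theorem sE_le (k : Bool) : ∀ d : N, d ∈ N.sE k → d ∈ N.sF := by
  cases k <;> decide +kernel

theorem memF (k : Bool) : ∀ m : N, (m.c = false → m ∈ N.sF) ∧ (m.c = true → m * (N.A k)⁻¹ ∈ N.sF) := by
  cases k <;> decide +kernel

/-! ### general lemmas -/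

theorem prop1 {a b c d : Prop} (p1 : a ↔ c) (p2 : b ↔ d) (q : (a ∨ c) ∧ (b ∨ d)) :
    a ∧ b ∧ c ∧ d := by tauto

theorem prop2 {u1 u3 v1 v3 w1 w3 : Prop} (x1 : ¬ (u1 ∧ u3)) (x2 : ¬ (v1 ∧ v3)) (r1 : u1 ∨ u3)
    (r2 : v1 ∨ v3) (r3 : w1 ∨ w3) (i1 : ¬ u1 → ¬ v1 → w1) (i3 : ¬ u3 → ¬ v3 → w3)
    (l1 : (u1 → v1 → w1) ∧ (u1 → w1 → v1) ∧ (v1 → w1 → u1))
    (l3 : (u3 → v3 → w3) ∧ (u3 → w3 → v3) ∧ (v3 → w3 → u3)) : w1 ∧ w3 := by
  rcases r1 with a | a <;> rcases r2 with b | b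
  · exact ⟨l1.1 a b, i3 (fun c => x1 ⟨a, c⟩) fun c => x2 ⟨b, c⟩⟩
  · rcases r3 with c | c
    · exact (x2 ⟨l1.2.1 a c, b⟩).elim
    · exact (x1 ⟨a, l3.2.2 b c⟩).elim
  · rcases r3 with c | c
    · exact (x1 ⟨l1.2.2 b c, a⟩).elim
    · exact (x2 ⟨b, l3.2.1 a c⟩).elim
  · exact ⟨i1 (fun c => x1 ⟨c, a⟩) fun c => x2 ⟨c, b⟩, l3.1 a b⟩

section gen
variable {G : Type*} [Group G] {z : G} {z2 : z * z = 1}

theorem NZ_mul {u x y : G} (hy : y * z = z * y) (h1 : u ∈ NZ x z z2) (h2 : u ∈ NZ y z z2) :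
    u ∈ NZ (x * y) z z2 := by
  refine ⟨h1.1, ?_⟩
  rw [show u * (x * y) * u⁻¹ = u * x * u⁻¹ * (u * y * u⁻¹) by group]
  rcases h1.2 with a | a <;> rcases h2.2 with b | b <;> rw [a, b]
  · exact Or.inl rfl
  · exact Or.inr (mul_assoc _ _ _).symm
  · exact Or.inr (by rw [mul_assoc, ← hy, mul_assoc])
  · exact Or.inl (by rw [hy, mul_assoc, ← mul_assoc z, z2, one_mul])

theorem NZ_inv {u x : G} (hx : x * z = z * x) (h : u ∈ NZ x z z2) : u ∈ NZ x⁻¹ z z2 := by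
  refine ⟨h.1, ?_⟩
  rw [show u * x⁻¹ * u⁻¹ = (u * x * u⁻¹)⁻¹ by group]
  rcases h.2 with a | a <;> rw [a]
  · exact Or.inl rfl
  · exact Or.inr (by rw [hx, mul_inv_rev, inv_eq_of_mul_eq_one_right z2])

theorem NZ_right {u x d : G} (hd : d * z = z * d) (h : u ∈ NZ d z z2) :
    u ∈ NZ (x * d) z z2 ↔ u ∈ NZ x z z2 :=
  ⟨fun a => by
    have := NZ_mul (Commute.inv_left hd).eq a (NZ_inv hd h)
    rwa [mul_inv_cancel_right] at this, fun a => NZ_mul hd a h⟩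

theorem NZ_left {u x d : G} (hd : d * z = z * d) (hx : x * z = z * x) (h : u ∈ NZ d z z2) :
    u ∈ NZ (d * x) z z2 ↔ u ∈ NZ x z z2 :=
  ⟨fun a => by
    have := NZ_mul (Commute.mul_left hd hx).eq (NZ_inv hd h) a
    rwa [inv_mul_cancel_left] at this, fun a => NZ_mul hx h a⟩

theorem NZ_conj {u x e : G} (he : e * z = z * e) (h : u ∈ NZ x z z2) :
    e * u * e⁻¹ ∈ NZ (e * x * e⁻¹) z z2 := by
  refine ⟨(Commute.mul_left (Commute.mul_left he h.1) (Commute.inv_left he)).eq, ?_⟩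
  rw [show e * u * e⁻¹ * (e * x * e⁻¹) * (e * u * e⁻¹)⁻¹ = e * (u * x * u⁻¹) * e⁻¹ by group]
  rcases h.2 with a | a <;> rw [a]
  · exact Or.inl rfl
  · exact Or.inr (by rw [mul_assoc (e * x), (Commute.inv_left he).eq]; group)

theorem z_mem_NZ {x : G} (hx : x * z = z * x) : z ∈ NZ x z z2 :=
  ⟨rfl, Or.inl (by rw [← hx, mul_inv_cancel_right])⟩

theorem NZ_tr {u x e : G} (he : e * z = z * e) (hx : x * z = z * x)
    (h : e * u * e⁻¹ = u ∨ e * u * e⁻¹ = u * z) :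
    u ∈ NZ (e * x * e⁻¹) z z2 ↔ u ∈ NZ x z z2 := by
  have h0 : z ∈ NZ (e * x * e⁻¹) z z2 :=
    z_mem_NZ (Commute.mul_left (Commute.mul_left he hx) (Commute.inv_left he)).eq
  have h1 : e * u * e⁻¹ ∈ NZ (e * x * e⁻¹) z z2 ↔ u ∈ NZ x z z2 :=
    ⟨fun a => by
      have := NZ_conj (Commute.inv_left he).eq a
      simpa [mul_assoc] using this, NZ_conj he⟩
  rw [← h1]
  rcases h with a | a <;> rw [a]
  exact (Subgroup.mul_mem_cancel_right _ h0).symm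

theorem cm_iff {y a b : G} (h : a = b ∨ a = b * z) (hy : y * z = z * y) :
    y * a = a * y ↔ y * b = b * y := by
  rcases h with rfl | rfl
  · rfl
  · rw [← mul_assoc, mul_assoc b, ← hy, ← mul_assoc, mul_left_inj]

theorem cm_conj {e x w : G} :
    e * x * e⁻¹ * (e * w * e⁻¹) = e * w * e⁻¹ * (e * x * e⁻¹) ↔ x * w = w * x := by
  rw [show e * x * e⁻¹ * (e * w * e⁻¹) = e * (x * w) * e⁻¹ by group,
    show e * w * e⁻¹ * (e * x * e⁻¹) = e * (w * x) * e⁻¹ by group, mul_left_inj, mul_right_inj]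

theorem card_le_two' [Finite G] {A K : Subgroup G}
    (h : ∀ x ∈ A, ∀ y ∈ A, x ∉ K → y ∉ K → x⁻¹ * y ∈ K) :
    Nat.card A ≤ 2 * Nat.card (A ⊓ K : Subgroup G) :=
  AA.card_le_two fun x hx y hy a b => by
    have := h _ (inv_mem hx) _ (inv_mem hy) (fun c => a (by simpa using c)) fun c => b (by simpa using c)
    rwa [inv_inv] at this

end gen

/-! ### the configuration -/

variable {G : Type u} [Group G] [Finite G] {ee : Bool} {D : D1 G ee}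

/-- `C(z) ∩ N(⟨x, z⟩)` -/
abbrev Nz (D : D1 G ee) (x : G) : Subgroup G := NZ x (D.ι .Z) D.z2

theorem nz_iff {u : G} {x y : N} (hz : u * D.ι .Z = D.ι .Z * u) (h : ez1 D.ι (u * D.ι x * u⁻¹) y) :
    u ∈ Nz D (D.ι x) ↔ eqz y x :=
  ⟨fun a => D.ez_uniq (ez1.iff_mul.2 a.2) h, fun a => ⟨hz, ez1.iff_mul.1 (h.congr (by
    rcases a with a | a
    · exact Or.inl a.symm
    · exact Or.inr (by rw [a, N.mzz])))⟩⟩

theorem ez_of {x : G} {m n : N} (h : ez1 D.ι x m) (e : eqz m n) : x = D.ι n ∨ x = D.ι n * D.ι .Z :=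
  ez1.iff_mul.1 (h.congr (by
    rcases e with a | a
    · exact Or.inl a.symm
    · exact Or.inr (by rw [a, N.mzz])))

/-- the hypotheses -/
structure Hy (C : Cx1 D) (n f : G) (k : Bool) : Prop where
  nT : n ∈ C.T
  nN : n ∈ normalizer (C.Ts : Set G)
  n2 : n * n ∈ C.Ts
  K : Kind1 D (cj n D.F) f k

/-- the facts on an element of `Y₀` -/
structure Fa (D : D1 G ee) (f : G) (k : Bool) (u : G) : Prop where
  i1 : u ∈ Nz D (D.ι (cw k)) ∨ u * D.ι (cw k) * u⁻¹ = D.ι (cw k * .W) ∨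
    u * D.ι (cw k) * u⁻¹ = D.ι (cw k * .W) * D.ι .Z
  i2 : u ∈ Nz D (D.ι .T) ∨ u * D.ι .T * u⁻¹ = D.ι (.T * .Ep k) ∨
    u * D.ι .T * u⁻¹ = D.ι (.T * .Ep k) * D.ι .Z
  i3 : u ∈ Nz D (D.ι (.A k)) ∨ u * D.ι (.A k) * u⁻¹ = D.ι (.A k * .W) ∨
    u * D.ι (.A k) * u⁻¹ = D.ι (.A k * .W) * D.ι .Z
  i4 : u ∈ Nz D f ∨ u * f * u⁻¹ = D.ι (.Ep k) * f ∨ u * f * u⁻¹ = D.ι (.Ep k) * f * D.ι .Z
  s1 : u * u = 1 ∨ u * u = D.ι .Z → (u ∈ Nz D (D.ι (cw k)) ∨ u ∈ Nz D (D.ι (.A k))) ∧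
    (u ∈ Nz D (D.ι .T) ∨ u ∈ Nz D f)
  s2 : u ∈ Nz D (D.ι (cw k)) → u ∈ Nz D (D.ι .T) → u ∈ Nz D (D.ι (.A k)) → u ∈ Nz D f →
    u ∈ (N.sE k).map D.ι
  dc : ∀ d ∈ N.sE k, u ∈ Nz D (D.ι d)

namespace Hy
variable {C : Cx1 D} {n f : G} {k : Bool} (h : Hy C n f k)
include h

theorem nz : n * D.ι .Z = D.ι .Z * n := C.cz h.nT
theorem fTs : f ∈ C.Ts := C.F1_le h.nN h.K.fF
theorem fT : f ∈ C.T := C.l2 h.fTs
theorem fz : f * D.ι .Z = D.ι .Z * f := C.cz h.fT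

theorem barf (m : N) : ez1 D.ι (f * D.ι m * f⁻¹) (ph k m) := by
  unfold ph
  cases hc : m.c
  · exact h.K.bar m ((memF k m).1 hc)
  · have := (h.K.bar _ ((memF k m).2 hc)).cmul
      (ez1.iff_mul.2 (D.cjF_cj h.nz h.K.ap h.K.fF))
    rwa [inv_mul_cancel_right] at this

theorem fa (j : Bool) (m : N) : Fa D f k (bp f j * D.ι m) := by
  have hz : bp f j * D.ι m * D.ι .Z = D.ι .Z * (bp f j * D.ι m) := by
    refine (Commute.mul_left ?_ (D.zc m)).eq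
    cases j
    · exact Commute.one_left _
    · exact h.fz
  have act : ∀ x, ez1 D.ι (bp f j * D.ι m * D.ι x * (bp f j * D.ι m)⁻¹) (ps k j m x) := fun x => by
    cases j
    · simpa [bp, ps] using ez1.of_ι (ι := D.ι) m x
    · exact ez1.comp h.fz (h.barf _) (ez1.of_ι m x)
  have af0 : ez1 D.ι (D.ι m * f * (D.ι m)⁻¹ * f⁻¹) (m * ph k m⁻¹) := by
    have := (ez1.rfl' (ι := D.ι) m).mul (h.barf m⁻¹)
    rwa [map_inv, ← mul_assoc, ← mul_assoc] at this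
  have af : ez1 D.ι (bp f j * D.ι m * f * (bp f j * D.ι m)⁻¹ * f⁻¹) (ch k j m) := by
    cases j
    · simpa [bp, ch] using af0
    · have := ez1.conj h.fz af0 (h.barf _)
      rwa [show f * (D.ι m * f * (D.ι m)⁻¹ * f⁻¹) * f⁻¹ = f * D.ι m * f * (f * D.ι m)⁻¹ * f⁻¹ by
        group] at this
  have sq : ez1 D.ι (bp f j * D.ι m * (bp f j * D.ι m)) (sg k j m) := by
    cases j
    · simpa [bp, sg] using (ez1.rfl' (ι := D.ι) m).mul (ez1.rfl' m)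
    · have h1 := (h.barf m).mul (ez1.rfl' m)
      have e : f * D.ι m * (f * D.ι m) = f * D.ι m * f⁻¹ * (f * f * D.ι m) := by group
      change ez1 D.ι (f * D.ι m * (f * D.ι m)) (ph k m * m)
      rcases D.cjF_sq h.nz h.K.fF with a | a <;> rw [e, a]
      · rwa [one_mul]
      · rw [← D.zc, ← mul_assoc]
        exact h1.mulz
  have cf : ∀ {u v : G}, (u * f⁻¹ = v ∨ u * f⁻¹ = v * D.ι .Z) → u = v * f ∨ u = v * f * D.ι .Z :=
    fun {u v} a => by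
      rcases a with a | a
      · exact Or.inl (mul_inv_eq_iff_eq_mul.1 a)
      · exact Or.inr (by rw [mul_inv_eq_iff_eq_mul.1 a, mul_assoc, ← h.fz, mul_assoc])
  have nf : bp f j * D.ι m ∈ Nz D f ↔ eqz (ch k j m) 1 := by
    constructor
    · intro a
      refine D.ez_uniq (ez1.iff_mul.2 ?_) af
      rcases a.2 with b | b <;> rw [b]
      · exact Or.inl (by simp)
      · exact Or.inr (by rw [h.fz]; simp)
    · intro a
      have := cf (ez_of af a)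
      rw [map_one, one_mul] at this
      exact ⟨hz, this⟩
  obtain ⟨k1, k2, k3, k4, k5, k6⟩ := key k j m
  refine ⟨k1.imp (nz_iff hz (act _)).2 (ez_of (act _)), k2.imp (nz_iff hz (act _)).2 (ez_of (act _)),
    k3.imp (nz_iff hz (act _)).2 (ez_of (act _)), k4.imp nf.2 fun a => cf (ez_of af a),
    fun a => ?_, fun a b c d => ?_, fun d hd => (nz_iff hz (act _)).2 (keyD k j d hd m)⟩
  · rw [nz_iff hz (act _), nz_iff hz (act _), nz_iff hz (act _), nf]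
    refine k5 (D.ez_uniq (ez1.iff_mul.2 ?_) sq)
    simpa using a
  · obtain ⟨rfl, hm⟩ := k6 ((nz_iff hz (act _)).1 a) ((nz_iff hz (act _)).1 b)
      ((nz_iff hz (act _)).1 c) (nf.1 d)
    exact ⟨m, hm, by simp [bp]⟩

theorem inter : D.F ⊓ cj n D.F = (N.sE k).map D.ι := by
  ext x
  constructor
  · rintro ⟨⟨m, hm, rfl⟩, h2⟩
    exact ⟨m, (h.K.inter m hm).1 h2, rfl⟩
  · rintro ⟨m, hm, rfl⟩
    exact ⟨⟨m, sE_le k m hm, rfl⟩, (h.K.inter m (sE_le k m hm)).2 hm⟩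

theorem ne : cj n D.F ≠ D.F := fun e =>
  (gens k).2.2.2.2.2.2.2.2.2.2.1 (D.mem_map.1 (e.le h.K.ap))

theorem T3_le : C.Ts ⊔ zpowers n ≤ C.T := sup_le C.l2 (zpowers_le.2 h.nT)

theorem swap {e : G} (he : e ∈ C.Ts ⊔ zpowers n) :
    (e ∈ C.Ts → cj e D.F = D.F ∧ cj e (cj n D.F) = cj n D.F) ∧
    (e ∉ C.Ts → cj e D.F = cj n D.F ∧ cj e (cj n D.F) = D.F) := by
  refine ⟨fun a => ⟨cj_eq_self (C.nF a), cj_eq_self (C.nF1 h.nN a)⟩, fun a => ?_⟩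
  have b := ((AA.mem_ext h.nN h.n2).1 he).resolve_left a
  have e1 : e = e * n⁻¹ * n := by group
  constructor
  · rw [e1, cj_mul, cj_eq_self (C.nF1 h.nN b)]
  · rw [e1, cj_mul, C.swap h.n2, cj_eq_self (C.nF b)]

theorem typ {e : G} (he : e ∈ C.Ts ⊔ zpowers n) :
    (ez1 D.ι (e * D.ι .W * e⁻¹) .W ∧ ez1 D.ι (e * D.ι (.Ep k) * e⁻¹) (.Ep k)) ∨
    (ez1 D.ι (e * D.ι .W * e⁻¹) (.Ep k) ∧ ez1 D.ι (e * D.ι (.Ep k) * e⁻¹) .W) := by
  obtain ⟨-, -, -, -, -, -, -, g1, g2, g3, -, g4, g5, -⟩ := gens k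
  have hz := C.cz (h.T3_le he)
  have hn : e ∈ normalizer ((N.sE k).map D.ι : Set G) := by
    rw [← h.inter, ← cj_eq_self_iff, cj_inf]
    by_cases a : e ∈ C.Ts
    · rw [((h.swap he).1 a).1, ((h.swap he).1 a).2]
    · rw [((h.swap he).2 a).1, ((h.swap he).2 a).2, inf_comm]
  have one : ∀ x ∈ N.sE k, x * x ≠ 1 →
      ez1 D.ι (e * D.ι x * e⁻¹) .W ∨ ez1 D.ι (e * D.ι x * e⁻¹) (.Ep k) := fun x hx x2 => by
    obtain ⟨d, hd, b⟩ := D.exists_im hn hx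
    have b1 : e * D.ι 1 * e⁻¹ = D.ι 1 := by simp
    rw [b, D.ez_iff, D.ez_iff]
    exact keyE k d hd ((D1.cje (D1.cjm b b) b1).not.1 x2)
  have two : ∀ v, ez1 D.ι (e * D.ι .W * e⁻¹) v → ez1 D.ι (e * D.ι (.Ep k) * e⁻¹) v → False :=
    fun v a b => g3 (D.ez_uniq (ez1.cinv hz a) (ez1.cinv hz b))
  rcases one _ g1 g4 with a | a <;> rcases one _ g2 g5 with b | b
  exacts [(two _ a b).elim, Or.inl ⟨a, b⟩, Or.inr ⟨a, b⟩, (two _ a b).elim]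

theorem typ1 {e : G} (he : e ∈ C.Ts ⊔ zpowers n) (hw : e ∈ Nz D (D.ι .W)) :
    ez1 D.ι (e * D.ι .W * e⁻¹) .W ∧ ez1 D.ι (e * D.ι (.Ep k) * e⁻¹) (.Ep k) :=
  (h.typ he).resolve_right fun a =>
    (gens k).2.2.2.2.2.2.2.2.2.1 ((nz_iff (C.cz (h.T3_le he)) a.1).1 hw)

theorem typ2 {e : G} (he : e ∈ C.Ts ⊔ zpowers n) (hw : e ∉ Nz D (D.ι .W)) :
    ez1 D.ι (e * D.ι .W * e⁻¹) (.Ep k) ∧ ez1 D.ι (e * D.ι (.Ep k) * e⁻¹) .W :=
  (h.typ he).resolve_left fun a => hw ((nz_iff (C.cz (h.T3_le he)) a.1).2 (Or.inl rfl))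

omit h in
theorem cmt {e x : G} {a b : N} (he : e ∈ C.T) (hx : x ∈ C.T) (hab : ez1 D.ι (e * D.ι a * e⁻¹) b) :
    e * x * e⁻¹ * D.ι b = D.ι b * (e * x * e⁻¹) ↔ x * D.ι a = D.ι a * x := by
  rw [← cm_iff (ez1.iff_mul.1 hab) (C.cz (mul_mem (mul_mem he hx) (inv_mem he))), cm_conj]

theorem facts {u : G} (hu : u ∈ C.Ts ⊓ Nz D (D.ι .W)) : Fa D f k u := by
  obtain ⟨-, -, -, g1, g2, -⟩ := gens k
  have uT := C.l2 hu.1
  obtain ⟨a, b⟩ := h.typ1 (mem_sup_left hu.1) hu.2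
  obtain ⟨m, hm, c, e⟩ := D.im_t (C.nF hu.1)
  have c1 := (cmt uT (C.ι_T .T) a).2 (D.comm_iff.2 g1)
  have c2 := (cmt uT (C.ι_T .T) b).not.2 (D.comm_iff.not.2 g2)
  rw [e, D.comm_iff] at c1 c2
  rcases keyT k m hm (D.ct_sq c).1 c1 c2 with p | p
  · obtain ⟨m', rfl⟩ := C.mem_T1 uT (e ▸ D.ez_iff.2 p)
    simpa [bp] using h.fa false m'
  · obtain ⟨m', e'⟩ := C.t_eq h.fT uT (h.K.bar .T (by decide +kernel)) (e ▸ D.ez_iff.2 p)
    have := h.fa true m'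
    rwa [e', show bp f true * (f⁻¹ * u) = u by simp [bp]] at this

theorem cF {y u : G} (hy : y ∈ D.F) (hu : u ∈ C.Ts ⊓ Nz D (D.ι .W)) :
    (y * D.ι .W = D.ι .W * y → y * D.ι (.Ep k) ≠ D.ι (.Ep k) * y →
      (u ∈ Nz D y ↔ u ∈ Nz D (D.ι .T))) ∧
    (y * D.ι .W ≠ D.ι .W * y → y * D.ι (.Ep k) = D.ι (.Ep k) * y →
      (u ∈ Nz D y ↔ u ∈ Nz D (D.ι (cw k)))) := by
  obtain ⟨m, hm, rfl⟩ := hy
  obtain ⟨p, q⟩ := cosF k m hm
  simp only [Ne, D.comm_iff]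
  constructor
  · intro a b
    rw [← NZ_right (x := D.ι .T) (D.zc _) ((h.facts hu).dc _ (p a b)), ← map_mul,
      mul_inv_cancel_left]
  · intro a b
    rw [← NZ_right (x := D.ι (cw k)) (D.zc _) ((h.facts hu).dc _ (q a b)), ← map_mul,
      mul_inv_cancel_left]

theorem fe : f * D.ι (.Ep k) ≠ D.ι (.Ep k) * f := fun a => by
  have := h.K.fe
  rw [a, mul_inv_cancel_right, D.inj.eq_iff] at this
  exact (gens k).2.2.2.2.2.2.2.2.2.2.2.2.2 this.symm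

theorem cF1 {y u : G} (hy : y ∈ cj n D.F) (hu : u ∈ C.Ts ⊓ Nz D (D.ι .W)) :
    (y * D.ι .W = D.ι .W * y → y * D.ι (.Ep k) ≠ D.ι (.Ep k) * y →
      (u ∈ Nz D y ↔ u ∈ Nz D f)) ∧
    (y * D.ι .W ≠ D.ι .W * y → y * D.ι (.Ep k) = D.ι (.Ep k) * y →
      (u ∈ Nz D y ↔ u ∈ Nz D (D.ι (.A k)))) := by
  obtain ⟨m, hm, hc⟩ := h.K.cov y hy
  obtain ⟨p1, p2, p3, p4⟩ := cosE k m hm
  rw [← D.comm_iff] at p1 p2 p4
  rw [Ne, ← D.comm_iff] at p3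
  rcases hc with rfl | rfl | rfl | rfl
  · exact ⟨fun _ b => absurd p2 b, fun a _ => absurd p1 a⟩
  · refine ⟨fun a _ => absurd a p3, fun _ _ => ?_⟩
    rw [map_mul]
    exact NZ_left (D.zc _) (D.zc _) ((h.facts hu).dc _ hm)
  · exact ⟨fun _ _ => NZ_left (D.zc _) h.fz ((h.facts hu).dc _ hm),
      fun a _ => absurd (Commute.mul_left p1 h.K.fw).eq a⟩
  · refine ⟨fun a _ => absurd ?_ p3, fun _ b => absurd ?_ h.fe⟩
    · have := Commute.mul_left a (Commute.inv_left h.K.fw)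
      rwa [mul_inv_cancel_right] at this
    · have := Commute.mul_left (Commute.inv_left p4) b
      rwa [inv_mul_cancel_left] at this

theorem idx {u v : G} (hu : u ∈ C.Ts ⊓ Nz D (D.ι .W)) (hv : v ∈ C.Ts ⊓ Nz D (D.ι .W)) :
    (u ∉ Nz D (D.ι (cw k)) → v ∉ Nz D (D.ι (cw k)) → u⁻¹ * v ∈ Nz D (D.ι (cw k))) ∧
    (u ∉ Nz D (D.ι .T) → v ∉ Nz D (D.ι .T) → u⁻¹ * v ∈ Nz D (D.ι .T)) ∧
    (u ∉ Nz D (D.ι (.A k)) → v ∉ Nz D (D.ι (.A k)) → u⁻¹ * v ∈ Nz D (D.ι (.A k))) ∧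
    (u ∉ Nz D f → v ∉ Nz D f → u⁻¹ * v ∈ Nz D f) :=
  have a := h.facts hu
  have b := h.facts hv
  ⟨fun p q => NZ_of D.z2 hu.2.1 hv.2.1 (a.i1.resolve_left p) (b.i1.resolve_left q),
    fun p q => NZ_of D.z2 hu.2.1 hv.2.1 (a.i2.resolve_left p) (b.i2.resolve_left q),
    fun p q => NZ_of D.z2 hu.2.1 hv.2.1 (a.i3.resolve_left p) (b.i3.resolve_left q),
    fun p q => NZ_of D.z2 hu.2.1 hv.2.1 (a.i4.resolve_left p) (b.i4.resolve_left q)⟩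

omit h in
theorem card_E : Nat.card ((N.sE k).map D.ι) = 8 := by rw [D.card_map, card_sE]

/-- a conjugate of `F` in `T₃` lies in `Y₀` -/
theorem le_Y {m : G} (hm : m ∈ C.T) (hle : cj m D.F ≤ C.Ts ⊔ zpowers n) :
    cj m D.F ≤ C.Ts ⊓ Nz D (D.ι .W) := by
  obtain ⟨g0, g1, g2, g3, g4, g5, g6, -⟩ := gens k
  have mz := C.cz hm
  set F2 := cj m D.F with hF2
  set Y := C.Ts ⊓ Nz D (D.ι .W) with hY
  set E := (N.sE k).map D.ι with hE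
  have c32 : Nat.card F2 = 32 := by rw [hF2, card_cj, D.card_F]
  have s1 : ∀ u ∈ F2 ⊓ Y, (u ∈ Nz D (D.ι (cw k)) ∨ u ∈ Nz D (D.ι (.A k))) ∧
      (u ∈ Nz D (D.ι .T) ∨ u ∈ Nz D f) := fun u hu => (h.facts hu.2).s1 (D.cjF_sq mz hu.1)
  have tr : ∀ e ∈ F2, ∀ u ∈ F2 ⊓ Y, ∀ x ∈ C.T, (u ∈ Nz D (e * x * e⁻¹) ↔ u ∈ Nz D x) :=
    fun e he u hu x hx => NZ_tr (C.cz (h.T3_le (hle he))) (C.cz hx) (D.cjF_cj mz hu.1 he)
  have mT : D.ι .T ∈ D.F := D.mem_map.2 (by decide +kernel)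
  have mC : D.ι (cw k) ∈ D.F := D.mem_map.2 g0
  rw [Ne, ← D.comm_iff] at g1 g4 g5
  rw [← D.comm_iff] at g2 g3 g6
  have n0 : ∀ e ∈ F2, e ∉ C.Ts → e ∈ Nz D (D.ι .W) → F2 ⊓ Y ≤ E := fun e he a b u hu => by
    have eT := h.T3_le (hle he)
    obtain ⟨t1, t2⟩ := h.typ1 (hle he) b
    have sw := ((h.swap (hle he)).2 a).1
    have p1 := (tr e he u hu _ (C.ι_T _)).symm.trans ((h.cF1 (sw ▸ conj_mem_cj mC) hu.2).2
      ((cmt eT (C.ι_T _) t1).not.2 g1) ((cmt eT (C.ι_T _) t2).2 g2))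
    have p2 := (tr e he u hu _ (C.ι_T _)).symm.trans ((h.cF1 (sw ▸ conj_mem_cj mT) hu.2).1
      ((cmt eT (C.ι_T _) t1).2 g3) ((cmt eT (C.ι_T _) t2).not.2 g4))
    obtain ⟨q1, q2, q3, q4⟩ := prop1 p1 p2 (s1 u hu)
    exact (h.facts hu.2).s2 q1 q2 q3 q4
  have sw1 : ∀ e ∈ F2, e ∉ Nz D (D.ι .W) → Nat.card (F2 ⊓ Y ⊓ E : Subgroup G) ≤ 4 :=
    fun e he b => by
    obtain ⟨t1, t2⟩ := h.typ2 (hle he) b
    rw [← card_sZ k, ← D.card_map]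
    refine card_le_of_le ?_
    rintro _ ⟨hu, d, hd, rfl⟩
    refine ⟨d, keyZ k d hd ?_, rfl⟩
    by_contra d2
    have ez := C.cz (h.T3_le (hle he))
    have fx : e ∈ Nz D (D.ι d) := ⟨ez, D.cjF_cj mz hu.1 he⟩
    have zz : e ∈ Nz D (D.ι .Z) := ⟨ez, Or.inl (by rw [ez, mul_inv_cancel_right])⟩
    have fv : ∀ v, eqz d v → e ∈ Nz D (D.ι v) := fun v hv => by
      rcases hv with rfl | rfl
      · exact fx
      · rw [map_mul] at fx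
        exact (NZ_right rfl zz).1 fx
    rcases keyE k d hd d2 with p | p
    · exact b (fv _ p)
    · exact (gens k).2.2.2.2.2.2.2.2.2.1 (D.ez_uniq t2 (ez1.iff_mul.2 (fv _ p).2))
  have sw2 : ∀ e ∈ F2, e ∉ Nz D (D.ι .W) →
      Nat.card (F2 ⊓ Y : Subgroup G) ≤ 2 * Nat.card (F2 ⊓ Y ⊓ E : Subgroup G) := fun e he b => by
    have eT := h.T3_le (hle he)
    obtain ⟨t1, t2⟩ := h.typ2 (hle he) b
    have pp : (∀ u ∈ F2 ⊓ Y, (u ∈ Nz D (D.ι (cw k)) ↔ u ∈ Nz D (D.ι .T)) ∧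
        (u ∈ Nz D (D.ι (.A k)) ↔ u ∈ Nz D f)) ∨
        ∀ u ∈ F2 ⊓ Y, (u ∈ Nz D (D.ι (cw k)) ↔ u ∈ Nz D f) ∧
          (u ∈ Nz D (D.ι .T) ↔ u ∈ Nz D (D.ι (.A k))) := by
      by_cases a : e ∈ C.Ts
      · obtain ⟨w1, w2⟩ := (h.swap (hle he)).1 a
        exact Or.inl fun u hu => ⟨(tr e he u hu _ (C.ι_T _)).symm.trans
          ((h.cF (w1 ▸ conj_mem_cj mC) hu.2).1
            ((cmt eT (C.ι_T _) t2).2 g2) ((cmt eT (C.ι_T _) t1).not.2 g1)),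
          (tr e he u hu _ (C.ι_T _)).symm.trans ((h.cF1 (w2 ▸ conj_mem_cj h.K.ap) hu.2).1
            ((cmt eT (C.ι_T _) t2).2 g6) ((cmt eT (C.ι_T _) t1).not.2 g5))⟩
      · have w1 := ((h.swap (hle he)).2 a).1
        exact Or.inr fun u hu => ⟨(tr e he u hu _ (C.ι_T _)).symm.trans
          ((h.cF1 (w1 ▸ conj_mem_cj mC) hu.2).1
            ((cmt eT (C.ι_T _) t2).2 g2) ((cmt eT (C.ι_T _) t1).not.2 g1)),
          (tr e he u hu _ (C.ι_T _)).symm.trans ((h.cF1 (w1 ▸ conj_mem_cj mT) hu.2).2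
            ((cmt eT (C.ι_T _) t2).not.2 g4) ((cmt eT (C.ι_T _) t1).2 g3))⟩
    refine card_le_two' fun u hu v hv a c => ?_
    have huv : u⁻¹ * v ∈ F2 ⊓ Y := mul_mem (inv_mem hu) hv
    have cl : ∀ x : G, (u ∈ Nz D x → v ∈ Nz D x → u⁻¹ * v ∈ Nz D x) ∧
        (u ∈ Nz D x → u⁻¹ * v ∈ Nz D x → v ∈ Nz D x) ∧
        (v ∈ Nz D x → u⁻¹ * v ∈ Nz D x → u ∈ Nz D x) := fun x =>
      ⟨fun p q => mul_mem (inv_mem p) q, fun p q => by simpa using mul_mem p q,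
        fun p q => by simpa using mul_mem p (inv_mem q)⟩
    have full : ∀ x ∈ F2 ⊓ Y, x ∈ Nz D (D.ι (cw k)) ∧ x ∈ Nz D (D.ι (.A k)) → x ∈ E :=
      fun x hx p => by
      rcases pp with pp | pp <;> obtain ⟨y1, y2⟩ := pp x hx
      · exact (h.facts hx.2).s2 p.1 (y1.1 p.1) p.2 (y2.1 p.2)
      · exact (h.facts hx.2).s2 p.1 (y2.2 p.2) p.2 (y1.1 p.1)
    obtain ⟨i1, -, i3, -⟩ := h.idx hu.2 hv.2
    exact full _ huv (prop2 (mt (full u hu) a) (mt (full v hv) c) (s1 u hu).1 (s1 v hv).1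
      (s1 _ huv).1 i1 i3 (cl _) (cl _))
  have ix1 : Nat.card F2 ≤ 2 * Nat.card (F2 ⊓ Nz D (D.ι .W) : Subgroup G) :=
    card_le_two' fun u hu v hv a b => NZ_of D.z2 (C.cz (h.T3_le (hle hu))) (C.cz (h.T3_le (hle hv)))
      (ez1.iff_mul.1 (h.typ2 (hle hu) a).1) (ez1.iff_mul.1 (h.typ2 (hle hv) b).1)
  have ix2 : Nat.card (F2 ⊓ Nz D (D.ι .W) : Subgroup G) ≤ 2 * Nat.card (F2 ⊓ Y : Subgroup G) := by
    rw [hY, inf_comm C.Ts, ← inf_assoc]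
    refine AA.card_le_two fun u hu v hv a b => ?_
    have a' := ((AA.mem_ext h.nN h.n2).1 (hle hu.1)).resolve_left a
    have b' := ((AA.mem_ext h.nN h.n2).1 (hle hv.1)).resolve_left b
    simpa using mul_mem a' (inv_mem b')
  by_contra hn
  by_cases hA : ∃ e ∈ F2, e ∉ C.Ts ∧ e ∈ Nz D (D.ι .W)
  · obtain ⟨e, he, a, b⟩ := hA
    have k1 := n0 e he a b
    by_cases hB : F2 ≤ Nz D (D.ι .W)
    · have k2 := card_le_of_le k1
      rw [inf_of_le_left hB] at ix2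
      rw [hE, card_E] at k2
      omega
    · obtain ⟨e', he', b'⟩ := SetLike.not_le_iff_exists.1 hB
      have k2 := sw1 e' he' b'
      rw [inf_of_le_left k1] at k2
      omega
  · push Not at hA
    have k1 : F2 ⊓ Nz D (D.ι .W) ≤ F2 ⊓ Y := fun u hu =>
      ⟨hu.1, by_contra fun a => hA u hu.1 a hu.2, hu.2⟩
    have hB : ¬ F2 ≤ Nz D (D.ι .W) := fun hB => hn fun u hu => (k1 ⟨hu, hB hu⟩).2
    obtain ⟨e', he', b'⟩ := SetLike.not_le_iff_exists.1 hB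
    have k2 := sw1 e' he' b'
    have k3 := sw2 e' he' b'
    have k4 := card_le_of_le k1
    omega

theorem eq32 {A B : Subgroup G} {x : N} (hx : x = cw k ∨ x = .A k) (cA : Nat.card A = 32)
    (cB : Nat.card B = 32) (hA : A ≤ C.Ts ⊓ Nz D (D.ι .W) ⊓ (Nz D (D.ι x) ⊓ Nz D f))
    (hB : B ≤ C.Ts ⊓ Nz D (D.ι .W) ⊓ (Nz D (D.ι x) ⊓ Nz D f)) : A = B := by
  have hP := sup_le hA hB
  have hY := hP.trans inf_le_left
  have k1 : Nat.card (A ⊔ B : Subgroup G) ≤ 2 * Nat.card ((A ⊔ B) ⊓ Nz D (D.ι .T) : Subgroup G) :=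
    card_le_two' fun u hu v hv => (h.idx (hY hu) (hY hv)).2.1
  have k2 : Nat.card ((A ⊔ B) ⊓ Nz D (D.ι .T) : Subgroup G) ≤ 2 * 8 := by
    rw [← card_E (D := D) (k := k)]
    rcases hx with rfl | rfl
    · refine le_trans (card_le_two' (K := Nz D (D.ι (.A k))) fun u hu v hv =>
        (h.idx (hY hu.1) (hY hv.1)).2.2.1) (Nat.mul_le_mul_left _ (card_le_of_le fun u hu => ?_))
      exact (h.facts (hY hu.1.1)).s2 (hP hu.1.1).2.1 hu.1.2 hu.2 (hP hu.1.1).2.2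
    · refine le_trans (card_le_two' (K := Nz D (D.ι (cw k))) fun u hu v hv =>
        (h.idx (hY hu.1) (hY hv.1)).1) (Nat.mul_le_mul_left _ (card_le_of_le fun u hu => ?_))
      exact (h.facts (hY hu.1.1)).s2 hu.2 hu.1.2 (hP hu.1.1).2.1 (hP hu.1.1).2.2
  exact (eq_of_le_of_card_ge (le_sup_left : A ≤ A ⊔ B) (by omega)).trans
    (eq_of_le_of_card_ge (le_sup_right : B ≤ A ⊔ B) (by omega)).symm

theorem three {m : G} (hm : m ∈ C.T) (hle : cj m D.F ≤ C.Ts ⊔ zpowers n) :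
    cj m D.F = D.F ∨ cj m D.F = cj n D.F ∨
      cj m D.F ≤ C.Ts ⊓ Nz D (D.ι .W) ⊓ (Nz D (D.ι (cw k)) ⊓ Nz D f) := by
  have mz := C.cz hm
  have hY := h.le_Y hm hle
  have alt : ∀ X X' : Subgroup G, (∀ u ∈ cj m D.F, u ∈ X ∨ u ∈ X') →
      cj m D.F ≤ X ∨ cj m D.F ≤ X' := fun X X' a => by
    by_contra hn
    rw [not_or] at hn
    obtain ⟨u, hu, b⟩ := SetLike.not_le_iff_exists.1 hn.1
    obtain ⟨v, hv, c⟩ := SetLike.not_le_iff_exists.1 hn.2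
    rcases a _ (mul_mem hu hv) with d | d
    · exact b ((Subgroup.mul_mem_cancel_right _ ((a v hv).resolve_right c)).1 d)
    · exact c ((Subgroup.mul_mem_cancel_left _ ((a u hu).resolve_left b)).1 d)
  rcases alt _ _ fun u hu => ((h.facts (hY hu)).s1 (D.cjF_sq mz hu)).2 with a | a
  · exact Or.inl (D.uniq mz fun u hu => C.mem_T1 (C.l2 (hY hu).1) (D.mem_NZ'.1 (a hu)).2)
  rcases alt _ _ fun u hu => ((h.facts (hY hu)).s1 (D.cjF_sq mz hu)).1 with b | b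
  · exact Or.inr (Or.inr (le_inf hY (le_inf b a)))
  · refine Or.inr (Or.inl (h.eq32 (Or.inr rfl) (by rw [card_cj, D.card_F])
      (by rw [card_cj, D.card_F]) (le_inf hY (le_inf b a)) fun u hu => ?_))
    have p : ∀ x ∈ cj n D.F, u ∈ Nz D x := fun x hx =>
      ⟨C.cz (C.l2 (C.F1_le h.nN hu)), D.cjF_cj h.nz hx hu⟩
    exact ⟨⟨C.F1_le h.nN hu, p _ ((h.K.inter _ (by decide +kernel)).2 (gens k).2.2.2.2.2.2.2.1)⟩,
      p _ h.K.ap, p _ h.K.fF⟩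

theorem eq_T3 : C.Ts ⊔ zpowers n = C.T := by
  have nT3 : n ∈ C.Ts ⊔ zpowers n := mem_sup_right (mem_zpowers n)
  refine eq_of_norm C.pT h.T3_le fun m hm hN => ?_
  by_contra hn
  have one : ∀ m ∈ C.T, m ∈ normalizer (C.Ts ⊔ zpowers n : Subgroup G) →
      m ∉ C.Ts ⊔ zpowers n → cj m D.F ≤ C.Ts ⊓ Nz D (D.ι .W) ⊓ (Nz D (D.ι (cw k)) ⊓ Nz D f) :=
    fun m hm hN hn => by
    rcases h.three hm (cj_le_of_norm (C.F_le.trans le_sup_left) hN) with a | a | a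
    · exact absurd (mem_sup_left (C.mem_Ts hm (cj_eq_self_iff.1 a))) hn
    · refine absurd ?_ hn
      have : n⁻¹ * m ∈ C.Ts := C.mem_Ts (mul_mem (inv_mem h.nT) hm)
        (cj_eq_self_iff.1 (by rw [cj_mul, a, cj_inv_cj]))
      simpa using mul_mem nT3 (mem_sup_left this)
    · exact a
  have a := one m hm hN hn
  have b := one (m * n) (mul_mem hm h.nT) (mul_mem hN (le_normalizer nT3))
    fun c => hn ((Subgroup.mul_mem_cancel_right _ nT3).1 c)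
  have c := h.eq32 (Or.inl rfl) (by rw [card_cj, D.card_F]) (by rw [card_cj, D.card_F]) b a
  rw [cj_mul] at c
  refine h.ne ?_
  rw [← cj_inv_cj m (cj n D.F), c, cj_inv_cj]

end Hy

theorem e1 : E1S.{u} := by
  intro G _ _ e D C n f k h1 h2 h3 K
  have h : Hy C n f k := ⟨h1, h2, h3, K⟩
  have hn : n ∉ C.Ts := fun a => h.ne (cj_eq_self (C.nF a))
  rw [← h.eq_T3, AA.card_ext h2 h3 hn]
  have := C.card_Ts_le
  omega

end Cfsg.Agent.H8.L3E
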