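import Cfsg.Agent.H17.LPDefs2
import Cfsg.Agent.H27.JmEA

/-! Project LP: control of fusion when `C(z) ≤ N`. -/

set_option autoImplicit false

namespace Cfsg.Agent.H8.LpCn1

open Cfsg Subgroup Matrix Cfsg.Agent.H17.LP

universe u

/-- `e_i ∧ e_j` -/
def E (i j : Fin 5) : M5 := single i j 1 + single j i 1

theorem act_E (g : M5) (i j k l : Fin 5) :
    (E i j + g * E i j * gᵀ) k l = E i j k l + (g k i * g l j + g k j * g l i) := by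
  simp [E, Matrix.mul_add, Matrix.add_mul, mul_apply, single_apply, ite_and, Finset.sum_ite_eq]

def x1 : M5 := !![1,0,0,0,1; 0,1,0,0,0; 0,0,1,0,0; 0,0,0,1,0; 0,0,0,0,1]
def x2 : M5 := !![1,0,0,1,0; 0,1,0,0,1; 0,0,1,0,0; 0,0,0,1,0; 0,0,0,0,1]

theorem eta (g : M5) : ∃ a b c d e f h i j k l m n o p q r s t u v w x y z : F,
    g = !![a,b,c,d,e; f,h,i,j,k; l,m,n,o,p; q,r,s,t,u; v,w,x,y,z] :=
  ⟨g 0 0, g 0 1, g 0 2, g 0 3, g 0 4, g 1 0, g 1 1, g 1 2, g 1 3, g 1 4, g 2 0, g 2 1, g 2 2, g 2 3,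
    g 2 4, g 3 0, g 3 1, g 3 2, g 3 3, g 3 4, g 4 0, g 4 1, g 4 2, g 4 3, g 4 4, by
      ext i j; fin_cases i <;> fin_cases j <;> rfl⟩

theorem altE (i j : Fin 5) : Alt (E i j) := alt_E i j

theorem two (x : F) : x = 0 ∨ x = 1 := by revert x; decide

theorem m1 (g : M5) (hc : g * x1 = x1 * g) (hg : g * g = 1)
    (H : ∀ a : M5, Alt a → x1 * a * x1ᵀ = a → (∀ k l, k ≠ 0 → l ≠ 0 → (a + g * a * gᵀ) k l = 0) →
      a + g * a * gᵀ = 0) : g = 1 ∨ g = x1 := by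
  have H' : ∀ i j, x1 * E i j * x1ᵀ = E i j → (∀ k l, k ≠ 0 → l ≠ 0 →
      E i j k l + (g k i * g l j + g k j * g l i) = 0) →
      ∀ k l, E i j k l + (g k i * g l j + g k j * g l i) = 0 := fun i j h1 h2 k l => by
    rw [← act_E, H _ (altE i j) h1 (fun k l a b => by rw [act_E]; exact h2 k l a b)]; rfl
  clear H
  obtain ⟨a, b, c, d, e, f, h, i, j, k, l, m, n, o, p, q, r, s, t, u, v, w, x, y, z, rfl⟩ := eta g
  simp [x1] at hc
  obtain ⟨⟨-, rfl, rfl, rfl, h1⟩, rfl, rfl, rfl, rfl, -⟩ := hc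
  have ha : a = 1 := by simpa [mul_apply, Fin.sum_univ_succ] using congrFun (congrFun hg 0) 0
  subst ha
  have a1 := H' 0 1 (by decide) (by simp [Fin.forall_fin_succ, E])
  have a2 := H' 0 2 (by decide) (by simp [Fin.forall_fin_succ, E])
  have a3 := H' 0 3 (by decide) (by simp [Fin.forall_fin_succ, E])
  have a4 := H' 0 4 (by decide) (by simp [Fin.forall_fin_succ, E])
  have on : ∀ x : F, 1 + x = 0 ↔ x = 1 := by decide
  simp [Fin.forall_fin_succ, E, two_F, on] at a1 a2 a3 a4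
  obtain ⟨rfl, rfl, rfl⟩ := a1
  obtain ⟨rfl, rfl, rfl⟩ := a2
  obtain ⟨rfl, rfl, rfl⟩ := a3
  obtain ⟨rfl, rfl, rfl, rfl⟩ := a4
  have b1 := H' 1 2 (by decide) (by simp [Fin.forall_fin_succ, E, two_F])
  have b2 := H' 1 3 (by decide) (by simp [Fin.forall_fin_succ, E, two_F])
  simp [Fin.forall_fin_succ, E, two_F] at b1 b2
  obtain ⟨-, rfl, rfl⟩ := b1
  obtain ⟨-, rfl, -⟩ := b2
  rcases two e with rfl | rfl
  · left; decide
  · right; rfl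

theorem m2 (g : M5) (hc : g * x2 = x2 * g) (hg : g * g = 1)
    (H : ∀ a : M5, Alt a → x2 * a * x2ᵀ = a → (∀ k l, 3 ≤ k ∨ 3 ≤ l → (a + g * a * gᵀ) k l = 0) →
      a + g * a * gᵀ = 0) : g = 1 ∨ g = x2 := by
  have H' : ∀ i j, x2 * E i j * x2ᵀ = E i j → (∀ k l, 3 ≤ k ∨ 3 ≤ l →
      E i j k l + (g k i * g l j + g k j * g l i) = 0) →
      ∀ k l, E i j k l + (g k i * g l j + g k j * g l i) = 0 := fun i j h1 h2 k l => by
    rw [← act_E, H _ (altE i j) h1 (fun k l a => by rw [act_E]; exact h2 k l a)]; rfl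
  obtain ⟨a, b, c, d, e, f, h, i, j, k, l, m, n, o, p, q, r, s, t, u, v, w, x, y, z, rfl⟩ := eta g
  simp [x2] at hc
  obtain ⟨⟨rfl, rfl, rfl, h1, h2⟩, ⟨rfl, rfl, rfl, h3, h4⟩, ⟨rfl, rfl⟩, -⟩ := hc
  rw [add_comm, add_right_inj] at h1 h2 h3 h4
  subst h1 h2 h3 h4
  have hn : n = 1 := by simpa [mul_apply, Fin.sum_univ_succ] using congrFun (congrFun hg 2) 2
  subst hn
  clear hg
  have on : ∀ x : F, 1 + x = 0 ↔ x = 1 := by decide
  have a1 := H' 0 2 (by decide) (by simp [Fin.forall_fin_succ, E])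
  have a2 := H' 1 2 (by decide) (by simp [Fin.forall_fin_succ, E])
  obtain rfl : a = 1 := by simpa [E, on] using a1 0 2
  obtain rfl : f = 0 := by simpa [E, on] using a1 1 2
  obtain rfl : i = 0 := by simpa [E, on] using a1 0 1
  obtain rfl : h = 1 := by simpa [E, on] using a2 1 2
  obtain rfl : b = 0 := by simpa [E, on] using a2 0 2
  obtain rfl : c = 0 := by simpa [E, on] using a2 0 1
  have a3 := H' 0 3 (by decide) (by simp [Fin.forall_fin_succ, E, two_F])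
  have a4 := H' 1 4 (by decide) (by simp [Fin.forall_fin_succ, E, two_F])
  obtain rfl : j = 0 := by simpa [E, on] using a3 0 1
  obtain rfl : o = 0 := by simpa [E, on] using a3 0 2
  obtain rfl : e = 0 := by simpa [E, on] using a4 0 1
  obtain rfl : p = 0 := by simpa [E, on] using a4 1 2
  have a5 := H (E 0 4 + E 1 3) (by decide) (by decide)
  clear H H' a1 a2 a3 a4
  have t : ∀ c : M5, c = E 0 1 → ∀ k l : Fin 5, 3 ≤ k ∨ 3 ≤ l → c k l = 0 := by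
    rintro _ rfl
    simp [Fin.forall_fin_succ, E]
  rcases two d with rfl | rfl <;> rcases two k with rfl | rfl
  · left; decide
  · exact absurd (a5 (t _ (by decide))) (by decide)
  · exact absurd (a5 (t _ (by decide))) (by decide)
  · right; rfl

def L1 : List (M5 × M5) := [(!![1,0,0,0,0; 0,0,1,0,0; 0,0,0,1,0; 0,0,0,0,1; 0,1,0,0,0],
    !![1,0,0,0,0; 0,0,0,0,1; 0,1,0,0,0; 0,0,1,0,0; 0,0,0,1,0]),
  (!![1,0,0,0,0; 0,0,1,0,0; 0,0,0,1,0; 0,1,0,0,0; 0,0,0,0,1],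
    !![1,0,0,0,0; 0,0,0,1,0; 0,1,0,0,0; 0,0,1,0,0; 0,0,0,0,1]),
  (!![1,0,0,0,0; 0,0,1,0,0; 0,0,0,1,0; 0,1,0,0,1; 0,1,0,0,0],
    !![1,0,0,0,0; 0,0,0,0,1; 0,1,0,0,0; 0,0,1,0,0; 0,0,0,1,1]),
  (!![1,0,0,0,0; 0,0,1,0,0; 0,1,0,0,0; 0,0,0,1,0; 0,0,0,0,1],
    !![1,0,0,0,0; 0,0,1,0,0; 0,1,0,0,0; 0,0,0,1,0; 0,0,0,0,1]),
  (!![1,0,0,0,0; 0,0,1,0,0; 0,1,0,1,0; 0,0,0,0,1; 0,1,0,0,0],
    !![1,0,0,0,0; 0,0,0,0,1; 0,1,0,0,0; 0,0,1,0,1; 0,0,0,1,0]),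
  (!![1,0,0,0,0; 0,0,1,0,0; 0,1,0,1,0; 0,1,0,0,0; 0,0,0,0,1],
    !![1,0,0,0,0; 0,0,0,1,0; 0,1,0,0,0; 0,0,1,1,0; 0,0,0,0,1]),
  (!![1,0,0,0,0; 0,0,1,0,0; 0,1,0,1,0; 0,1,0,0,1; 0,1,0,0,0],
    !![1,0,0,0,0; 0,0,0,0,1; 0,1,0,0,0; 0,0,1,0,1; 0,0,0,1,1]),
  (!![1,0,0,0,0; 0,1,0,0,0; 0,0,1,0,0; 0,0,0,1,0; 0,0,0,0,1],
    !![1,0,0,0,0; 0,1,0,0,0; 0,0,1,0,0; 0,0,0,1,0; 0,0,0,0,1]),
  (!![1,0,0,0,0; 0,1,1,0,0; 0,0,0,1,0; 0,0,0,0,1; 0,1,0,0,0],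
    !![1,0,0,0,0; 0,0,0,0,1; 0,1,0,0,1; 0,0,1,0,0; 0,0,0,1,0]),
  (!![1,0,0,0,0; 0,1,1,0,0; 0,0,0,1,0; 0,1,0,0,0; 0,0,0,0,1],
    !![1,0,0,0,0; 0,0,0,1,0; 0,1,0,1,0; 0,0,1,0,0; 0,0,0,0,1]),
  (!![1,0,0,0,0; 0,1,1,0,0; 0,0,0,1,0; 0,1,0,0,1; 0,1,0,0,0],
    !![1,0,0,0,0; 0,0,0,0,1; 0,1,0,0,1; 0,0,1,0,0; 0,0,0,1,1]),
  (!![1,0,0,0,0; 0,1,1,0,0; 0,1,0,0,0; 0,0,0,1,0; 0,0,0,0,1],
    !![1,0,0,0,0; 0,0,1,0,0; 0,1,1,0,0; 0,0,0,1,0; 0,0,0,0,1]),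
  (!![1,0,0,0,0; 0,1,1,0,0; 0,1,0,1,0; 0,0,0,0,1; 0,1,0,0,0],
    !![1,0,0,0,0; 0,0,0,0,1; 0,1,0,0,1; 0,0,1,0,1; 0,0,0,1,0]),
  (!![1,0,0,0,0; 0,1,1,0,0; 0,1,0,1,0; 0,1,0,0,0; 0,0,0,0,1],
    !![1,0,0,0,0; 0,0,0,1,0; 0,1,0,1,0; 0,0,1,1,0; 0,0,0,0,1]),
  (!![1,0,0,0,0; 0,1,1,0,0; 0,1,0,1,0; 0,1,0,0,1; 0,1,0,0,0],
    !![1,0,0,0,0; 0,0,0,0,1; 0,1,0,0,1; 0,0,1,0,1; 0,0,0,1,1])]

def L2 : List (M5 × M5) := [(!![0,0,1,0,0; 0,1,0,0,0; 1,0,0,0,0; 0,0,0,1,0; 0,0,0,0,1],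
    !![0,0,1,0,0; 0,1,0,0,0; 1,0,0,0,0; 0,0,0,1,0; 0,0,0,0,1]),
  (!![0,1,0,0,0; 0,0,1,0,0; 1,0,0,0,0; 0,0,0,1,0; 0,0,0,0,1],
    !![0,0,1,0,0; 1,0,0,0,0; 0,1,0,0,0; 0,0,0,1,0; 0,0,0,0,1]),
  (!![0,1,1,0,0; 0,1,0,0,0; 1,0,0,0,0; 0,0,0,1,0; 0,0,0,0,1],
    !![0,0,1,0,0; 0,1,0,0,0; 1,1,0,0,0; 0,0,0,1,0; 0,0,0,0,1]),
  (!![0,1,0,0,0; 1,0,0,0,0; 0,0,1,0,0; 0,0,0,1,0; 0,0,0,0,1],
    !![0,1,0,0,0; 1,0,0,0,0; 0,0,1,0,0; 0,0,0,1,0; 0,0,0,0,1]),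
  (!![0,1,1,0,0; 1,0,0,0,0; 0,1,0,0,0; 0,0,0,1,0; 0,0,0,0,1],
    !![0,1,0,0,0; 0,0,1,0,0; 1,0,1,0,0; 0,0,0,1,0; 0,0,0,0,1]),
  (!![0,1,0,0,0; 1,0,1,0,0; 1,0,0,0,0; 0,0,0,1,0; 0,0,0,0,1],
    !![0,0,1,0,0; 1,0,0,0,0; 0,1,1,0,0; 0,0,0,1,0; 0,0,0,0,1]),
  (!![0,1,1,0,0; 1,0,0,0,0; 1,1,0,0,0; 0,0,0,1,0; 0,0,0,0,1],
    !![0,1,0,0,0; 0,1,1,0,0; 1,1,1,0,0; 0,0,0,1,0; 0,0,0,0,1])]


theorem r1 (a : M5) (ha : Alt a) (h : ∀ k l, k ≠ 0 → l ≠ 0 → a k l = 0) :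
    a = 0 ∨ ∃ p ∈ L1, p.1 * p.2 = 1 ∧ p.1 * E 0 1 * p.1ᵀ = a := by
  have e : a = !![0, a 0 1, a 0 2, a 0 3, a 0 4; a 0 1, 0, 0, 0, 0; a 0 2, 0, 0, 0, 0;
      a 0 3, 0, 0, 0, 0; a 0 4, 0, 0, 0, 0] := by
    ext i j
    fin_cases i <;> fin_cases j <;> first | rfl | exact ha.2 _ | exact ha.symm _ _ | exact h _ _ (by decide) (by decide)
  rw [e]
  generalize a 0 1 = b
  generalize a 0 2 = c
  generalize a 0 3 = d
  generalize a 0 4 = f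
  revert b c d f
  decide +kernel

theorem r2 (a : M5) (ha : Alt a) (h : ∀ k l, 3 ≤ k ∨ 3 ≤ l → a k l = 0) :
    a = 0 ∨ ∃ p ∈ L2, p.1 * p.2 = 1 ∧ p.1 * E 0 1 * p.1ᵀ = a := by
  have e : a = !![0, a 0 1, a 0 2, 0, 0; a 0 1, 0, a 1 2, 0, 0; a 0 2, a 1 2, 0, 0, 0;
      0, 0, 0, 0, 0; 0, 0, 0, 0, 0] := by
    ext i j
    fin_cases i <;> fin_cases j <;> first | rfl | exact ha.2 _ | exact ha.symm _ _ | exact h _ _ (by decide)
  rw [e]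
  generalize a 0 1 = b
  generalize a 0 2 = c
  generalize a 1 2 = d
  revert b c d
  decide +kernel

theorem rk {c : N0} (hg : c.g = 1) {p : M5 × M5} (h1 : p.1 * p.2 = 1) (h2 : p.1 * E 0 1 * p.1ᵀ = c.a) :
    ∃ k : N0, k * zz 1 2 * k⁻¹ = c := by
  have d : p.1.det = 1 := by
    have := congrArg det h1
    rw [det_mul, det_one] at this
    rcases two p.1.det with e | e
    · rw [e, zero_mul] at this
      exact absurd this zero_ne_one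
    · exact e
  refine ⟨lv ⟨p.1, d⟩, ?_⟩
  rw [mul_inv_eq_iff_eq_mul]
  refine N0.ext ?_ ?_
  · change 0 + p.1 * E 0 1 * p.1ᵀ = c.a + c.g.1 * 0 * c.g.1ᵀ
    rw [h2, Matrix.mul_zero, Matrix.zero_mul, zero_add, add_zero]
  · rw [mul_g, mul_g, hg, one_mul]
    exact mul_one _

theorem c1 (a : M5) (ha : Alt a) (h : x1 * a * x1ᵀ = a) (h1 : a 1 2 = 0) (h2 : a 1 3 = 0)
    (h3 : a 2 3 = 0) : ∀ k l, k ≠ 0 → l ≠ 0 → a k l = 0 := by
  have s := ha.symm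
  have e1 : a 4 1 = 0 := by
    simpa [x1, mul_apply, vecMul, dotProduct, Fin.sum_univ_succ] using congrFun (congrFun h 0) 1
  have e2 : a 4 2 = 0 := by
    simpa [x1, mul_apply, vecMul, dotProduct, Fin.sum_univ_succ] using congrFun (congrFun h 0) 2
  have e3 : a 4 3 = 0 := by
    simpa [x1, mul_apply, vecMul, dotProduct, Fin.sum_univ_succ] using congrFun (congrFun h 0) 3
  intro k l hk hl
  fin_cases k <;> fin_cases l <;>
    first | exact absurd rfl hk | exact absurd rfl hl | exact ha.2 _ | assumption |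
      exact (s _ _).trans (by assumption)

theorem c2 (a : M5) (ha : Alt a) (h : x2 * a * x2ᵀ = a) (h1 : a 0 3 = 0) (h2 : a 1 4 = 0)
    (h3 : a 0 4 = 0) : ∀ k l, 3 ≤ k ∨ 3 ≤ l → a k l = 0 := by
  have s := ha.symm
  have e1 : a 3 2 = 0 := by
    simpa [x2, mul_apply, vecMul, dotProduct, Fin.sum_univ_succ] using congrFun (congrFun h 0) 2
  have e2 : a 4 2 = 0 := by
    simpa [x2, mul_apply, vecMul, dotProduct, Fin.sum_univ_succ] using congrFun (congrFun h 1) 2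
  have e3 : a 3 4 = 0 := by
    simpa [x2, mul_apply, vecMul, dotProduct, Fin.sum_univ_succ] using congrFun (congrFun h 0) 4
  have e4 : a 3 1 = 0 := by
    simpa [x2, mul_apply, vecMul, dotProduct, Fin.sum_univ_succ, h3, e3] using congrFun (congrFun h 0) 1
  intro k l hk
  fin_cases k <;> fin_cases l <;>
    first | exact absurd hk (by decide) | exact ha.2 _ | assumption |
      exact (s _ _).trans (by assumption)

theorem bound (S : Fin 5 → Fin 5 → Prop) (x : M5) (i : Fin 3 → Fin 5 × Fin 5)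
    (hm : ∀ g : M5, g * x = x * g → g * g = 1 → (∀ a : M5, Alt a → x * a * xᵀ = a →
      (∀ k l, S k l → (a + g * a * gᵀ) k l = 0) → a + g * a * gᵀ = 0) → g = 1 ∨ g = x)
    (hr : ∀ a : M5, Alt a → (∀ k l, S k l → a k l = 0) → a = 0 ∨ ∃ p : M5 × M5, p.1 * p.2 = 1 ∧
      p.1 * E 0 1 * p.1ᵀ = a)
    (hc : ∀ a : M5, Alt a → x * a * xᵀ = a → (∀ t, a (i t).1 (i t).2 = 0) → ∀ k l, S k l → a k l = 0)
    (n : N0) (hn : n.g.1 = x) (B : Subgroup N0) (nB : n ∈ B) (sq : ∀ f ∈ B, f * f = 1)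
    (nrm : ∀ a : N0, a * n = n * a → ∀ f ∈ B, a * f * a⁻¹ ∈ B)
    (hz : ∀ k : N0, k * zz 1 2 * k⁻¹ ∉ B) : Nat.card B ≤ 16 := by
  classical
  have inv : ∀ f ∈ B, f⁻¹ = f := fun f hf => inv_eq_of_mul_eq_one_right (sq f hf)
  have cm : ∀ f ∈ B, f * n = n * f := fun f hf => by
    rw [← inv _ (B.mul_mem hf nB), _root_.mul_inv_rev, inv f hf, inv n nB]
  have key : ∀ c ∈ B, c.g = 1 → (∀ k l, S k l → c.a k l = 0) → c.a = 0 := fun c hc' hg h =>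
    (hr c.a c.alt h).resolve_right fun ⟨p, h1, h2⟩ =>
      let ⟨k, hk⟩ := rk hg h1 h2; hz k (hk ▸ hc')
  have cA : ∀ a : N0, a.g = 1 → (a * n = n * a ↔ x * a.a * xᵀ = a.a) := fun a ha => by
    rw [N0.ext_iff, mul_a, mul_a, mul_g, mul_g, ha, hn, mul_one, one_mul]
    simp only [Matrix.SpecialLinearGroup.coe_one, Matrix.one_mul, transpose_one, Matrix.mul_one,
      and_true]
    rw [add_comm, add_right_inj, eq_comm]
  have tw : ∀ f ∈ B, f.g = 1 ∨ f.g = n.g := fun f hf => by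
    refine (hm f.g.1 ?_ ?_ fun a ha h1 h2 => ?_).imp Subtype.ext fun e => Subtype.ext (e.trans hn.symm)
    · rw [← hn]; exact congrArg (fun y : N0 => y.g.1) (cm f hf)
    · exact congrArg (fun y : N0 => y.g.1) (sq f hf)
    · have m := B.mul_mem (nrm ⟨a, 1, ha⟩ ((cA _ rfl).2 h1) f hf) (B.inv_mem hf)
      have e : (⟨a, 1, ha⟩ : N0) * f * (⟨a, 1, ha⟩ : N0)⁻¹ * f⁻¹ =
          ⟨a + f.g.1 * a * f.g.1ᵀ, 1, ha.add (ha.act _)⟩ := by
        rw [mul_inv_eq_iff_eq_mul]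
        refine N0.ext ?_ (by simp)
        simp [add_assoc, add_comm, add_left_comm]
      rw [e] at m
      exact key _ m rfl h2
  have inj : ∀ f ∈ B, ∀ f' ∈ B, f.g = 1 → f'.g = 1 →
      (∀ t, f.a (i t).1 (i t).2 = f'.a (i t).1 (i t).2) → f = f' := fun f hf f' hf' g1 g2 e => by
    have g3 : (f * f').g = 1 := by rw [mul_g, g1, g2, mul_one]
    have a3 : (f * f').a = f.a + f'.a := by simp [g1]
    have := key _ (B.mul_mem hf hf') g3 (hc _ (f * f').alt ((cA _ g3).1 (cm _ (B.mul_mem hf hf')))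
      fun t => by rw [a3, Matrix.add_apply, e, two_F])
    rw [← inv f' hf', eq_inv_iff_mul_eq_one]
    exact N0.ext this g3
  have := Nat.card_le_card_of_injective (fun f : B => if f.1.g = 1 then
      ((true, fun t => f.1.a (i t).1 (i t).2) : Bool × (Fin 3 → F))
    else (false, fun t => (n * f.1).a (i t).1 (i t).2)) (fun f f' e => by
      have u : ∀ f : B, ¬ f.1.g = 1 → (n * f.1).g = 1 := fun f h => by
        rw [mul_g, (tw f.1 f.2).resolve_left h, ← mul_g, sq n nB, one_g]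
      dsimp only at e
      split_ifs at e with h1 h2 h2
      · exact Subtype.ext (inj _ f.2 _ f'.2 h1 h2 (congrFun (congrArg Prod.snd e)))
      · exact absurd (congrArg Prod.fst e) (by simp)
      · exact absurd (congrArg Prod.fst e) (by simp)
      · exact Subtype.ext (mul_left_cancel (inj _ (B.mul_mem nB f.2) _ (B.mul_mem nB f'.2) (u f h1)
          (u f' h2) (congrFun (congrArg Prod.snd e)))))
  simpa using this

theorem model (n : N0) (hn : n.g.1 = x1 ∨ n.g.1 = x2) (B : Subgroup N0) (nB : n ∈ B)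
    (sq : ∀ f ∈ B, f * f = 1) (nrm : ∀ a : N0, a * n = n * a → ∀ f ∈ B, a * f * a⁻¹ ∈ B)
    (hz : ∀ k : N0, k * zz 1 2 * k⁻¹ ∉ B) : Nat.card B ≤ 16 := by
  rcases hn with hn | hn
  · exact bound (fun k l => k ≠ 0 ∧ l ≠ 0) x1 ![(1, 2), (1, 3), (2, 3)]
      (fun g a b H => m1 g a b fun c d e f => H c d e fun k l h => f k l h.1 h.2)
      (fun a ha h => (r1 a ha fun k l u v => h k l ⟨u, v⟩).imp_right fun ⟨p, _, q⟩ => ⟨p, q⟩)
      (fun a ha h t k l s => c1 a ha h (t 0) (t 1) (t 2) k l s.1 s.2) n hn B nB sq nrm hz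
  · exact bound (fun k l => 3 ≤ k ∨ 3 ≤ l) x2 ![(0, 3), (1, 4), (0, 4)] m2
      (fun a ha h => (r2 a ha h).imp_right fun ⟨p, _, q⟩ => ⟨p, q⟩)
      (fun a ha h t => c2 a ha h (t 0) (t 1) (t 2)) n hn B nB sq nrm hz

/-- classes of involutions -/
theorem classes (mf : MF) (n : N0) (h : n * n = 1) : n = 1 ∨ IsConj (zz 1 2) n ∨
    IsConj (zz 1 2 * zz 3 4) n ∨ ∃ r : N0, IsConj r n ∧ r * zz 1 2 = zz 1 2 * r ∧
      (r.g.1 = x1 ∨ r.g.1 = x2) := by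
  obtain ⟨g, hg⟩ := mf.invN n h
  have c : IsConj (g * n * g⁻¹) n := (isConj_iff.2 ⟨g, rfl⟩).symm
  rcases hg with hg | hg | hg | hg | hg
  · rcases mf.orbA.1 _ hg with e | ⟨r, hr, k, -, e⟩
    · exact Or.inl (isConj_one_right.1 (e ▸ c))
    · replace c : IsConj r n := (isConj_iff.2 ⟨k, e.symm⟩).trans c
      simp only [List.mem_cons, List.not_mem_nil, or_false] at hr
      rcases hr with rfl | rfl | rfl | rfl
      · exact Or.inr (Or.inl c)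
      · exact Or.inr (Or.inr (Or.inl c))
      · exact Or.inr (Or.inr (Or.inr ⟨_, c, by decide, Or.inl (by decide)⟩))
      · exact Or.inr (Or.inr (Or.inr ⟨_, c, by decide, Or.inl (by decide)⟩))
  · exact Or.inr (Or.inr (Or.inr ⟨_, hg ▸ c, by decide, Or.inl (by decide)⟩))
  · exact Or.inr (Or.inr (Or.inr ⟨_, hg ▸ c, by decide, Or.inl (by decide)⟩))
  · exact Or.inr (Or.inr (Or.inr ⟨_, hg ▸ c, by decide, Or.inr (by decide)⟩))
  · exact Or.inr (Or.inr (Or.inr ⟨_, hg ▸ c, by decide, Or.inr (by decide)⟩))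

theorem mem_A0 {n : N0} : n ∈ A0 ↔ n.g = 1 :=
  ⟨fun h => Subtype.ext (Matrix.ext fun i j => (mem_Pat.1 h).2 i j rfl),
    fun h => mem_Pat.2 ⟨fun _ _ e => absurd e (by simp), fun i j _ => by rw [h]; rfl⟩⟩

theorem sq_A0 {n : N0} (h : n ∈ A0) : n * n = 1 :=
  N0.ext (by simp [mem_A0.1 h, add_self_M]) (by simp [mem_A0.1 h])

theorem cn1 : CN1Stmt.{u} := by
  intro mf G _ _ φ γ ga hC g hg
  by_contra hcon
  have zA : zz 1 2 ∈ A0 := mem_A0.2 rfl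
  have z1 : zz 1 2 ≠ 1 := by decide
  have mp := fun {a b : N0} (h : IsConj a b) => φ.map_isConj h
  -- the element and its class
  have cls : ∀ n : N0, IsConj (φ (zz 1 2)) (φ n) → IsConj (zz 1 2) n ∨ ∃ r : N0, IsConj r n ∧
      r * zz 1 2 = zz 1 2 * r ∧ (r.g.1 = x1 ∨ r.g.1 = x2) := fun n h => by
    obtain ⟨k, hk⟩ := isConj_iff.1 h
    have sq : n * n = 1 := ga.fr.inj (by
      rw [map_mul, ← hk, conj_mul, ← map_mul, sq_A0 zA, map_one, mul_one, mul_inv_cancel])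
    rcases classes mf n sq with e | e | e | e
    · rw [e, map_one, isConj_one_left, map_eq_one_iff _ ga.fr.inj] at h
      exact absurd h z1
    · exact Or.inl e
    · exact absurd (h.trans (mp e).symm) ga.f1
    · exact Or.inr e
  obtain ⟨n, hn⟩ := hg
  rcases cls n (isConj_iff.2 ⟨g, hn.symm⟩) with e | ⟨r, e, rz, rx⟩
  · obtain ⟨k, rfl⟩ := isConj_iff.1 e
    exact hcon ⟨φ k, ⟨k, rfl⟩, by rw [← hn, map_mul, map_mul, map_inv]⟩
  obtain ⟨k, hk⟩ := isConj_iff.1 ((isConj_iff.2 ⟨g, hn.symm⟩).trans (mp e).symm)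
  have rA : ∀ a ∈ A0, ¬ IsConj r a := fun a ha h => by
    obtain ⟨l, rfl⟩ := isConj_iff.1 h.symm
    have := mem_A0.1 (mf.nrm.2.2.2.2.2.2.2.2.2.2.2.2.2.2.2.2.conj_mem a ha l)
    rw [this] at rx
    revert rx
    decide
  obtain ⟨B, hB⟩ : ∃ B : Subgroup G, B = (A0.map φ).map (MulAut.conj k).toMonoidHom := ⟨_, rfl⟩
  have mB : ∀ x, x ∈ B ↔ k⁻¹ * x * k ∈ A0.map φ := fun x => by
    rw [hB, mem_map_equiv, MulAut.conj_symm_apply]
  have sB : ∀ x ∈ B, x * x = 1 := fun x hx => by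
    obtain ⟨a, ha, e⟩ := (mB x).1 hx
    rw [show x * x = k * (k⁻¹ * x * k * (k⁻¹ * x * k)) * k⁻¹ by group, ← e, ← map_mul, sq_A0 ha,
      map_one, mul_one, mul_inv_cancel]
  have nB : ∀ c, c * φ r = φ r * c → ∀ x ∈ B, c * x * c⁻¹ ∈ B := fun c hc x hx => by
    have : k⁻¹ * c * k ∈ normalizer ((A0.map φ : Subgroup G) : Set G) := by
      rw [ga.fr.nA]
      refine hC (mem_centralizer_singleton_iff.2 ?_)
      rw [← hk] at hc
      calc k⁻¹ * c * k * φ (zz 1 2) = k⁻¹ * (c * (k * φ (zz 1 2) * k⁻¹)) * k := by group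
        _ = φ (zz 1 2) * (k⁻¹ * c * k) := by rw [hc]; group
    have := (mem_normalizer_iff.1 this _).1 ((mB x).1 hx)
    rw [mB]
    convert this using 1
    group
  have h1 := model r rx (B.comap φ) ((mB _).2 ⟨_, zA, by rw [← hk]; group⟩)
    (fun f hf => ga.fr.inj (by rw [map_mul, map_one]; exact sB _ hf))
    (fun a ha f hf => by
      rw [mem_comap, map_mul, map_mul, map_inv]
      exact nB _ (by rw [← map_mul, ha, map_mul]) _ hf)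
    (fun l hl => by
      obtain ⟨a, ha, e⟩ := (mB _).1 hl
      rw [map_mul, map_mul, map_inv] at e
      rcases cls a (isConj_iff.2 ⟨k⁻¹ * φ l, by rw [e]; group⟩) with c | ⟨r', c, -, rx'⟩
      · obtain ⟨m, rfl⟩ := isConj_iff.1 c
        rw [map_mul, map_mul, map_inv] at e
        obtain ⟨s, hs⟩ := hC (show (φ l)⁻¹ * k * φ m ∈ Cz φ from mem_centralizer_singleton_iff.2 (by
          calc (φ l)⁻¹ * k * φ m * φ (zz 1 2) =
              (φ l)⁻¹ * k * (φ m * φ (zz 1 2) * (φ m)⁻¹) * φ m := by group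
            _ = φ (zz 1 2) * ((φ l)⁻¹ * k * φ m) := by rw [e]; group))
        refine rA _ zA (isConj_iff.2 ⟨l * s * m⁻¹, ga.fr.inj ?_⟩).symm
        rw [← hk]
        simp only [map_mul, map_inv, hs]
        group
      · obtain ⟨m, rfl⟩ := isConj_iff.1 c.symm
        have := mem_A0.1 (mf.nrm.2.2.2.2.2.2.2.2.2.2.2.2.2.2.2.2.conj_mem a ha m)
        rw [this] at rx'
        revert rx'
        decide)
  have h2 := H97.JM.EA.card_le_sq (V := B) sB (z := φ (zz 1 2)) (by rw [← map_mul, sq_A0 zA, map_one])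
    (nB _ (by rw [← map_mul, ← rz, map_mul]))
  have h3 : Nat.card B = 2 ^ 10 := by
    rw [hB, card_map_of_injective (MulAut.conj k).injective, card_map_of_injective ga.fr.inj,
      mf.kit.2.1]
  have h4 : Nat.card ↥(B ⊓ Cz φ) ≤ Nat.card (B.comap φ) := by
    rw [← card_map_of_injective (f := φ) ga.fr.inj, map_comap_eq]
    exact card_le_of_le (le_inf (inf_le_right.trans hC) inf_le_left)
  have h5 := h2.trans (Nat.mul_le_mul (h4.trans h1) (h4.trans h1))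
  rw [h3] at h5
  norm_num at h5

end Cfsg.Agent.H8.LpCn1
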