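import Cfsg.Agent.H48.M2Defs

/-! Arks of the Monster: standard charts at every singular point. -/

set_option autoImplicit false

namespace Cfsg.Agent.H48.M2.ST

open Cfsg Subgroup Cfsg.Agent.H48 Cfsg.Agent.H48.Rec Cfsg.Agent.H49 Cfsg.Agent.H95.Par
open Cfsg.Agent.H97.Gr (DD ZZ)
open Cfsg.Agent.H97.Yt (M)
open scoped Pointwise

section
variable {G : Type*} [Group G]

theorem cj_nrm (E : Subgroup G) (g : G) :
    cj (normalizer (E : Set G)) g = normalizer (cj E g : Set G) := by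
  ext x
  rw [mem_cj, ← cj_eq_iff, ← cj_eq_iff]
  constructor
  · intro h
    ext y
    have := SetLike.ext_iff.1 h (g⁻¹ * y * g)
    simp only [mem_cj] at this ⊢
    rw [← this]
    simp [mul_assoc]
  · intro h
    ext y
    have := SetLike.ext_iff.1 h (g * y * g⁻¹)
    simp only [mem_cj] at this ⊢
    simpa [mul_assoc] using this

theorem ten_cj {Q E : Subgroup G} {z b : G} (h : Ten Q E z b) (g : G) :
    Ten (cj Q g) (cj E g) (g * z * g⁻¹) (g * b * g⁻¹) where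
  hQ := h.hQ.cj g
  cQ := by rw [card_cj, h.cQ]
  sq x hx := by
    have := h.sq _ (mem_cj.1 hx)
    rwa [show g⁻¹ * x * g * (g⁻¹ * x * g) = g⁻¹ * (x * x) * g⁻¹⁻¹ by group, conj_eq_one_iff] at this
  zE := mem_cj.2 (by simpa [mul_assoc] using h.zE)
  bE := mem_cj.2 (by simpa [mul_assoc] using h.bE)
  bQ k := h.bQ (by simpa [mul_assoc] using mem_cj.1 k)
  c1 := by rw [← cj_inf, card_cj, h.c1]
  spl x hx := (h.spl _ (mem_cj.1 hx)).imp mem_cj.2 fun k => mem_cj.2 (by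
    simpa [mul_assoc] using k)
  orb e he := by
    rw [← cj_inf, mem_cj] at he
    obtain ⟨u, hu, k⟩ := h.orb _ he
    refine ⟨g * u * g⁻¹, mem_cj.2 (by simpa [mul_assoc] using hu), ?_⟩
    rw [show g * u * g⁻¹ * (g * b * g⁻¹) * (g * u * g⁻¹)⁻¹ = g * (u * b * u⁻¹) * g⁻¹ by group]
    exact k.imp (fun k => by rw [k]; group) fun k => by rw [k]; group
  QN := by rw [← cj_nrm]; exact cj_mono h.QN g
  nb c := h.nb (((isConj_iff.2 ⟨g, rfl⟩ : IsConj z _).trans c).trans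
    (IsConj.symm (isConj_iff.2 ⟨g, rfl⟩)))
  ex := by
    obtain ⟨n, hn, k⟩ := h.ex
    refine ⟨g * n * g⁻¹, ?_, fun a => k (by simpa [mul_assoc] using mem_cj.1 a)⟩
    rw [← cj_nrm, mem_cj]
    simpa [mul_assoc] using hn
  cN := by rw [← cj_nrm, ← cj_centralizer_singleton, ← cj_inf, card_cj]; exact h.cN

theorem swap_or {u x y : G} (uu : u * u = 1) (hx : x * u = u * x) (hy : y * u = u * y)
    (h : x * y * x⁻¹ = y ∨ x * y * x⁻¹ = y * u) : y * x * y⁻¹ = x ∨ y * x * y⁻¹ = x * u := by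
  refine h.imp (fun e => ?_) fun e => ?_ <;> rw [mul_inv_eq_iff_eq_mul] at e ⊢
  · exact e.symm
  · rw [mul_assoc, ← hy, ← mul_assoc, e, mul_assoc y, ← hx, mul_assoc, mul_assoc, uu, mul_one]

theorem mem_nrm {u x y : G} (uu : u * u = 1) (hx : x * u = u * x)
    (h : x * y * x⁻¹ = y ∨ x * y * x⁻¹ = y * u) : x ∈ normalizer ({y, y * u} : Set G) := by
  have e : x * (y * u) * x⁻¹ = x * y * x⁻¹ * u := by
    rw [mul_assoc _ x⁻¹, ← mul_assoc x, mul_assoc _ u, eq_mul_inv_iff_mul_eq.2 (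
      show x⁻¹ * u * x = u by rw [mul_assoc, ← hx, inv_mul_cancel_left]) |>.symm]
  refine mem_normalizer_fintype fun n hn => ?_
  rcases hn with rfl | rfl
  · exact h
  · rw [e]
    rcases h with h | h <;> rw [h]
    · exact Or.inr rfl
    · exact Or.inl (by rw [mul_assoc, uu, mul_one])

end

theorem std_cj {A : Subgroup M} {u b : M} {θ : Th u} {R : Lam → M → Prop} (s : Std A u b θ R)
    {n : M} (hn : n ∈ NN A) : ∃ θ' R', Std A (n * u * n⁻¹) (n * b * n⁻¹) θ' R' := by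
  obtain ⟨θ', c, e⟩ := ch_cj s.ch n
  have eA := cj_eq_iff.2 hn
  refine ⟨θ', _, c, ?_, fun x => ?_, (e _ _).1 s.ass, fun g k a cg => ?_⟩
  · have := ten_cj s.ten n
    rwa [eA, ← Qz_cj s.ch.zz] at this
  · rw [← s.pre, ← mem_cj, cj_inf, eA, Qz_cj s.ch.zz]
  · have := s.nrm g (n⁻¹ * k * n) ((e _ _).2 (by simpa [mul_assoc] using a)) cg
    simpa [mul_assoc] using mul_mem (mul_mem hn this) (inv_mem hn)

end Cfsg.Agent.H48.M2.ST

namespace Cfsg.Agent.H48.M2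

open Cfsg Subgroup Cfsg.Agent.H48 Cfsg.Agent.H48.Rec Cfsg.Agent.H49 Cfsg.Agent.H95.Par
open Cfsg.Agent.H97.Gr (DD ZZ)
open Cfsg.Agent.H97.Yt (M)
open scoped Pointwise

theorem st_of (h0 : Ak0Stmt) : StStmt := by
  rintro _ ⟨u0, y, ⟨θ, R, c, a⟩, rfl⟩ u hu uZ
  obtain ⟨A, b, s⟩ := exists_std c
  rw [(h0 A u0 b θ R s y a).1] at hu ⊢
  obtain ⟨n, hn, rfl⟩ := s.ten.tr hu (ZZ_conj c.zz uZ)
  exact ⟨_, ST.std_cj s hn⟩

theorem ak_of (h0 : Ak0Stmt) : AkStmt := by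
  intro A hA u hu uZ y hy yQ
  obtain ⟨b, θ, R, s⟩ := st_of h0 A hA u hu uZ
  have k : y ∈ ((Qz u : Set M) * (A : Set M)) := by
    rw [← coe_mul_of_left_le_normalizer_right _ _ s.ten.QN]; exact hy
  obtain ⟨q, hq, a, ha, rfl⟩ := k
  have ab : a * b ∈ Qz u := (s.ten.spl a ha).resolve_left fun k => yQ (mul_mem hq k)
  have t : Ass θ zt (q * a) := by
    have := (s.ch.ass_one (mul_mem hq ab)).mul s.ass
    rwa [one_mul, mul_assoc, mul_assoc, s.ten.sq b s.ten.bE, mul_one] at this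
  exact ⟨⟨θ, R, s.ch, t⟩, h0 A u b θ R s _ t⟩

theorem ta_of (h0 : Ak0Stmt) : TaStmt := by
  rintro u y ⟨θ, R, c, a⟩
  obtain ⟨A, b, s⟩ := exists_std c
  have e := (h0 A u b θ R s y a).1
  have qQ : b⁻¹ * y ∈ Qz u := H74.Mon.ass_sub c s.ass a
  have uu := c.hQ.zz
  refine ⟨c.zz, a.comm, zt_not_mem c a, e ▸ s.ten.zE, ?_, fun yy => ?_, fun yD => ?_, ?_⟩
  · rw [e]
    simpa using mul_mem (mem_sup_right s.ten.bE : b ∈ Qz u ⊔ A) (mem_sup_left qQ)
  · obtain ⟨v, r⟩ := c.ex1 _ qQ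
    have f := H74.Mon.fix_of_sq c s.ass (s.ten.sq b s.ten.bE) r (by rwa [mul_inv_cancel_left])
    have qu := c.hQ.cen _ qQ
    have j : b⁻¹ * y ∈ Jh u b := ⟨qQ, ST.mem_nrm uu qu
      (ST.swap_or uu s.ass.comm qu ((c.uniq r (c.act' s.ass r)).1 f))⟩
    rw [(h0 A u b θ R s b s.ass).2] at j
    have hb : b ∈ CP A := fun x hx => s.ten.cm hx s.ten.bE
    rw [e]
    simpa using mul_mem hb j.2
  · refine ⟨mem_sup_right (mem_zpowers y), fun x hx => ?_⟩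
    obtain ⟨v, r⟩ := c.ex1 x hx.1
    refine c.a0 a yD (zt_not_mem c a) r ((c.uniq r (c.act' a r)).2
      (ST.swap_or uu (c.hQ.cen x hx.1) a.comm ?_))
    exact (mem_set_normalizer_iff.1 hx.2 y).1 (Or.inl rfl)
  · rw [e, (h0 A u b θ R s _ (H74.Mon.ass_mul c a c.hQ.mem)).1]

end Cfsg.Agent.H48.M2
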