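import Cfsg.Agent.H42.PcDefs

/-! A chief factor at the top of a normal subgroup of a normal `2`-subgroup. -/

set_option autoImplicit false

namespace Cfsg.Agent.H8.PcW

open Subgroup Cfsg.Agent.H42.Pc

universe u

theorem inv2 {Q : Type u} [Group Q] (k : ℕ) : ∀ b : Q, b ≠ 1 → b ^ 2 ^ k = 1 →
    ∃ n : ℕ, b ^ n ≠ 1 ∧ b ^ n * b ^ n = 1 := by
  induction k with
  | zero => intro b hb h; exact absurd (by simpa using h) hb
  | succ k ih =>
    intro b hb h
    by_cases e : b * b = 1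
    · exact ⟨1, by simpa using hb, by simpa using e⟩
    · obtain ⟨n, h1, h2⟩ := ih (b * b) e (by rw [← pow_two, ← pow_mul, ← pow_succ', h])
      refine ⟨2 * n, ?_, ?_⟩ <;> rw [pow_mul, pow_two] <;> assumption

theorem cen {Q : Type u} [Group Q] [Finite Q] (U Z : Subgroup Q) [Z.Normal] (hU : IsPGroup 2 U)
    (le : Z ≤ U) (ne : Z ≠ ⊥) : ∃ c ∈ Z, c ≠ 1 ∧ c * c = 1 ∧ ∀ a ∈ U, a * c * a⁻¹ = c := by
  letI : MulAction U Z := MulAction.compHom Z ((MulAut.conjNormal (H := Z)).comp U.subtype)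
  have hZ : IsPGroup 2 Z := hU.to_le le
  have : Nontrivial Z := (nontrivial_iff_ne_bot Z).2 ne
  obtain ⟨n, hn0, hn⟩ := hZ.nontrivial_iff_card.1 this
  obtain ⟨b, hb, hb1⟩ := hU.exists_fixed_point_of_prime_dvd_card_of_fixed_point Z
    (by rw [hn]; exact dvd_pow_self 2 hn0.ne') (a := 1)
    (fun a => map_one (MulAut.conjNormal (H := Z) (a : Q)))
  obtain ⟨k, hk⟩ := hZ b
  obtain ⟨m, h1, h2⟩ := inv2 k (b : Q) (fun e => hb1 (Subtype.ext e.symm))
    (by simpa using congrArg Subtype.val hk)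
  refine ⟨_, Z.pow_mem b.2 m, h1, h2, fun a ha => ?_⟩
  have e : a * b * a⁻¹ = b := congrArg Subtype.val (hb ⟨a, ha⟩)
  rw [← conj_pow, e]

theorem ww : WStmt.{u} := by
  intro G _ _ U Z nU nZ hU le ne
  obtain ⟨W, ⟨nW, hW, hne⟩, hmax⟩ := (Set.toFinite
    {W : Subgroup G | W.Normal ∧ W ≤ Z ∧ ¬ Z ≤ W}).exists_maximal
    ⟨⊥, inferInstance, bot_le, fun h => ne (le_bot_iff.1 h)⟩
  refine ⟨W, nW, hW, hne, ?_⟩
  let π := QuotientGroup.mk' W
  have nZ' : (Z.map π).Normal := nZ.map π (QuotientGroup.mk'_surjective W)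
  have hk : ∀ g, π g = 1 ↔ g ∈ W := fun g => QuotientGroup.eq_one_iff g
  obtain ⟨_, ⟨c, hc, rfl⟩, c1, c2, c3⟩ := cen (U.map π) (Z.map π) (hU.map π) (map_mono le)
    (fun e => hne fun z hz => (hk z).1 (mem_bot.1 (e ▸ mem_map_of_mem π hz)))
  let E : Subgroup G :=
    { carrier := {x | x ∈ Z ∧ π x * π x = 1 ∧ ∀ a ∈ U, π a * π x * (π a)⁻¹ = π x}
      one_mem' := ⟨Z.one_mem, by simp, by simp⟩
      mul_mem' := by
        rintro x y ⟨hx, x2, x3⟩ ⟨hy, y2, y3⟩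
        refine ⟨Z.mul_mem hx hy, ?_, fun a ha => ?_⟩
        · have h := x3 y (le hy)
          rw [mul_inv_eq_iff_eq_mul] at h
          rw [map_mul]
          calc π x * π y * (π x * π y) = π x * (π y * π x) * π y := by simp only [mul_assoc]
            _ = π x * π x * (π y * π y) := by rw [h]; simp only [mul_assoc]
            _ = 1 := by rw [x2, y2, one_mul]
        · rw [map_mul, ← conj_mul, x3 a ha, y3 a ha]
      inv_mem' := by
        rintro x ⟨hx, x2, x3⟩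
        refine ⟨Z.inv_mem hx, ?_, fun a ha => ?_⟩
        · rw [map_inv, ← mul_inv_rev, x2, inv_one]
        · rw [map_inv, ← conj_inv, x3 a ha] }
  have nE : E.Normal := by
    refine ⟨fun x ⟨hx, x2, x3⟩ g => ⟨nZ.conj_mem x hx g, ?_, fun a ha => ?_⟩⟩
    · simp only [map_mul, map_inv]
      rw [conj_mul, x2, mul_one, mul_inv_cancel]
    · have h := x3 (g⁻¹ * a * g⁻¹⁻¹) (nU.conj_mem a ha g⁻¹)
      simp only [map_mul, map_inv] at h ⊢
      conv_rhs => rw [← h]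
      group
  have hWE : W ≤ E := fun w hw => ⟨hW hw, by rw [(hk w).2 hw, one_mul], fun a _ => by
    rw [(hk w).2 hw, mul_one, mul_inv_cancel]⟩
  have hZE : Z ≤ E := by
    by_contra h
    have := hmax ⟨nE, fun x hx => hx.1, h⟩ hWE
    exact c1 ((hk c).2 (this ⟨hc, c2, fun a ha => c3 _ (mem_map_of_mem π ha)⟩))
  intro x hx
  obtain ⟨-, x2, x3⟩ := hZE hx
  refine ⟨(hk _).1 (by rw [map_mul, x2]), fun a ha => (hk _).1 ?_⟩
  simp only [map_mul, map_inv]
  rw [x3 a ha, inv_mul_cancel]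

end Cfsg.Agent.H8.PcW
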