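import Cfsg.Agent.H8.SylowIn
import Cfsg.Agent.H3.NGCent

/-! Pyramidal groups (S3930), part A: the example and quaternion groups acting on `p`-groups. -/

set_option autoImplicit false

namespace Cfsg.Agent.H8.Pyr

open Subgroup

universe u

section Example

variable (F : Type) [Field F]

/-- the natural action of `SL₂(F)` -/
def natAct : Matrix.SpecialLinearGroup (Fin 2) F →* MulAut (Multiplicative (Fin 2 → F)) :=
  MonoidHom.mk' (fun A => AddEquiv.toMultiplicative (Matrix.SpecialLinearGroup.toLin' A).toAddEquiv)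
    fun A B => by
      ext v
      simp

theorem natAct_apply (A : Matrix.SpecialLinearGroup (Fin 2) F) (v : Multiplicative (Fin 2 → F)) :
    Multiplicative.toAdd (natAct F A v) = A.1.mulVec (Multiplicative.toAdd v) := rfl

/-- the affine special linear group -/
abbrev Aff := Multiplicative (Fin 2 → F) ⋊[natAct F] Matrix.SpecialLinearGroup (Fin 2) F

variable {F}

theorem sl2_sq {A : Matrix.SpecialLinearGroup (Fin 2) F} (h : A * A = 1) (h2 : (2 : F) ≠ 0) :
    A = 1 ∨ A = -1 := by
  have hd := A.det_coe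
  rw [Matrix.det_fin_two] at hd
  have hi : A⁻¹ = A := inv_eq_of_mul_eq_one_right h
  rw [Matrix.SpecialLinearGroup.SL2_inv_expl] at hi
  have e := congrArg (fun B : Matrix.SpecialLinearGroup (Fin 2) F => B.1) hi
  have e0 : A.1 1 1 = A.1 0 0 := congrFun (congrFun e 0) 0
  have e1 : -A.1 0 1 = A.1 0 1 := congrFun (congrFun e 0) 1
  have e2 : -A.1 1 0 = A.1 1 0 := congrFun (congrFun e 1) 0
  have f1 : A.1 0 1 = 0 := (mul_eq_zero.1 (show 2 * A.1 0 1 = 0 by
    linear_combination -e1)).resolve_left h2
  have f2 : A.1 1 0 = 0 := (mul_eq_zero.1 (show 2 * A.1 1 0 = 0 by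
    linear_combination -e2)).resolve_left h2
  rw [e0, f1, zero_mul, sub_zero, mul_self_eq_one_iff] at hd
  rcases hd with hd | hd
  · left
    ext i j
    fin_cases i <;> fin_cases j <;> simp [e0, f1, f2, hd]
  · right
    ext i j
    fin_cases i <;> fin_cases j <;> simp [e0, f1, f2, hd]

theorem neg_ne (h2 : (2 : F) ≠ 0) : (-1 : Matrix.SpecialLinearGroup (Fin 2) F) ≠ 1 := by
  intro e
  have := congrArg (fun B : Matrix.SpecialLinearGroup (Fin 2) F => B.1 0 0) e
  simp at this
  exact h2 (by linear_combination -this)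

theorem natAct_neg (v : Multiplicative (Fin 2 → F)) : natAct F (-1) v = v⁻¹ := by
  apply Multiplicative.toAdd.injective
  rw [natAct_apply]
  simp [Matrix.neg_mulVec]

theorem aff_ord (h2 : (2 : F) ≠ 0) (x : Aff F) : orderOf x = 2 ↔ x.right = -1 := by
  have : Fact (Nat.Prime 2) := ⟨Nat.prime_two⟩
  rw [orderOf_eq_prime_iff, sq]
  constructor
  · rintro ⟨h, h1⟩
    have e1 : x.right * x.right = 1 := congrArg SemidirectProduct.right h
    refine (sl2_sq e1 h2).resolve_left fun e => h1 ?_
    have e2 : x.left * natAct F x.right x.left = 1 := congrArg SemidirectProduct.left h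
    rw [e, map_one, MulAut.one_apply] at e2
    refine SemidirectProduct.ext ?_ e
    apply Multiplicative.toAdd.injective
    funext i
    have := congrFun (congrArg Multiplicative.toAdd e2) i
    simp only [toAdd_mul, Pi.add_apply, toAdd_one, Pi.zero_apply] at this
    exact (mul_eq_zero.1 (show 2 * Multiplicative.toAdd x.left i = 0 by
      linear_combination this)).resolve_left h2
  · intro h
    refine ⟨SemidirectProduct.ext ?_ ?_, fun e => neg_ne h2 (by rw [← h, e]; rfl)⟩
    · show x.left * natAct F x.right x.left = 1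
      rw [h, natAct_neg, mul_inv_cancel]
    · show x.right * x.right = 1
      rw [h]; simp

theorem example_group [Finite F] (h2 : (2 : F) ≠ 0) (h4 : 4 ≤ Nat.card F) :
    Finite (Aff F) ∧ Nat.card {x : Aff F // orderOf x = 2} = Nat.card F ^ 2 ∧
      (∀ x y : Aff F, orderOf x = 2 → orderOf y = 2 → ∃ g : Aff F, g * x * g⁻¹ = y) ∧
      ¬ Group.IsSolvable (Aff F) := by
  refine ⟨Finite.of_equiv _ SemidirectProduct.equivProd.symm, ?_, fun x y hx hy => ?_,
    fun h => ?_⟩
  · have e : {x : Aff F // orderOf x = 2} ≃ Multiplicative (Fin 2 → F) :=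
      ⟨fun x => x.1.left, fun v => ⟨⟨v, -1⟩, (aff_ord h2 _).2 rfl⟩,
        fun x => Subtype.ext (SemidirectProduct.ext rfl ((aff_ord h2 _).1 x.2).symm),
        fun _ => rfl⟩
    rw [Nat.card_congr e, Nat.card_congr Multiplicative.toAdd, Nat.card_fun]
    simp
  · rw [aff_ord h2] at hx hy
    refine ⟨SemidirectProduct.inl (Multiplicative.ofAdd
      ((2 : F)⁻¹ • (Multiplicative.toAdd y.left - Multiplicative.toAdd x.left))), ?_⟩
    rw [mul_inv_eq_iff_eq_mul]
    refine SemidirectProduct.ext ?_ ?_
    · simp only [SemidirectProduct.mul_left, SemidirectProduct.left_inl,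
        SemidirectProduct.right_inl, map_one, MulAut.one_apply, hy, natAct_neg]
      apply Multiplicative.toAdd.injective
      funext i
      simp only [toAdd_mul, toAdd_ofAdd, toAdd_inv, Pi.add_apply, Pi.neg_apply, Pi.smul_apply,
        Pi.sub_apply, smul_eq_mul]
      field_simp
      ring
    · simp [hx, hy]
  · exact H3.NGA.not_solvable_SL2 h4
      (Group.isSolvable_of_surjective (G := Aff F) SemidirectProduct.rightHom_surjective)

end Example

section Quat

theorem even_finrank {K W : Type*} [Field K] [AddCommGroup W] [Module K W] [Module.Finite K W]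
    (h2 : (-1 : K) ≠ 1) (A B : W →ₗ[K] W) (hA : A * A = -1) (hB : B * B = -1)
    (hAB : A * B * (A * B) = -1) : Even (Module.finrank K W) := by
  have hneg : ∀ C : W →ₗ[K] W, LinearMap.det (-C) = (-1) ^ Module.finrank K W * LinearMap.det C :=
    fun C => by rw [← neg_one_smul K C, LinearMap.det_smul]
  have h1 : A * B = -(B * A) := by
    have e1 : A * (A * B * (A * B)) * B = A * (-1) * B := by rw [hAB]
    have e2 : A * (A * B * (A * B)) * B = (A * A) * (B * A) * (B * B) := by noncomm_ring
    rw [e2, hA, hB] at e1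
    have e3 : B * A = -(A * B) := by
      rw [← neg_neg (B * A)]
      simpa using e1
    rw [e3, neg_neg]
  have hd : ∀ C : W →ₗ[K] W, C * C = -1 → LinearMap.det C ≠ 0 := fun C hC e => by
    have := congrArg LinearMap.det hC
    rw [map_mul, e, hneg, map_one, mul_zero, mul_one] at this
    exact pow_ne_zero _ (neg_ne_zero.2 one_ne_zero) this.symm
  have h3 := congrArg LinearMap.det h1
  rw [hneg, map_mul, map_mul, mul_comm (LinearMap.det B)] at h3
  have h4 := mul_ne_zero (hd A hA) (hd B hB)
  rw [← neg_one_pow_eq_one_iff_even h2]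
  exact (mul_eq_right₀ h4).1 h3.symm

theorem sq_card {p : ℕ} (hp : p.Prime) (hp2 : p ≠ 2) (n : ℕ) :
    ∀ (P : Type u) [Group P] [Finite P], Nat.card P = n → IsPGroup p P → ∀ a b : P →* P,
      (∀ x, b (b x) = a (a x)) → (∀ x, a (b (a (b x))) = a (a x)) → (∀ x, a (a (a (a x))) = x) →
      IsSquare (Nat.card {x : P // a (a x) = x⁻¹}) := by
  have : Fact p.Prime := ⟨hp⟩
  induction n using Nat.strong_induction_on with
  | _ n ih =>
  intro P _ _ hn hP a b h1 h2 h3
  by_cases hnt : Nontrivial P
  swap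
  · rw [not_nontrivial_iff_subsingleton] at hnt
    have : Nat.card {x : P // a (a x) = x⁻¹} = 1 :=
      Nat.card_eq_one_iff_unique.2 ⟨inferInstance, ⟨⟨1, by simp⟩⟩⟩
    rw [this]
    exact ⟨1, rfl⟩
  have hb4 : ∀ x, b (b (b (b x))) = x := fun x => by rw [h1, h1, h3]
  have hcen : ∀ c : P →* P, (∀ x, c (c (c (c x))) = x) → ∀ z ∈ center P, c z ∈ center P := by
    intro c hc z hz
    rw [mem_center_iff] at hz ⊢
    intro y
    rw [← hc y, ← map_mul, hz, map_mul]
  let V : Subgroup P :=
    { carrier := {x | x ∈ center P ∧ x ^ p = 1}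
      mul_mem' := fun {x y} hx hy => ⟨mul_mem hx.1 hy.1, by
        rw [Commute.mul_pow (mem_center_iff.1 hy.1 x), hx.2, hy.2, one_mul]⟩
      one_mem' := ⟨one_mem _, one_pow _⟩
      inv_mem' := fun {x} hx => ⟨inv_mem hx.1, by rw [inv_pow, hx.2, inv_one]⟩ }
  have hVn : V.Normal := ⟨fun x hx g => by
    rw [mem_center_iff.1 hx.1 g, mul_inv_cancel_right]; exact hx⟩
  have hV : ∀ c : P →* P, (∀ x, c (c (c (c x))) = x) → V ≤ V.comap c := fun c hc x hx =>
    ⟨hcen c hc x hx.1, by rw [← map_pow, hx.2, map_one]⟩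
  have hVnt : 1 < Nat.card V := by
    have := hP.center_nontrivial
    obtain ⟨z, hz⟩ := exists_prime_orderOf_dvd_card' (G := center P) p (by
      obtain ⟨k, hk, e⟩ := (hP.to_subgroup (center P)).nontrivial_iff_card.1 this
      rw [e]
      exact dvd_pow_self p hk.ne')
    rw [one_lt_card_iff_ne_bot, ne_bot_iff_exists_ne_one]
    refine ⟨⟨z, z.2, ?_⟩, fun e => ?_⟩
    · rw [← hz, ← coe_pow, pow_orderOf_eq_one, coe_one]
    · have e' : z = 1 := Subtype.ext (congrArg (fun y : V => (y : P)) e)
      rw [e', orderOf_one] at hz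
      exact hp.one_lt.ne hz
  let a' := QuotientGroup.map V V a (hV a h3)
  let b' := QuotientGroup.map V V b (hV b hb4)
  have hq := ih (Nat.card (P ⧸ V)) (by
      rw [← hn, card_eq_card_quotient_mul_card_subgroup V]
      exact lt_mul_of_one_lt_right Nat.card_pos hVnt)
    (P ⧸ V) rfl (hP.to_quotient V) a' b'
    (fun x => by
      induction x using QuotientGroup.induction_on with
      | H x => exact congrArg QuotientGroup.mk (h1 x))
    (fun x => by
      induction x using QuotientGroup.induction_on with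
      | H x => exact congrArg QuotientGroup.mk (h2 x))
    (fun x => by
      induction x using QuotientGroup.induction_on with
      | H x => exact congrArg QuotientGroup.mk (h3 x))
  let W : Subgroup P :=
    { carrier := {x | x ∈ V ∧ a (a x) = x⁻¹}
      mul_mem' := fun {x y} hx hy => ⟨mul_mem hx.1 hy.1, by
        rw [map_mul, map_mul, hx.2, hy.2, ← mul_inv_rev, mem_center_iff.1 hx.1.1 y]⟩
      one_mem' := ⟨one_mem _, by simp⟩
      inv_mem' := fun {x} hx => ⟨inv_mem hx.1, by rw [map_inv, map_inv, hx.2]⟩ }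
  have hW : IsSquare (Nat.card W) := by
    let _ : CommGroup W := { mul_comm := fun x y => Subtype.ext (mem_center_iff.1 y.2.1.1 x) }
    have : NeZero p := ⟨hp.ne_zero⟩
    let _ : Module (ZMod p) (Additive W) := AddCommGroup.zmodModule fun x =>
      congrArg Additive.ofMul (Subtype.ext (Additive.toMul x).2.1.2 : Additive.toMul x ^ p = 1)
    have hfin : Module.Finite (ZMod p) (Additive W) := Module.Finite.of_finite
    have ha : ∀ x ∈ W, a x ∈ W := fun x hx => ⟨hV a h3 hx.1, by rw [hx.2, map_inv]⟩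
    have hb : ∀ x ∈ W, b x ∈ W := fun x hx => ⟨hV b hb4 hx.1, by
      rw [← h1, h1 x, hx.2, map_inv]⟩
    let A : Additive W →ₗ[ZMod p] Additive W :=
      (MonoidHom.toAdditive ((a.comp W.subtype).codRestrict W fun x => ha x x.2)).toZModLinearMap p
    let B : Additive W →ₗ[ZMod p] Additive W :=
      (MonoidHom.toAdditive ((b.comp W.subtype).codRestrict W fun x => hb x x.2)).toZModLinearMap p
    have : Fact (2 < p) := ⟨by have := hp.two_le; omega⟩
    obtain ⟨m, hm⟩ := @even_finrank (ZMod p) (Additive W) _ _ _ hfin (ZMod.neg_one_ne_one (n := p)) A B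
      (LinearMap.ext fun x => congrArg Additive.ofMul (Subtype.ext (Additive.toMul x).2.2))
      (LinearMap.ext fun x => congrArg Additive.ofMul
        (Subtype.ext ((h1 _).trans (Additive.toMul x).2.2)))
      (LinearMap.ext fun x => congrArg Additive.ofMul
        (Subtype.ext ((h2 _).trans (Additive.toMul x).2.2)))
    have e := @Module.natCard_eq_pow_finrank (ZMod p) (Additive W) _ _ _ hfin
    rw [hm, pow_add] at e
    exact ⟨_, e⟩
  have hlift : ∀ y : {y : P ⧸ V // a' (a' y) = y⁻¹}, ∃ x : P, a (a x) = x⁻¹ ∧ (x : P ⧸ V) = y := by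
    rintro ⟨y, hy⟩
    induction y using QuotientGroup.induction_on with
    | H x =>
      have hv : x * a (a x) ∈ V := by
        have : ((x⁻¹ : P) : P ⧸ V) = (a (a x) : P) := hy.symm
        simpa using QuotientGroup.eq.1 this
      obtain ⟨v, hvV, e⟩ : ∃ v ∈ V, a (a x) = x⁻¹ * v := ⟨_, hv, by group⟩
      have c1 := mem_center_iff.1 hvV.1
      have e1 : a (a v) = v := by
        have e2 := h3 x
        rw [e, map_mul, map_mul, map_inv, map_inv, e, mul_inv_rev, inv_inv, mul_assoc,
          inv_mul_eq_iff_eq_mul, ← c1] at e2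
        exact mul_left_cancel e2
      obtain ⟨l, hl⟩ := hp.odd_of_ne_two hp2
      have e3 : v ^ l * v ^ l * v = 1 := by rw [← pow_add, ← pow_succ, ← two_mul, ← hl, hvV.2]
      refine ⟨x * v ^ l, ?_, ?_⟩
      · rw [map_mul, map_mul, map_pow, map_pow, e, e1, eq_inv_iff_mul_eq_one]
        have c2 := mem_center_iff.1 (pow_mem hvV.1 l)
        calc x⁻¹ * v * v ^ l * (x * v ^ l) = x⁻¹ * (v * (v ^ l * x)) * v ^ l := by group
          _ = v * v ^ l * v ^ l := by rw [← c2, ← mul_assoc v, ← c1]; group
          _ = 1 := by rw [← e3]; group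
      · exact (QuotientGroup.eq.2 (by simpa using V.inv_mem (V.pow_mem hvV l)))
  choose s hs1 hs2 using hlift
  have hbij : Function.Bijective (fun z : {y : P ⧸ V // a' (a' y) = y⁻¹} × W =>
      (⟨s z.1 * z.2, by
        rw [map_mul, map_mul, hs1, z.2.2.2, ← mul_inv_rev, mem_center_iff.1 z.2.2.1.1]⟩ :
        {x : P // a (a x) = x⁻¹})) := by
    constructor
    · rintro ⟨y, w⟩ ⟨y', w'⟩ e
      have e1 : s y * w = s y' * w' := congrArg Subtype.val e
      have e2 : y = y' := Subtype.ext (by
        rw [← hs2, ← hs2, ← QuotientGroup.mk_mul_of_mem _ w.2.1, e1,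
          QuotientGroup.mk_mul_of_mem _ w'.2.1])
      subst e2
      rw [Subtype.ext (mul_left_cancel e1)]
    · rintro ⟨x, hx⟩
      let y : {y : P ⧸ V // a' (a' y) = y⁻¹} := ⟨x, congrArg QuotientGroup.mk hx⟩
      have h4 : (s y)⁻¹ * x ∈ V := QuotientGroup.eq.1 (hs2 y)
      refine ⟨⟨y, (s y)⁻¹ * x, h4, ?_⟩, Subtype.ext (by simp)⟩
      rw [map_mul, map_mul, map_inv, map_inv, hs1, hx, inv_inv, eq_inv_iff_mul_eq_one,
        mul_assoc, mem_center_iff.1 h4.1]
      group
  rw [← Nat.card_congr (Equiv.ofBijective _ hbij), Nat.card_prod]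
  exact hq.mul hW

end Quat

end Cfsg.Agent.H8.Pyr
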