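import Cfsg.Agent.H38.Higman3
import Cfsg.Agent.H38.QuadF2
import Cfsg.Agent.H8.Tate

/-! Pyramidal groups (S3930), part B: a 2-group with `p` involutions (`p` prime) and a
`p`-automorphism moving them is homocyclic or a Suzuki 2-group. -/

set_option autoImplicit false

namespace Cfsg.Agent.H8.Pyr

open Subgroup MulAction

theorem card_orbit_zpowers {M X : Type*} [Group M] [MulAction M X] [Finite X] (f : M) (x : X) :
    Nat.card (orbit (zpowers f) x) = period f x := by
  classical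
  have := Fintype.ofFinite (orbit (zpowers f) x)
  rw [Nat.card_eq_fintype_card, ← minimalPeriod_eq_card, period_eq_minimalPeriod]

theorem dvd_card_of_period {M X : Type*} [Group M] [MulAction M X] [Finite X] (f : M) {n : ℕ}
    (h : ∀ x : X, n ∣ period f x) : n ∣ Nat.card X := by
  classical
  have := Fintype.ofFinite (orbitRel.Quotient (zpowers f) X)
  rw [Nat.card_congr (selfEquivSigmaOrbits (zpowers f) X), Nat.card_sigma]
  refine Finset.dvd_sum fun ω _ => ?_
  rw [card_orbit_zpowers]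
  exact h _

/-- an invariant subset on which `f ^ p` has no fixed points has order divisible by `p ^ 2` -/
theorem sq_dvd_card {X : Type*} [Finite X] (f : Equiv.Perm X) {p : ℕ} (hp : p.Prime)
    (h2 : f ^ p ^ 2 = 1) (S : Set X) (hS : ∀ x, f x ∈ S ↔ x ∈ S) (h1 : ∀ x ∈ S, (f ^ p) x ≠ x) :
    p ^ 2 ∣ Nat.card S := by
  let g : Equiv.Perm S := f.subtypePerm hS
  refine dvd_card_of_period g fun x => ?_
  have e1 : period g x ∣ p ^ 2 := by
    rw [← pow_smul_eq_iff_period_dvd]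
    apply Subtype.ext
    show ((g ^ p ^ 2) x : X) = x
    rw [Equiv.Perm.subtypePerm_pow, Equiv.Perm.subtypePerm_apply]
    simp [h2]
  obtain ⟨i, hi, e⟩ := (Nat.dvd_prime_pow hp).1 e1
  rw [e]
  refine pow_dvd_pow p ?_
  by_contra hlt
  apply h1 x x.2
  have e2 : period g x ∣ p := by
    rw [e]
    nth_rewrite 2 [← pow_one p]
    exact pow_dvd_pow p (by omega)
  rw [← pow_smul_eq_iff_period_dvd] at e2
  have e3 := congrArg Subtype.val e2
  change ((g ^ p) x : X) = x at e3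
  rwa [Equiv.Perm.subtypePerm_pow, Equiv.Perm.subtypePerm_apply] at e3

variable {T : Type*} [Group T] [Finite T]

theorem period_invol {ξ : MulAut T} {p j : ℕ} (hp : p.Prime) (hj : ξ ^ p ^ j = 1)
    (hc : Nat.card {x : T // x * x = 1} = p + 1) {x : T} (hx : x * x = 1) :
    ξ x = x ∨ (period ξ x = p ∧ ∀ y : T, y ≠ 1 → y * y = 1 → y ∈ orbit (zpowers ξ) x) := by
  by_cases h : ξ x = x
  · exact Or.inl h
  right
  have hx1 : x ≠ 1 := fun e => h (by rw [e, map_one])
  have e1 : period ξ x ∣ p ^ j := by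
    rw [← pow_smul_eq_iff_period_dvd, hj, one_smul]
  obtain ⟨i, -, e⟩ := (Nat.dvd_prime_pow hp).1 e1
  have hsub : orbit (zpowers ξ) x ⊆ {y : T | y * y = 1} \ {1} := by
    rintro _ ⟨g, rfl⟩
    refine ⟨?_, ?_⟩
    · show (g : MulAut T) x * (g : MulAut T) x = 1
      rw [← map_mul, hx, map_one]
    · show ¬ (g : MulAut T) x = 1
      simpa using hx1
  have hcard : ({y : T | y * y = 1} \ {1}).ncard = p := by
    rw [Set.ncard_sdiff_singleton_of_mem (by simp), ← Nat.card_coe_set_eq]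
    show Nat.card {x : T // x * x = 1} - 1 = p
    omega
  have hle := Set.ncard_le_ncard hsub
  rw [← Nat.card_coe_set_eq, card_orbit_zpowers, hcard, e] at hle
  have hi1 : i ≤ 1 := by
    by_contra hlt
    have := Nat.pow_lt_pow_right hp.one_lt (show 1 < i by omega)
    rw [pow_one] at this
    omega
  have hi0 : i ≠ 0 := by
    rintro rfl
    rw [pow_zero, period_eq_one_iff] at e
    exact h e
  have hi : i = 1 := by omega
  rw [hi, pow_one] at e
  refine ⟨e, fun y hy1 hy2 => ?_⟩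
  have := Set.eq_of_subset_of_ncard_le hsub
    (by rw [hcard, ← Nat.card_coe_set_eq, card_orbit_zpowers, e])
  rw [this]
  exact ⟨hy2, hy1⟩

theorem pow_fix {ξ : MulAut T} {p j : ℕ} (hp : p.Prime) (hj : ξ ^ p ^ j = 1)
    (hc : Nat.card {x : T // x * x = 1} = p + 1) {x : T} (hx : x * x = 1) {k : ℕ} (hk : p ∣ k) :
    (ξ ^ k) x = x := by
  show (ξ ^ k) • x = x
  rw [pow_smul_eq_iff_period_dvd]
  rcases period_invol hp hj hc hx with h | h
  · rw [period_eq_one_iff.2 h]; exact one_dvd _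
  · rw [h.1]; exact hk

theorem arith {p a : ℕ} (hp : p.Prime) (hp2 : p ≠ 2) (ha : a ≠ 0) (h1 : p ^ 2 ∣ 2 ^ a - 1)
    (h2 : 2 ^ a ≤ (p + 1) ^ 2) : False := by
  obtain ⟨m, hm⟩ := h1
  have h3 : 3 ≤ p := by have := hp.two_le; omega
  have h4 : 2 ≤ 2 ^ a := Nat.le_self_pow ha 2
  have h5 : m = 1 := by
    rcases m with _ | _ | m
    · omega
    · rfl
    · nlinarith [Nat.sub_add_cancel (show 1 ≤ 2 ^ a by omega), Nat.zero_le (p ^ 2 * m)]
  subst h5
  obtain ⟨r, hr⟩ := hp.odd_of_ne_two hp2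
  obtain ⟨b, rfl⟩ : ∃ b, a = b + 2 := by
    refine ⟨a - 2, ?_⟩
    have : a ≠ 1 := by rintro rfl; simp at hm; nlinarith
    omega
  rw [hr] at hm
  have : (2 * r + 1) ^ 2 * 1 = 4 * (r * r + r) + 1 := by ring
  rw [this, pow_add] at hm
  omega

local notation "cm(" a ", " b ")" => a⁻¹ * b⁻¹ * a * b

/-- the elements of square one, when they are central -/
def omg (hcen : ∀ x y : T, x * x = 1 → Commute x y) : Subgroup T where
  carrier := {x | x * x = 1}
  mul_mem' := fun {a b} ha hb => by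
    have hc := (hcen a b ha).eq
    show a * b * (a * b) = 1
    calc a * b * (a * b) = a * (b * a) * b := by group
      _ = (a * a) * (b * b) := by rw [← hc]; group
      _ = 1 := by rw [ha, hb, one_mul]
  one_mem' := by simp
  inv_mem' := fun {a} ha => by
    show a⁻¹ * a⁻¹ = 1
    rw [← mul_inv_rev, ha, inv_one]

omit [Finite T] in
theorem cm_eq_sq (x y : T) : cm(x, y) = (x⁻¹ * x⁻¹) * ((x * y⁻¹) * (x * y⁻¹)) * (y * y) := by
  group

theorem card_le_cube (hcen : ∀ x y : T, x * x = 1 → Commute x y)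
    (h4 : ∀ x : T, (x * x) * (x * x) = 1) :
    Nat.card T ≤ Nat.card {x : T // x * x = 1} ^ 3 := by
  set Ω := omg hcen with hΩ
  have hom : ∀ x : T, x * x ∈ Ω := h4
  have hcm : ∀ x y : T, cm(x, y) ∈ Ω := fun x y => by
    rw [cm_eq_sq]
    exact Ω.mul_mem (Ω.mul_mem (hom _) (hom _)) (hom _)
  obtain ⟨V, _, _, π, -, h1, h2, h3, -⟩ := H38.exists_section (1 : MulAut T) ⊤ Ω
    (fun _ _ => mem_top _) (fun _ h => h) (fun x _ y _ => hcm x y)
  obtain ⟨W, _, _, ζ, -, z1, z2, z3, -⟩ := H38.exists_section (1 : MulAut T) Ω ⊥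
    (fun _ h => h) (fun _ h => h) (fun x hx y _ => by
      rw [mem_bot, mul_assoc, mul_assoc, (hcen x y hx).eq]; group)
  have hc := H38.card_of_additive le_top h1 h2 h3
  have hc' := H38.card_of_additive bot_le z1 z2 z3
  rw [card_top] at hc
  rw [card_bot, one_mul] at hc'
  simp only [mem_top, true_and, forall_const] at h1 h2 h3
  choose s hs using h3
  have wd : ∀ x y, π x = π y → x * x = y * y := by
    intro x y e
    have h4 : x⁻¹ * y ∈ Ω := by
      rw [← h2, h1, H38.additive_inv (M := ⊤) (fun x _ y _ => h1 x y) (mem_top x), e,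
        neg_add_cancel]
    have h5 := (hcen _ x h4).eq
    calc x * x = x * x * ((x⁻¹ * y) * (x⁻¹ * y)) := by
          rw [show (x⁻¹ * y) * (x⁻¹ * y) = 1 from h4, mul_one]
      _ = x * (x * (x⁻¹ * y)) * (x⁻¹ * y) := by group
      _ = y * y := by rw [← h5]; group
  have hQ : ∀ x, ζ (s (π x) * s (π x)) = ζ (x * x) := fun x => by rw [wd _ x (hs _)]
  have hpol : ∀ x y, ζ (x * y * (x * y)) - ζ (x * x) - ζ (y * y) = ζ (cm(y, x)) := by
    intro x y
    have e : x * y * (x * y) = (x * x) * (y * y) * cm(y, x) := by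
      have h1 := (hcen _ y (hcm y x)).eq
      calc x * y * (x * y) = x * x * y * (cm(y, x) * y) := by group
        _ = _ := by rw [h1]; group
    rw [e, z1 _ (Ω.mul_mem (hom x) (hom y)) _ (hcm y x), z1 _ (hom x) _ (hom y)]
    abel
  have hr : ∀ x y y' : T, cm(x, (y * y')) = cm(x, y) * cm(x, y') := by
    intro x y y'
    have h1 := (hcen _ y' (hcm x y)).eq
    have h2 := (hcen _ (cm(x, y')) (hcm x y)).eq
    calc cm(x, (y * y')) = cm(x, y') * y'⁻¹ * (cm(x, y) * y') := by group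
      _ = cm(x, y') * cm(x, y) := by rw [h1]; group
      _ = _ := h2.symm
  have hle := H38.card_le_sq_of_anisotropic (V := V) (W := W)
    (fun v => by rw [← hs v, two_nsmul, ← h1, h2]; exact hom _)
    (fun c => by
      obtain ⟨x, hx, rfl⟩ := z3 c
      rw [two_nsmul, ← z1 x hx x hx, show x * x = 1 from hx, H38.additive_one z1])
    (fun v => ζ (s v * s v))
    (by rw [← H38.additive_one (M := ⊤) (fun x _ y _ => h1 x y), hQ, one_mul,
      H38.additive_one z1])
    (fun a a' b => by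
      rw [← hs a, ← hs a', ← hs b]
      generalize s a = x
      generalize s a' = x'
      generalize s b = y
      simp only [← h1, hQ]
      rw [hpol, hpol, hpol, hr, z1 _ (hcm _ _) _ (hcm _ _)])
    (fun v hv => by
      rw [← hs v, h2]
      exact mem_bot.1 ((z2 _ (hom _)).mp hv))
  have e : Nat.card {x : T // x * x = 1} = Nat.card Ω := rfl
  rw [e, hc, hc']
  calc Nat.card W * Nat.card V ≤ Nat.card W * Nat.card W ^ 2 := Nat.mul_le_mul_left _ hle
    _ = _ := by ring

omit [Finite T] in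
theorem pow_mem_inv {γ : MulAut T} {A : Subgroup T} (hA : ∀ x ∈ A, γ x ∈ A) (k : ℕ) :
    ∀ x ∈ A, (γ ^ k) x ∈ A := by
  induction k with
  | zero => exact fun x hx => hx
  | succ k ih => intro x hx; rw [pow_succ', MulAut.mul_apply]; exact hA _ (ih x hx)

theorem core (h2 : IsPGroup 2 T) (γ : MulAut T) {p : ℕ} (hp : p.Prime) (hp2 : p ≠ 2)
    (hγ : γ ^ p ^ 2 = 1) (hc : Nat.card {x : T // x * x = 1} = p + 1)
    (hcen : ∀ x y : T, x * x = 1 → Commute x y)
    (hfix : ∀ x : T, x * x = 1 → (γ ^ p) x = x) : γ ^ p = 1 := by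
  classical
  have : Fact (Nat.Prime 2) := ⟨Nat.prime_two⟩
  by_contra hne
  set β := γ ^ p with hβ
  have hβp : β ^ p = 1 := by rw [hβ, ← pow_mul, ← sq, hγ]
  have hβγ : ∀ x, β (γ x) = γ (β x) := fun x => by
    rw [← MulAut.mul_apply, ← MulAut.mul_apply, hβ, ← pow_succ, ← pow_succ']
  obtain ⟨A, ⟨hA, x₀, hx₀, hx₀'⟩, hmin'⟩ := (wellFounded_lt (α := Subgroup T)).has_min
    {A | (∀ x ∈ A, γ x ∈ A) ∧ ∃ x ∈ A, β x ≠ x} ⟨⊤, fun _ _ => mem_top _, by
      by_contra h
      push Not at h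
      exact hne (MulEquiv.ext fun x => h x (mem_top x))⟩
  have hmin : ∀ B : Subgroup T, B ≤ A → (∀ x ∈ B, γ x ∈ B) → B ≠ A → ∀ x ∈ B, β x = x := by
    intro B h1 h2 h3 x hx
    by_contra h
    exact hmin' B ⟨h2, x, hx, h⟩ (lt_of_le_of_ne h1 h3)
  have hAβ : ∀ x ∈ A, β x ∈ A := pow_mem_inv hA p
  have key : ¬ ∀ x ∈ A, β (β x * x⁻¹) = β x * x⁻¹ := by
    intro h
    have h1 := h x₀ hx₀
    set c := β x₀ * x₀⁻¹ with hcdef
    have h3 : ∀ k : ℕ, (β ^ k) x₀ = c ^ k * x₀ := by
      intro k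
      induction k with
      | zero => simp
      | succ k ih =>
        rw [pow_succ', MulAut.mul_apply, ih, map_mul, map_pow, h1, pow_succ, hcdef]
        group
    have h4 := h3 p
    rw [hβp, MulAut.one_apply, right_eq_mul] at h4
    obtain ⟨k, hk⟩ := h2 c
    have h5 : c = 1 := by
      have hcop : Nat.Coprime p (2 ^ k) :=
        ((Nat.coprime_primes hp Nat.prime_two).2 hp2).pow_right k
      have := pow_gcd_eq_one.2 ⟨h4, hk⟩
      rwa [hcop, pow_one] at this
    apply hx₀'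
    rw [hcdef, mul_inv_eq_one] at h5
    exact h5
  -- the subgroup generated by the squares is centralized
  have hsqB : ∀ y ∈ closure {y : T | ∃ x ∈ A, x * x = y}, β y = y := by
    apply hmin
    · rw [closure_le]
      rintro _ ⟨x, hx, rfl⟩
      exact A.mul_mem hx hx
    · intro y hy
      have : closure {y : T | ∃ x ∈ A, x * x = y} ≤
          (closure {y : T | ∃ x ∈ A, x * x = y}).comap γ.toMonoidHom := by
        rw [closure_le]
        rintro _ ⟨x, hx, rfl⟩
        exact subset_closure ⟨γ x, hA x hx, by simp⟩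
      exact this hy
    · intro e
      have h1 : closure {y : T | ∃ x ∈ A, x * x = y} ≤ (frattini A).map A.subtype := by
        rw [closure_le]
        rintro _ ⟨x, hx, rfl⟩
        refine ⟨⟨x, hx⟩ ^ 2, H8.pow_mem_frattini (h2.to_subgroup A) _, by simp [sq]⟩
      rw [e] at h1
      have h3 : frattini A = ⊤ := by
        rw [eq_top_iff]
        intro x _
        obtain ⟨y, hy, e⟩ := h1 x.2
        rwa [← Subtype.ext (a1 := y) (a2 := x) e]
      have h4 : (⊥ : Subgroup A) = ⊤ := frattini_nongenerating (by rw [h3]; simp)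
      have h5 : (⟨x₀, hx₀⟩ : A) ∈ (⊥ : Subgroup A) := by rw [h4]; trivial
      rw [mem_bot] at h5
      apply hx₀'
      rw [show x₀ = 1 from congrArg Subtype.val h5, map_one]
  have hsq : ∀ x ∈ A, β (x * x) = x * x := fun x hx => hsqB _ (subset_closure ⟨x, hx, rfl⟩)
  have hcm : ∀ x ∈ A, ∀ y ∈ A, β (cm(x, y)) = cm(x, y) := fun x hx y hy => by
    rw [cm_eq_sq, map_mul, map_mul, hsq _ (A.inv_mem hx), hsq _ (A.mul_mem hx (A.inv_mem hy)),
      hsq _ hy]
  have hγinv : ∀ x ∈ A, ∃ y ∈ A, γ y = x := fun x hx => by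
    refine ⟨(γ ^ (p ^ 2 - 1)) x, pow_mem_inv hA _ x hx, ?_⟩
    rw [← MulAut.mul_apply, ← pow_succ', Nat.sub_add_cancel (Nat.one_le_pow _ _ hp.pos), hγ,
      MulAut.one_apply]
  have hZ : ∀ x ∈ A, ∀ c ∈ A, β c = c → Commute x c := by
    let Z : Subgroup T :=
      { carrier := {x | x ∈ A ∧ ∀ c ∈ A, β c = c → Commute x c}
        mul_mem' := fun {a b} ha hb => ⟨A.mul_mem ha.1 hb.1, fun c hc h =>
          (ha.2 c hc h).mul_left (hb.2 c hc h)⟩
        one_mem' := ⟨A.one_mem, fun c _ _ => Commute.one_left c⟩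
        inv_mem' := fun {a} ha => ⟨A.inv_mem ha.1, fun c hc h => (ha.2 c hc h).inv_left⟩ }
    by_cases e : Z = A
    · intro x hx
      rw [← e] at hx
      exact hx.2
    exfalso
    apply key
    intro x hx
    apply hmin Z (fun y hy => hy.1) _ e
    · refine ⟨A.mul_mem (hAβ x hx) (A.inv_mem hx), fun c hc h => ?_⟩
      have e1 : x⁻¹ * c * x = c * cm(c, x) := by group
      have e2 : β (x⁻¹ * c * x) = x⁻¹ * c * x := by rw [e1, map_mul, h, hcm c hc x hx]
      rw [map_mul, map_mul, map_inv, h] at e2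
      show β x * x⁻¹ * c = c * (β x * x⁻¹)
      calc β x * x⁻¹ * c = β x * (x⁻¹ * c * x) * x⁻¹ := by group
        _ = _ := by rw [← e2]; group
    · intro y hy
      refine ⟨hA y hy.1, fun c hc h => ?_⟩
      obtain ⟨d, hd, rfl⟩ := hγinv c hc
      rw [hβγ] at h
      exact (hy.2 d hd (γ.injective h)).map γ
  have hcmA : ∀ x ∈ A, ∀ y ∈ A, cm(x, y) ∈ A := fun x hx y hy =>
    A.mul_mem (A.mul_mem (A.mul_mem (A.inv_mem hx) (A.inv_mem hy)) hx) hy
  have hmul : ∀ x ∈ A, ∀ y ∈ A, x * y * (x * y) = (x * x) * (y * y) * cm(y, x) := by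
    intro x hx y hy
    have h1 := (hZ y hy _ (hcmA y hy x hx) (hcm y hy x hx)).eq
    calc x * y * (x * y) = x * x * y * (cm(y, x) * y) := by group
      _ = _ := by rw [← h1]; group
  have hcm2 : ∀ x ∈ A, ∀ y ∈ A, cm(y, x) * cm(y, x) = 1 := by
    intro x hx y hy
    have h1 := (hZ y hy _ (hcmA y hy x hx) (hcm y hy x hx)).eq
    have h3 := (hZ x hx _ (A.mul_mem hy hy) (hsq y hy)).eq
    calc cm(y, x) * cm(y, x) = y⁻¹ * (y * cm(y, x)) * cm(y, x) := by group
      _ = y⁻¹ * y⁻¹ * x⁻¹ * ((y * y) * x) := by rw [h1]; group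
      _ = 1 := by rw [← h3]; group
  have h4 : ∀ x ∈ A, (x * x) * (x * x) = 1 := by
    let Z : Subgroup T :=
      { carrier := {x | x ∈ A ∧ (x * x) * (x * x) = 1}
        mul_mem' := fun {a b} ha hb => ⟨A.mul_mem ha.1 hb.1, by
          have m1 := A.mul_mem ha.1 ha.1
          have m2 := A.mul_mem hb.1 hb.1
          have m3 := hcmA b hb.1 a ha.1
          have c1 := hZ _ m1 _ m2 (hsq b hb.1)
          have c2 := hZ _ (A.mul_mem m1 m2) _ m3 (hcm b hb.1 a ha.1)
          rw [hmul a ha.1 b hb.1, ← sq, c2.mul_pow, c1.mul_pow, sq, sq, sq, ha.2, hb.2,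
            hcm2 a ha.1 b hb.1]
          simp⟩
        one_mem' := ⟨A.one_mem, by simp⟩
        inv_mem' := fun {a} ha => ⟨A.inv_mem ha.1, by
          rw [← mul_inv_rev, ← mul_inv_rev, ha.2, inv_one]⟩ }
    by_cases e : Z = A
    · intro x hx
      rw [← e] at hx
      exact hx.2
    exfalso
    apply key
    intro x hx
    apply hmin Z (fun y hy => hy.1) _ e
    · refine ⟨A.mul_mem (hAβ x hx) (A.inv_mem hx), ?_⟩
      rw [hmul _ (hAβ x hx) _ (A.inv_mem hx), ← map_mul, hsq x hx]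
      have := hcm2 _ (hAβ x hx) _ (A.inv_mem hx)
      rw [← this]
      group
    · intro y hy
      exact ⟨hA y hy.1, by rw [← map_mul, ← map_mul, hy.2, map_one]⟩
  -- counting
  have hle : Nat.card A ≤ Nat.card {x : A // x * x = 1} ^ 3 :=
    card_le_cube (fun x y hx => Subtype.ext (hcen x y (congrArg Subtype.val hx)).eq)
      (fun x => Subtype.ext (h4 x x.2))
  let C : Subgroup A :=
    { carrier := {x | β x = x}
      mul_mem' := fun {a b} ha hb => by
        show β (a * b : A) = (a * b : A)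
        rw [coe_mul, map_mul, ha, hb]
      one_mem' := by simp
      inv_mem' := fun {a} ha => by
        show β (a⁻¹ : A) = (a⁻¹ : A)
        rw [coe_inv, map_inv, ha] }
  have hE1 : Nat.card {x : A // x * x = 1} ≤ Nat.card C :=
    Nat.card_le_card_of_injective
      (fun x => (⟨x.1, hfix x.1 (congrArg Subtype.val x.2)⟩ : C))
      (fun x y e => Subtype.ext (congrArg (fun z : C => z.1) e))
  have hE2 : Nat.card {x : A // x * x = 1} ≤ p + 1 := by
    rw [← hc]
    exact Nat.card_le_card_of_injective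
      (fun x => (⟨x.1, congrArg Subtype.val x.2⟩ : {x : T // x * x = 1}))
      (fun x y e => Subtype.ext (Subtype.ext
        (congrArg (fun z : {x : T // x * x = 1} => z.1) e)))
  obtain ⟨a, ha⟩ := (h2.to_subgroup A).index C
  have hmulC := C.card_mul_index
  have hCpos : 0 < Nat.card C := Nat.card_pos
  have ha0 : a ≠ 0 := by
    rintro rfl
    rw [pow_zero, index_eq_one] at ha
    have : (⟨x₀, hx₀⟩ : A) ∈ C := by rw [ha]; trivial
    exact hx₀' this
  have hb : 2 ^ a ≤ (p + 1) ^ 2 := by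
    rw [← hmulC, ha] at hle
    have : Nat.card {x : A // x * x = 1} ^ 3 ≤ Nat.card C * (p + 1) ^ 2 := by
      rw [pow_succ', ]
      exact Nat.mul_le_mul hE1 (Nat.pow_le_pow_left hE2 2)
    exact Nat.le_of_mul_le_mul_left (hle.trans this) hCpos
  have hdvd := sq_dvd_card (X := T) (MulAut.toPerm T γ) hp (by rw [← map_pow, hγ, map_one])
    {x | x ∈ A ∧ β x ≠ x} (fun x => by
      show (γ x ∈ A ∧ β (γ x) ≠ γ x) ↔ (x ∈ A ∧ β x ≠ x)
      rw [hβγ, Ne, Ne, γ.injective.eq_iff]
      refine and_congr_left fun _ => ⟨fun h => ?_, hA x⟩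
      obtain ⟨y, hy, e⟩ := hγinv _ h
      rwa [← γ.injective e])
    (fun x hx => by rw [← map_pow]; exact hx.2)
  have hcS : Nat.card {x | x ∈ A ∧ β x ≠ x} = Nat.card C * (2 ^ a - 1) := by
    have e1 : Nat.card {x | x ∈ A ∧ β x ≠ x} = Nat.card {x : A // ¬ x ∈ C} :=
      Nat.card_congr ⟨fun x => ⟨⟨x.1, x.2.1⟩, x.2.2⟩, fun x => ⟨x.1.1, x.1.2, x.2⟩,
        fun _ => rfl, fun _ => rfl⟩
    have := Fintype.ofFinite A
    rw [e1, Nat.card_eq_fintype_card, Fintype.card_subtype_compl, ← Nat.card_eq_fintype_card,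
      ← Nat.card_eq_fintype_card, ← hmulC, ha, Nat.mul_sub, mul_one]
  rw [hcS] at hdvd
  obtain ⟨k, hk⟩ := ((h2.to_subgroup A).to_subgroup C).exists_card_eq
  have hcop : Nat.Coprime (p ^ 2) (Nat.card C) := by
    rw [hk]
    exact Nat.Coprime.pow _ _ ((Nat.coprime_primes hp Nat.prime_two).2 hp2)
  exact arith hp hp2 ha0 (hcop.dvd_of_dvd_mul_left hdvd) hb

theorem higSetup (h2 : IsPGroup 2 T) (ξ : MulAut T) {p j : ℕ} (hp : p.Prime) (hp2 : p ≠ 2)
    (hj : ξ ^ p ^ j = 1) (hc : Nat.card {x : T // x * x = 1} = p + 1)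
    (hcen : ∀ x y : T, x * x = 1 → Commute x y) (hnt : ∃ x, x * x = 1 ∧ ξ x ≠ x) :
    ∃ (F : Type) (_ : Field F) (_ : Fintype F) (_ : CharP F 2),
      H38.HigSetup ξ F ∧ Fintype.card F = p + 1 := by
  have hp1 : ξ ^ p = 1 := by
    have : ∀ i, ξ ^ p ^ (i + 1) = 1 → ξ ^ p = 1 := by
      intro i
      induction i with
      | zero => simp
      | succ i ih =>
        intro h
        apply ih
        have := core h2 (ξ ^ p ^ i) hp hp2 (by rw [← pow_mul, ← pow_add, h]) hc hcen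
          (fun x hx => by
            rw [← pow_mul]
            exact pow_fix hp hj hc hx (Dvd.intro_left _ rfl))
        rwa [← pow_mul, ← pow_succ] at this
    apply this j
    rw [pow_succ, pow_mul, hj, one_pow]
  obtain ⟨x₀, hx₀, hx₀'⟩ := hnt
  obtain ⟨h1, h3⟩ := (period_invol hp hj hc hx₀).resolve_left hx₀'
  have hx1 : x₀ ≠ 1 := fun e => hx₀' (by rw [e, map_one])
  have hper : ∀ x : T, x ≠ 1 → x * x = 1 → ξ x ≠ x := by
    intro x hx hx2 e
    obtain ⟨⟨g, k, rfl⟩, rfl⟩ := h3 x hx hx2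
    apply hx₀'
    have e' : ξ ((ξ ^ k) x₀) = (ξ ^ k) x₀ := e
    rw [← MulAut.mul_apply, ← zpow_one_add, add_comm, zpow_add_one, MulAut.mul_apply] at e'
    exact (ξ ^ k).injective e'
  obtain ⟨F, _, _, _, h, hord⟩ := H38.exists_higSetup h2 ξ
    ⟨x₀, ξ x₀, hx₀'.symm, hx1, hx₀, by simpa using hx1, by rw [← map_mul, hx₀, map_one]⟩
    (fun x y hx hx2 hy hy2 => by
      obtain ⟨⟨g, hg⟩, e⟩ :=
        ((period_invol hp hj hc hx2).resolve_left (hper x hx hx2)).2 y hy hy2
      have : Finite (MulAut T) := Finite.of_injective (fun σ : MulAut T => (σ : T → T))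
        DFunLike.coe_injective
      obtain ⟨k, rfl⟩ := mem_powers_iff_mem_zpowers.2 hg
      exact ⟨k, e⟩)
    (fun k x hx hx2 e => by
      have h5 := ((period_invol hp hj hc hx2).resolve_left (hper x hx hx2)).1
      have h6 : period ξ x ∣ k := pow_smul_eq_iff_period_dvd.1 e
      obtain ⟨m, rfl⟩ := h5 ▸ h6
      rw [pow_mul, hp1, one_pow])
  refine ⟨F, inferInstance, inferInstance, inferInstance, h, ?_⟩
  rw [← h.card_omega, ← hc]
  rfl

/-- homocyclic -/
structure Homo (T : Type*) [Group T] (m : ℕ) : Prop where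
  comm : ∀ x y : T, Commute x y
  exp : ∀ a : T, a ^ 2 ^ (m + 1) = 1
  root : ∀ a : T, a * a = 1 → ∃ d : T, d ^ 2 ^ m = a
  ker : ∀ a : T, a ^ 2 ^ m = 1 → ∃ d : T, d * d = a

/-- what is used of Suzuki 2-groups -/
structure Suz (T : Type*) [Group T] (q : ℕ) : Prop where
  nc : ∃ x y : T, ¬ Commute x y
  four : ∀ x : T, (x * x) * (x * x) = 1
  card : Nat.card T = q ^ 2 ∨ Nat.card T = q ^ 3

theorem tstruct (h2 : IsPGroup 2 T) {p : ℕ} (hp : p.Prime) (hp2 : p ≠ 2)
    (hc : Nat.card {x : T // x * x = 1} = p + 1)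
    (hcen : ∀ x y : T, x * x = 1 → Commute x y)
    (htr : ∀ x y : T, x ≠ 1 → x * x = 1 → y ≠ 1 → y * y = 1 → ∃ σ : MulAut T, σ x = y) :
    (∃ m, Homo T m) ∨ Suz T (p + 1) := by
  have : Fact p.Prime := ⟨hp⟩
  have : Finite (MulAut T) := Finite.of_injective (fun σ : MulAut T => (σ : T → T))
    DFunLike.coe_injective
  have hcard : ({y : T | y * y = 1} \ {1}).ncard = p := by
    rw [Set.ncard_sdiff_singleton_of_mem (by simp), ← Nat.card_coe_set_eq]
    show Nat.card {x : T // x * x = 1} - 1 = p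
    omega
  obtain ⟨e, he2, he1⟩ : ({y : T | y * y = 1} \ {1}).Nonempty :=
    Set.nonempty_of_ncard_ne_zero (by rw [hcard]; exact hp.ne_zero)
  have horb : orbit (MulAut T) e = {y : T | y * y = 1} \ {1} := by
    ext y
    constructor
    · rintro ⟨g, rfl⟩
      refine ⟨?_, ?_⟩
      · show g e * g e = 1
        rw [← map_mul, show e * e = 1 from he2, map_one]
      · show ¬ g e = 1
        simpa using he1
    · rintro ⟨h1, h3⟩
      exact htr e y he1 he2 h3 h1
  have hidx : (stabilizer (MulAut T) e).index = p := by rw [index_stabilizer, horb, hcard]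
  obtain ⟨P⟩ : Nonempty (Sylow p (MulAut T)) := inferInstance
  have hnle : ¬ (P : Subgroup (MulAut T)) ≤ stabilizer (MulAut T) e := fun h => by
    have h1 := index_dvd_of_le h
    rw [hidx] at h1
    exact P.not_dvd_index h1
  obtain ⟨ξ, hξ, hξ'⟩ := SetLike.not_le_iff_exists.1 hnle
  obtain ⟨j, hj⟩ := P.isPGroup' ⟨ξ, hξ⟩
  obtain ⟨F, _, _, _, h, hF⟩ := higSetup h2 ξ hp hp2 (congrArg Subtype.val hj) hc hcen
    ⟨e, he2, hξ'⟩
  by_cases hab : ∃ x y : T, ¬ Commute x y
  · exact Or.inr ⟨hab, h.exp_four hab, hF ▸ h.card_eq hab⟩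
  left
  push Not at hab
  obtain ⟨m, h1, b, -, hb⟩ := h.exists_exponent (A := ⊤) (mem_top e) he1
  refine ⟨m, hab, fun a => h1 a (mem_top a), fun a ha => ?_, fun a ha => ?_⟩
  · obtain ⟨d, -, hd⟩ := h.exists_root (A := ⊤) (fun a _ b _ => hab a b) (fun _ _ => mem_top _)
      (mem_top b) hb (i := m) (j := 1) le_rfl (mem_top a) (by rw [pow_one, sq, ha])
    exact ⟨d, hd⟩
  · obtain ⟨d, -, hd⟩ := h.exists_root (A := ⊤) (fun a _ b _ => hab a b) (fun _ _ => mem_top _)
      (mem_top b) hb (i := 1) (j := m) (by omega) (mem_top a) ha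
    exact ⟨d, by rw [← hd, pow_one, sq]⟩

end Cfsg.Agent.H8.Pyr
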