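import Cfsg.Agent.H8.PyrB
import Cfsg.Agent.H8.SylowIn

/-! Pyramidal groups (S3930), part C: the homocyclic case of the exclusion of `GL₃(2)`. -/

set_option autoImplicit false

namespace Cfsg.Agent.H8.Pyr

open Subgroup

/-- the vector space of order eight -/
abbrev V := ZMod 2 × ZMod 2 × ZMod 2

/-- coordinates on the elements of square one -/
structure Coord {T : Type*} [Group T] (ε : V → T) : Prop where
  add : ∀ u v, ε (u + v) = ε u * ε v
  inj : Function.Injective ε
  surj : ∀ x : T, x * x = 1 → ∃ v, ε v = x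

namespace Coord

variable {T : Type*} [Group T] {ε : V → T}

theorem zero (h : Coord ε) : ε 0 = 1 := by
  have := h.add 0 0
  rw [add_zero] at this
  exact left_eq_mul.1 this

theorem sq (h : Coord ε) (v : V) : ε v * ε v = 1 := by
  rw [← h.add, show v + v = 0 by revert v; decide, h.zero]

theorem ne_one (h : Coord ε) {v : V} (hv : v ≠ 0) : ε v ≠ 1 := fun e =>
  hv (h.inj (e.trans h.zero.symm))

theorem card (h : Coord ε) : Nat.card {x : T // x * x = 1} = 7 + 1 := by
  rw [← Nat.card_congr (Equiv.ofBijective (fun v : V => (⟨ε v, h.sq v⟩ : {x : T // x * x = 1}))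
    ⟨fun u v e => h.inj (congrArg Subtype.val e), fun x => by
      obtain ⟨v, hv⟩ := h.surj x.1 x.2
      exact ⟨v, Subtype.ext hv⟩⟩)]
  simp

end Coord

def tau (v : V) : V := (v.1 + v.2.2, v.2.1, v.2.2)
def tau1 (v : V) : V := (v.1 + v.2.1, v.2.1, v.2.2)
def tau2 (v : V) : V := (v.1, v.2.1 + v.2.2, v.2.2)
def rho (v : V) : V := (v.1 + v.2.1 + v.2.2, v.2.1 + v.2.2, v.2.2)
def th1 (v : V) : V := (v.1, v.2.2, v.2.1 + v.2.2)
def th2 (v : V) : V := (v.2.1, v.1 + v.2.1, v.2.2)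

/-- an additive bijection, as a function -/
def IsAut (f : V → V) : Prop := (∀ u v, f (u + v) = f u + f v) ∧ Function.Injective f

instance (f : V → V) : Decidable (IsAut f) := by unfold IsAut Function.Injective; infer_instance

theorem aut_tau1 : IsAut tau1 := by decide
theorem aut_tau2 : IsAut tau2 := by decide
theorem aut_rho : IsAut rho := by decide
theorem aut_th1 : IsAut th1 := by decide
theorem aut_th2 : IsAut th2 := by decide

theorem check1 (ψ : V → V) (h0 : ∀ u v, ψ (u + v) = ψ u + ψ v) (h1 : ∀ v, ψ (tau v) = ψ v)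
    (h2 : ∀ v, tau (ψ v) = ψ v) (h3 : ∀ v, tau1 (ψ v) = ψ v) (h4 : ∀ v, ψ (th1 v) = th1 (ψ v)) :
    ψ (1, 0, 0) = 0 ∧ ψ (0, 1, 0) = 0 ∧ ψ (0, 0, 1) = 0 := by
  have a1 : ψ ((1, 0, 0) + (0, 0, 1)) = ψ (0, 0, 1) := h1 (0, 0, 1)
  have a2 : ψ (0, 0, 1) = th1 (ψ (0, 1, 0)) := h4 (0, 1, 0)
  have a3 : ψ ((0, 1, 0) + (0, 0, 1)) = th1 (ψ (0, 0, 1)) := h4 (0, 0, 1)
  have a4 := h2 (0, 1, 0)
  have a5 := h3 (0, 1, 0)
  rw [h0] at a1 a3
  generalize ψ (1, 0, 0) = a at *
  generalize ψ (0, 1, 0) = b at *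
  generalize ψ (0, 0, 1) = c at *
  subst a2
  clear h0 h1 h2 h3 h4
  revert a b
  decide

theorem check2 (ψ : V → V) (h0 : ∀ u v, ψ (u + v) = ψ u + ψ v) (h1 : ∀ v, ψ (tau v) = ψ v)
    (h1' : ∀ v, ψ (tau2 v) = ψ v) (h2 : ∀ v, tau (ψ v) = ψ v)
    (h4 : ∀ v, ψ (th2 v) = th2 (ψ v)) :
    ψ (1, 0, 0) = 0 ∧ ψ (0, 1, 0) = 0 ∧ ψ (0, 0, 1) = 0 := by
  have a1 : ψ ((1, 0, 0) + (0, 0, 1)) = ψ (0, 0, 1) := h1 (0, 0, 1)
  have a2 : ψ ((0, 1, 0) + (0, 0, 1)) = ψ (0, 0, 1) := h1' (0, 0, 1)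
  have a3 : ψ (0, 0, 1) = th2 (ψ (0, 0, 1)) := h4 (0, 0, 1)
  have a4 := h2 (0, 0, 1)
  rw [h0] at a1 a2
  refine ⟨by simpa using a1, by simpa using a2, ?_⟩
  generalize ψ (0, 0, 1) = c at *
  clear h0 h1 h1' h2 h4 a1 a2
  revert c
  decide

theorem zero_of_basis (ψ : V → V) (h0 : ∀ u v, ψ (u + v) = ψ u + ψ v)
    (h : ψ (1, 0, 0) = 0 ∧ ψ (0, 1, 0) = 0 ∧ ψ (0, 0, 1) = 0) (v : V) : ψ v = 0 := by
  obtain ⟨h1, h2, h3⟩ := h
  have hz : ψ 0 = 0 := by simpa using h0 0 0
  have : ∀ v : V, v = 0 ∨ v = (1, 0, 0) ∨ v = (0, 1, 0) ∨ v = (0, 0, 1) ∨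
      v = (1, 0, 0) + (0, 1, 0) ∨ v = (1, 0, 0) + (0, 0, 1) ∨ v = (0, 1, 0) + (0, 0, 1) ∨
      v = (1, 0, 0) + (0, 1, 0) + (0, 0, 1) := by decide
  rcases this v with rfl | rfl | rfl | rfl | rfl | rfl | rfl | rfl <;>
    simp only [h0, h1, h2, h3, hz, add_zero]

section Ab

variable {T : Type*} [CommGroup T] {ε : V → T} {m : ℕ}

theorem norm_triv (hε : Coord ε) (hm : Homo T m) (φ : T →* T)
    (P : (V → V) → Prop) (hP : ∀ ψ : V → V, (∀ u v, ψ (u + v) = ψ u + ψ v) → P ψ → ∀ v, ψ v = 0)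
    (hφ : ∀ (j : ℕ) (ψ : V → V), (∀ v, ∃ d : T, d ^ 2 ^ m = ε v) →
      (∀ (x : T) (v : V), x ^ 2 ^ m = ε v → ε (ψ v) = φ x ^ 2 ^ j) → P ψ) (x : T) : φ x = 1 := by
  have hroot : ∀ v, ∃ d : T, d ^ 2 ^ m = ε v := fun v => hm.root _ (hε.sq v)
  have step : ∀ j, (∀ x, φ x ^ 2 ^ (j + 1) = 1) → ∀ x, φ x ^ 2 ^ j = 1 := by
    intro j hj
    choose d hd using hroot
    have h1 : ∀ v, ∃ w, ε w = φ (d v) ^ 2 ^ j := fun v =>
      hε.surj _ (by rw [← H38.pow_two_pow_succ, hj])
    choose ψ hψ using h1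
    have key : ∀ (x : T) (v : V), x ^ 2 ^ m = ε v → ε (ψ v) = φ x ^ 2 ^ j := by
      intro x v hx
      obtain ⟨y, hy⟩ := hm.ker (x * (d v)⁻¹) (by rw [mul_pow, inv_pow, hx, hd, mul_inv_cancel])
      have : x = y * y * d v := by rw [hy]; group
      rw [this, hψ, map_mul, mul_pow, map_mul, ← H38.pow_two_pow_succ', hj, one_mul]
    have hadd : ∀ u v, ψ (u + v) = ψ u + ψ v := by
      intro u v
      apply hε.inj
      rw [key (d u * d v) (u + v) (by rw [mul_pow, hd, hd, hε.add]), hε.add, hψ, hψ, map_mul,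
        mul_pow]
    have h0 := hP ψ hadd (hφ j ψ (fun v => ⟨d v, hd v⟩) key)
    intro x
    obtain ⟨v, hv⟩ := hε.surj (x ^ 2 ^ m) (by rw [← H38.pow_two_pow_succ, hm.exp])
    rw [← key x v hv.symm, h0, hε.zero]
  have : ∀ j, (∀ x, φ x ^ 2 ^ j = 1) → ∀ x, φ x = 1 := by
    intro j
    induction j with
    | zero => simp
    | succ j ih => exact fun h => ih (step j h)
  exact this (m + 1) (fun x => hm.exp _) x

theorem inv_right (hε : Coord ε) {φ : T →* T} {j : ℕ} {ψ : V → V}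
    (hroot : ∀ v, ∃ d : T, d ^ 2 ^ m = ε v)
    (key : ∀ (x : T) (v : V), x ^ 2 ^ m = ε v → ε (ψ v) = φ x ^ 2 ^ j) {a : MulAut T} {α : V → V}
    (ha : ∀ v, a (ε v) = ε (α v)) (h : ∀ x, φ (a x) = φ x) (v : V) : ψ (α v) = ψ v := by
  obtain ⟨d, hd⟩ := hroot v
  apply hε.inj
  rw [key d v hd, key (a d) (α v) (by rw [← map_pow, hd, ha]), h]

theorem inv_left (hε : Coord ε) {φ : T →* T} {j : ℕ} {ψ : V → V}
    (hroot : ∀ v, ∃ d : T, d ^ 2 ^ m = ε v)
    (key : ∀ (x : T) (v : V), x ^ 2 ^ m = ε v → ε (ψ v) = φ x ^ 2 ^ j) {a : MulAut T} {α : V → V}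
    (ha : ∀ v, a (ε v) = ε (α v)) (h : ∀ x, a (φ x) = φ x) (v : V) : α (ψ v) = ψ v := by
  obtain ⟨d, hd⟩ := hroot v
  apply hε.inj
  rw [← ha, key d v hd, map_pow, h]

theorem equivar (hε : Coord ε) {φ : T →* T} {j : ℕ} {ψ : V → V}
    (hroot : ∀ v, ∃ d : T, d ^ 2 ^ m = ε v)
    (key : ∀ (x : T) (v : V), x ^ 2 ^ m = ε v → ε (ψ v) = φ x ^ 2 ^ j) {a : MulAut T} {α : V → V}
    (ha : ∀ v, a (ε v) = ε (α v)) (h : ∀ x, φ (a x) = a (φ x)) (v : V) : ψ (α v) = α (ψ v) := by
  obtain ⟨d, hd⟩ := hroot v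
  apply hε.inj
  rw [← ha, key d v hd, key (a d) (α v) (by rw [← map_pow, hd, ha]), h, map_pow]

/-- the norm of a four-group -/
def nrm (t a : MulAut T) : T →* T where
  toFun x := (x * t x) * a (x * t x)
  map_one' := by simp
  map_mul' x y := by simp only [map_mul]; ac_rfl

theorem nrm_apply (t a : MulAut T) (x : T) : nrm t a x = x * t x * (a x * a (t x)) := by
  rw [← map_mul a]; rfl

theorem ab_lemma (hε : Coord ε) (hm : Homo T m) (K : Subgroup (MulAut T))
    (huniq : ∀ k ∈ K, (∀ v, k (ε v) = ε v) → k = 1)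
    (hfull : ∀ f : V → V, IsAut f → ∃ k ∈ K, ∀ v, k (ε v) = ε (f v))
    {r : MulAut T} (hrK : r ∈ K) (hr : ∀ v, r (ε v) = ε (rho v)) {a : T} (ha : r a = a) :
    ∃ x, x * r (r x) = a := by
  have huniq' : ∀ k ∈ K, ∀ k' ∈ K, (∀ v, k (ε v) = k' (ε v)) → ∀ x, k x = k' x := by
    intro k hk k' hk' h x
    have := huniq (k'⁻¹ * k) (K.mul_mem (K.inv_mem hk') hk) fun v => by
      rw [MulAut.mul_apply, h, MulAut.inv_apply_self]
    rw [inv_mul_eq_one] at this
    rw [this]
  obtain ⟨a1, k1, ha1⟩ := hfull tau1 aut_tau1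
  obtain ⟨a2, k2, ha2⟩ := hfull tau2 aut_tau2
  obtain ⟨c1, l1, hc1⟩ := hfull th1 aut_th1
  obtain ⟨c2, l2, hc2⟩ := hfull th2 aut_th2
  obtain ⟨t, htdef⟩ : ∃ t, t = r * r := ⟨_, rfl⟩
  have kt : t ∈ K := htdef ▸ K.mul_mem hrK hrK
  have ht : ∀ v, t (ε v) = ε (tau v) := fun v => by
    rw [htdef, MulAut.mul_apply, hr, hr]
    congr 1
    revert v; decide
  have tt : ∀ x, t (t x) = x := huniq' (t * t) (K.mul_mem kt kt) 1 K.one_mem fun v => by
    simp only [MulAut.mul_apply, MulAut.one_apply, ht]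
    congr 1; revert v; decide
  have aa1 : ∀ x, a1 (a1 x) = x := huniq' (a1 * a1) (K.mul_mem k1 k1) 1 K.one_mem fun v => by
    simp only [MulAut.mul_apply, MulAut.one_apply, ha1]
    congr 1; revert v; decide
  have aa2 : ∀ x, a2 (a2 x) = x := huniq' (a2 * a2) (K.mul_mem k2 k2) 1 K.one_mem fun v => by
    simp only [MulAut.mul_apply, MulAut.one_apply, ha2]
    congr 1; revert v; decide
  have ta1 : ∀ x, t (a1 x) = a1 (t x) :=
    huniq' (t * a1) (K.mul_mem kt k1) (a1 * t) (K.mul_mem k1 kt) fun v => by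
      simp only [MulAut.mul_apply, ha1, ht]
      congr 1; revert v; decide
  have ta2 : ∀ x, t (a2 x) = a2 (t x) :=
    huniq' (t * a2) (K.mul_mem kt k2) (a2 * t) (K.mul_mem k2 kt) fun v => by
      simp only [MulAut.mul_apply, ha2, ht]
      congr 1
  have tc1 : ∀ x, t (c1 x) = c1 (a1 (t x)) :=
    huniq' (t * c1) (K.mul_mem kt l1) (c1 * (a1 * t)) (K.mul_mem l1 (K.mul_mem k1 kt)) fun v => by
      simp only [MulAut.mul_apply, ha1, ht, hc1]
      congr 1; revert v; decide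
  have ac1 : ∀ x, a1 (c1 x) = c1 (t x) :=
    huniq' (a1 * c1) (K.mul_mem k1 l1) (c1 * t) (K.mul_mem l1 kt) fun v => by
      simp only [MulAut.mul_apply, ha1, ht, hc1]
      congr 1
  have tc2 : ∀ x, t (c2 x) = c2 (a2 (t x)) :=
    huniq' (t * c2) (K.mul_mem kt l2) (c2 * (a2 * t)) (K.mul_mem l2 (K.mul_mem k2 kt)) fun v => by
      simp only [MulAut.mul_apply, ha2, ht, hc2]
      congr 1; revert v; decide
  have ac2 : ∀ x, a2 (c2 x) = c2 (t x) :=
    huniq' (a2 * c2) (K.mul_mem k2 l2) (c2 * t) (K.mul_mem l2 kt) fun v => by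
      simp only [MulAut.mul_apply, ha2, ht, hc2]
      congr 1; revert v; decide
  have ra : ∀ x, r x = a1 (a2 x) := huniq' r hrK (a1 * a2) (K.mul_mem k1 k2) fun v => by
    simp only [MulAut.mul_apply, ha1, ha2, hr]
    congr 1; revert v; decide
  have n1 : ∀ x, nrm t a1 x = 1 := norm_triv hε hm (nrm t a1)
    (fun ψ => (∀ v, ψ (tau v) = ψ v) ∧ (∀ v, tau (ψ v) = ψ v) ∧ (∀ v, tau1 (ψ v) = ψ v) ∧
      ∀ v, ψ (th1 v) = th1 (ψ v))
    (fun ψ h0 h => zero_of_basis ψ h0 (check1 ψ h0 h.1 h.2.1 h.2.2.1 h.2.2.2))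
    (fun j ψ hroot key => ⟨inv_right hε hroot key ht fun x => by
        simp only [nrm_apply, tt]; ac_rfl,
      inv_left hε hroot key ht fun x => by simp only [nrm_apply, map_mul, tt, ta1]; ac_rfl,
      inv_left hε hroot key ha1 fun x => by simp only [nrm_apply, map_mul, aa1]; ac_rfl,
      equivar hε hroot key hc1 fun x => by
        simp only [nrm_apply, map_mul, tc1, ac1, ta1, tt]; ac_rfl⟩)
  have n2 : ∀ x, nrm t a2 x = 1 := norm_triv hε hm (nrm t a2)
    (fun ψ => (∀ v, ψ (tau v) = ψ v) ∧ (∀ v, ψ (tau2 v) = ψ v) ∧ (∀ v, tau (ψ v) = ψ v) ∧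
      ∀ v, ψ (th2 v) = th2 (ψ v))
    (fun ψ h0 h => zero_of_basis ψ h0 (check2 ψ h0 h.1 h.2.1 h.2.2.1 h.2.2.2))
    (fun j ψ hroot key => ⟨inv_right hε hroot key ht fun x => by
        simp only [nrm_apply, tt]; ac_rfl,
      inv_right hε hroot key ha2 fun x => by simp only [nrm_apply, ta2, aa2]; ac_rfl,
      inv_left hε hroot key ht fun x => by simp only [nrm_apply, map_mul, tt, ta2]; ac_rfl,
      equivar hε hroot key hc2 fun x => by
        simp only [nrm_apply, map_mul, tc2, ac2, ta2, tt]; ac_rfl⟩)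
  obtain ⟨x₀, hx₀⟩ := hm.root _ (hε.sq (0, 0, 1))
  obtain ⟨y, hy⟩ : ∃ y, y = x₀ * t x₀ := ⟨_, rfl⟩
  have y1 : a1 y = y⁻¹ := by
    have : y * a1 y = 1 := by rw [hy]; exact n1 x₀
    exact eq_inv_of_mul_eq_one_right this
  have y2 : a2 y = y⁻¹ := by
    have : y * a2 y = 1 := by rw [hy]; exact n2 x₀
    exact eq_inv_of_mul_eq_one_right this
  have ry : r y = y := by rw [ra, y2, map_inv, y1, inv_inv]
  have ym : y ^ 2 ^ m = ε (1, 0, 0) := by
    rw [hy, mul_pow, ← map_pow, hx₀, ht, ← hε.add]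
    congr 1
  have main : ∀ (j : ℕ) (a : T), r a = a → a ^ 2 ^ j = 1 → ∃ k : ℕ, a = y ^ k := by
    intro j
    induction j with
    | zero => intro a _ h; exact ⟨0, by simpa using h⟩
    | succ j ih =>
      intro a ha h
      obtain ⟨k, hk⟩ := ih (a * a) (by rw [map_mul, ha]) (by rw [← H38.pow_two_pow_succ', h])
      have e1 : ε (1, 0, 0) ^ k = 1 := by
        rw [← ym, ← pow_mul, mul_comm, pow_mul, ← hk, ← H38.pow_two_pow_succ', hm.exp]
      obtain ⟨l, rfl⟩ : Even k := by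
        rcases Nat.even_or_odd k with h | ⟨l, rfl⟩
        · exact h
        · rw [pow_succ, pow_mul, _root_.sq, hε.sq, one_pow, one_mul] at e1
          exact absurd e1 (hε.ne_one (by decide))
      obtain ⟨v, hv⟩ := hε.surj (a * (y ^ l)⁻¹) (by
        rw [mul_mul_mul_comm, hk, pow_add]; group)
      have e2 : rho v = v := by
        apply hε.inj
        rw [← hr, hv, map_mul, map_inv, map_pow, ha, ry]
      have e3 : v = 0 ∨ v = (1, 0, 0) := by revert e2; generalize v = w; revert w; decide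
      have e4 : a = ε v * y ^ l := by rw [hv]; group
      rcases e3 with rfl | rfl
      · exact ⟨l, by rw [e4, hε.zero, one_mul]⟩
      · exact ⟨2 ^ m + l, by rw [e4, ← ym, pow_add]⟩
  obtain ⟨k, hk⟩ := main (m + 1) a ha (hm.exp a)
  refine ⟨x₀ ^ k, ?_⟩
  rw [hk, hy, mul_pow, ← map_pow, htdef, MulAut.mul_apply]

end Ab

section Suz

variable {T : Type*} [Group T] [Finite T] {ε : V → T}

local notation "cm(" a ", " b ")" => a⁻¹ * b⁻¹ * a * b

/-- the sign character of the third coordinate -/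
def sg (v : V) : ℤ := if v.2.2 = 0 then 1 else -1

theorem sg_add : ∀ u v : V, sg (u + v) = sg u * sg v := by decide

theorem sum_fib {X : Type*} [Fintype X] (s : X → V) (f : ℕ)
    (h0 : (Finset.univ.filter fun x => s x = 0).card = 8)
    (h1 : ∀ v, v ≠ 0 → (Finset.univ.filter fun x => s x = v).card = f) (F : V → ℤ) :
    ∑ x, F (s x) = 8 * F 0 + f * ∑ v ∈ Finset.univ.erase 0, F v := by
  rw [← Finset.sum_fiberwise Finset.univ s, ← Finset.add_sum_erase _ _ (Finset.mem_univ (0 : V)),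
    Finset.mul_sum]
  have : ∀ v, ∑ x with s x = v, F (s x) = (Finset.univ.filter fun x => s x = v).card * F v := by
    intro v
    rw [Finset.sum_congr rfl (g := fun _ => F v) (fun x hx => by rw [(Finset.mem_filter.1 hx).2]),
      Finset.sum_const, nsmul_eq_mul]
  rw [this, h0]
  congr 1
  exact Finset.sum_congr rfl fun v hv => by rw [this, h1 v (Finset.ne_of_mem_erase hv)]

theorem card_dvd_of_mul_mem {G : Type*} [Group G] (Z : Subgroup G) (S : Set G)
    (h : ∀ x ∈ S, ∀ z ∈ Z, x * z ∈ S) : Nat.card Z ∣ Nat.card S := by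
  have : S = QuotientGroup.mk ⁻¹' ((QuotientGroup.mk : G → G ⧸ Z) '' S) := by
    ext x
    refine ⟨fun hx => ⟨x, hx, rfl⟩, ?_⟩
    rintro ⟨y, hy, e⟩
    have := h y hy _ (QuotientGroup.eq.1 e)
    rwa [mul_inv_cancel_left] at this
  rw [this, QuotientGroup.card_preimage_mk]
  exact Dvd.intro _ rfl

theorem suz_lemma (h2 : IsPGroup 2 T) (hε : Coord ε) (hcen : ∀ x y : T, x * x = 1 → Commute x y)
    (hS : Suz T 8)
    (htr : ∀ u v : V, u ≠ 0 → v ≠ 0 → ∃ σ : MulAut T, σ (ε u) = ε v)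
    {g : MulAut T} (hg : ∀ v, g (ε v) = ε (tau v)) {u : T} (hu : ∀ x, g (g x) = u * x * u⁻¹) :
    False := by
  classical
  have := Fintype.ofFinite T
  set Ω := omg hcen with hΩ
  have hom : ∀ x : T, x * x ∈ Ω := hS.four
  have hcm : ∀ x y : T, cm(x, y) ∈ Ω := fun x y => by
    rw [cm_eq_sq]
    exact Ω.mul_mem (Ω.mul_mem (hom _) (hom _)) (hom _)
  have cΩ : Nat.card Ω = 8 := hε.card
  choose s hs using fun x : T => hε.surj _ (hS.four x)
  choose b hb using fun x y : T => hε.surj _ (hcm y x)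
  have hsb : ∀ x y, s (x * y) = s x + s y + b x y := by
    intro x y
    apply hε.inj
    rw [hε.add, hε.add, hs, hs, hs, hb]
    have h1 := (hcen _ y (hcm y x)).eq
    calc x * y * (x * y) = x * x * y * (cm(y, x) * y) := by group
      _ = _ := by rw [h1]; group
  have hbr : ∀ x y y', b x (y * y') = b x y + b x y' := by
    intro x y y'
    apply hε.inj
    rw [hε.add, hb, hb, hb]
    have h1 := (hcen _ y' (hcm y x)).eq
    calc cm((y * y'), x) = y'⁻¹ * (cm(y, x) * y') * cm(y', x) := by group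
      _ = _ := by rw [h1]; group
  have hbl : ∀ x x' y, b (x * x') y = b x y + b x' y := by
    intro x x' y
    apply hε.inj
    rw [hε.add, hb, hb, hb]
    have h1 := (hcen _ x' (hcm y x)).eq
    have h2 := (hcen _ (cm(y, x')) (hcm y x)).eq
    calc cm(y, (x * x')) = cm(y, x') * x'⁻¹ * (cm(y, x) * x') := by group
      _ = cm(y, x') * cm(y, x) := by rw [h1]; group
      _ = _ := h2.symm
  have hsΩ : ∀ x, ∀ e ∈ Ω, (x * e) * (x * e) = x * x := fun x e he => by
    have h1 := (hcen e x he).eq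
    calc x * e * (x * e) = x * (e * x) * e := by group
      _ = x * x * (e * e) := by rw [h1]; group
      _ = _ := by rw [show e * e = 1 from he, mul_one]
  -- the fibres of the squaring map
  have f0 : (Finset.univ.filter fun x => s x = 0).card = 8 := by
    rw [← cΩ, Nat.card_eq_fintype_card, Fintype.card_subtype]
    congr 1
    ext x
    simp only [Finset.mem_filter, Finset.mem_univ, true_and]
    exact ⟨fun h => by show x * x = 1; rw [← hs, h, hε.zero],
      fun h => hε.inj (by rw [hs, hε.zero]; exact h)⟩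
  obtain ⟨f, hf⟩ : ∃ f, f = (Finset.univ.filter fun x => s x = (1, 0, 0)).card := ⟨_, rfl⟩
  have f1 : ∀ v, v ≠ 0 → (Finset.univ.filter fun x => s x = v).card = f := by
    intro v hv
    obtain ⟨σ, hσ⟩ := htr v (1, 0, 0) hv (by decide)
    rw [hf]
    refine Finset.card_equiv σ.toEquiv fun x => ?_
    simp only [Finset.mem_filter, Finset.mem_univ, true_and]
    rw [← hε.inj.eq_iff, ← hε.inj.eq_iff, hs, hs, ← hσ]
    show _ ↔ σ x * σ x = _
    rw [← map_mul, σ.injective.eq_iff]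
  have hsum := sum_fib s f f0 f1
  have c1 := hsum fun _ => 1
  have c2 := hsum sg
  have c3 := hsum fun v => if v.2.2 = 0 then 1 else 0
  rw [show ∑ v ∈ Finset.univ.erase (0 : V), (1 : ℤ) = 7 by decide, Finset.sum_const,
    Finset.card_univ, ← Nat.card_eq_fintype_card] at c1
  rw [show ∑ v ∈ Finset.univ.erase (0 : V), sg v = -1 by decide, show sg 0 = 1 by decide] at c2
  rw [show ∑ v ∈ Finset.univ.erase (0 : V), (if v.2.2 = 0 then (1 : ℤ) else 0) = 3 by decide,
    Finset.sum_boole] at c3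
  -- the preimage of the fixed space of `g`
  have gΩ : ∀ x ∈ Ω, g x ∈ Ω := fun x hx => by
    show g x * g x = 1
    rw [← map_mul, show x * x = 1 from hx, map_one]
  let Z : Subgroup T :=
    { carrier := {x | x⁻¹ * g x ∈ Ω}
      mul_mem' := fun {x y} hx hy => by
        have e : (x * y)⁻¹ * g (x * y) = y⁻¹ * ((x⁻¹ * g x) * g y) := by rw [map_mul]; group
        show (x * y)⁻¹ * g (x * y) ∈ Ω
        rw [e, (hcen _ (g y) hx).eq, ← mul_assoc]
        exact Ω.mul_mem hy hx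
      one_mem' := by simp
      inv_mem' := fun {x} hx => by
        have e : x⁻¹⁻¹ * g x⁻¹ = x * ((x⁻¹ * g x)⁻¹ * x⁻¹) := by rw [map_inv]; group
        show x⁻¹⁻¹ * g x⁻¹ ∈ Ω
        rw [e, (hcen _ x⁻¹ (Ω.inv_mem hx)).eq, mul_inv_cancel_left]
        exact Ω.inv_mem hx }
  have hgs : ∀ x, s (g x) = tau (s x) := fun x => hε.inj (by rw [← hg, hs, hs, map_mul])
  have hZs : ∀ z ∈ Z, (s z).2.2 = 0 := fun z hz => by
    have e1 : s (g z) = s z := hε.inj (by
      rw [hs, hs, ← hsΩ z _ hz, mul_inv_cancel_left])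
    rw [hgs] at e1
    revert e1
    generalize s z = w
    revert w
    decide
  rcases hS.card with hT | hT
  · -- order 64
    have hf8 : f = 8 := by rw [hT] at c1; simp at c1; omega
    have hZ : ∀ x, x ∈ Z ↔ (s x).2.2 = 0 := fun x => ⟨hZs x, fun h => by
      have e1 : s (g x) = s x := by
        rw [hgs]
        revert h
        generalize s x = w
        revert w
        decide
      have e2 : (Finset.univ.filter fun y => s y = s x).card = 8 := by
        by_cases h0 : s x = 0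
        · rw [h0, f0]
        · rw [f1 _ h0, hf8]
      have e3 : (Finset.univ.filter fun y => x⁻¹ * y ∈ Ω) ⊆
          Finset.univ.filter fun y => s y = s x := fun y hy => by
        simp only [Finset.mem_filter, Finset.mem_univ, true_and] at hy ⊢
        apply hε.inj
        rw [hs, hs, ← hsΩ x _ hy, mul_inv_cancel_left]
      have e4 : (Finset.univ.filter fun y => x⁻¹ * y ∈ Ω).card = 8 := by
        rw [← cΩ, Nat.card_eq_fintype_card, Fintype.card_subtype]
        exact Finset.card_equiv (Equiv.mulLeft x⁻¹) fun y => by simp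
      have e5 := Finset.eq_of_subset_of_card_le e3 (by rw [e2, e4])
      have e6 : g x ∈ Finset.univ.filter fun y => s y = s x := by simp [e1]
      rw [← e5] at e6
      exact (Finset.mem_filter.1 e6).2⟩
    have cZ : Nat.card Z = 32 := by
      rw [Nat.card_eq_fintype_card, Fintype.card_subtype]
      simp only [hZ]
      rw [hf8] at c3
      simp only [Prod.snd_zero, if_true] at c3
      exact_mod_cast c3
    have iZ : Z.index = 2 := by
      have := Z.card_mul_index
      rw [cZ, hT] at this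
      omega
    have hb0 : ∀ x y, (b x y).2.2 = 0 := by
      intro x y
      have e1 := mul_mem_iff_of_index_two iZ (a := x) (b := y)
      rw [hZ, hZ, hZ, hsb] at e1
      revert e1
      generalize s x = a, s y = c, b x y = d
      obtain ⟨-, -, a⟩ := a
      obtain ⟨-, -, c⟩ := c
      obtain ⟨d1, d2, d⟩ := d
      simp only [Prod.mk_add_mk]
      revert a c d
      decide
    obtain ⟨x, y, hxy⟩ := hS.nc
    have hne : b x y ≠ 0 := fun e => hxy (by
      have := hb x y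
      rw [e, hε.zero] at this
      show x * y = y * x
      calc x * y = x * y * cm(y, x) := by rw [← this, mul_one]
        _ = y * x := by group)
    obtain ⟨σ, hσ⟩ := htr _ (0, 0, 1) hne (by decide)
    have e : b (σ x) (σ y) = (0, 0, 1) := hε.inj (by
      rw [← hσ, hb, hb]; simp only [map_mul, map_inv])
    have := hb0 (σ x) (σ y)
    rw [e] at this
    exact absurd this (by decide)
  · -- order 512
    have hf72 : f = 72 := by rw [hT] at c1; simp at c1; omega
    have hΩn : Ω.Normal := ⟨fun x hx y => by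
      rw [← (hcen x y hx).eq, mul_inv_cancel_right]; exact hx⟩
    have hZ64 : 64 ≤ Nat.card Z := by
      let φ : T →* T ⧸ Ω := MonoidHom.mk' (fun x => ((x⁻¹ * g x : T) : T ⧸ Ω)) fun x y => by
        rw [← QuotientGroup.mk_mul, QuotientGroup.eq]
        have e : ((x * y)⁻¹ * g (x * y))⁻¹ * (x⁻¹ * g x * (y⁻¹ * g y)) =
            (g y)⁻¹ * cm((x⁻¹ * g x), y⁻¹) * (g y) := by rw [map_mul]; group
        rw [e]
        exact hΩn.conj_mem' _ (hcm _ _) (g y)
      have hker : φ.ker = Z := by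
        ext x
        exact QuotientGroup.eq_one_iff _
      have hran : φ.range ≤ Z.map (QuotientGroup.mk' Ω) := by
        rintro _ ⟨x, rfl⟩
        refine ⟨x⁻¹ * g x, ?_, rfl⟩
        show (x⁻¹ * g x)⁻¹ * g (x⁻¹ * g x) ∈ Ω
        have e : (x⁻¹ * g x)⁻¹ * g (x⁻¹ * g x) =
            (((g x)⁻¹ * x) * ((g x)⁻¹ * x)) * cm(x, u⁻¹) := by
          rw [map_mul, map_inv, hu]; group
        rw [e]
        exact Ω.mul_mem (hom _) (hcm _ _)
      have hΩZ : Ω ≤ Z := fun x hx => Ω.mul_mem (Ω.inv_mem hx) (gΩ x hx)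
      have e1 : Nat.card Z * Nat.card φ.range = 512 := by
        rw [← index_ker, hker, card_mul_index, hT]; rfl
      have e2 : Nat.card Z = 8 * Nat.card (Z.map (QuotientGroup.mk' Ω)) := by
        rw [card_eq_card_mul_relIndex hΩZ, cΩ, ← relIndex_ker, QuotientGroup.ker_mk']
      have e3 := card_le_of_le hran
      by_contra hlt
      have : Nat.card Z * Nat.card φ.range ≤ 63 * 7 := Nat.mul_le_mul (by omega) (by omega)
      omega
    let W : Subgroup T :=
      { carrier := {x | ∀ z ∈ Z, (b x z).2.2 = 0}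
        mul_mem' := fun {x y} hx hy z hz => by
          rw [hbl, Prod.snd_add, Prod.snd_add, hx z hz, hy z hz, add_zero]
        one_mem' := fun z _ => by
          have := hbl 1 1 z
          rw [mul_one, left_eq_add] at this
          rw [this]; rfl
        inv_mem' := fun {x} hx z hz => by
          have e1 := hbl 1 1 z
          rw [mul_one, left_eq_add] at e1
          have e2 := hbl x x⁻¹ z
          rw [mul_inv_cancel, e1] at e2
          have e3 := congrArg (fun v : V => v.2.2) e2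
          simp only [Prod.snd_add, Prod.snd_zero, hx z hz, zero_add] at e3
          exact e3.symm }
    have hZW : Z ≤ W := fun x hx z hz => by
      have e := hZs _ (Z.mul_mem hx hz)
      rwa [hsb, Prod.snd_add, Prod.snd_add, Prod.snd_add, Prod.snd_add, hZs x hx, hZs z hz,
        zero_add, zero_add] at e
    have sgZ : ∀ z ∈ Z, sg (s z) = 1 := fun z hz => if_pos (hZs z hz)
    have hchar : ∀ x, ∑ z : Z, sg (b x z) = if x ∈ W then (Nat.card Z : ℤ) else 0 := by
      intro x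
      split_ifs with hx
      · rw [Finset.sum_congr rfl (f := fun z : Z => sg (b x z)) (g := fun _ => 1)
          fun z _ => if_pos (hx z z.2)]
        simp
      · let χ : Z →* ℤ :=
          { toFun := fun z => sg (b x z)
            map_one' := by
              have := hbr x 1 1
              rw [mul_one, left_eq_add] at this
              rw [coe_one, this]; rfl
            map_mul' := fun z z' => by rw [coe_mul, hbr, sg_add] }
        refine sum_hom_units_eq_zero χ fun e => hx fun z hz => ?_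
        have : sg (b x z) = 1 := DFunLike.congr_fun e ⟨z, hz⟩
        revert this
        generalize b x z = w
        revert w
        decide
    have hS1 : (Nat.card Z : ℤ) * ∑ x, sg (s x) =
        (Nat.card Z : ℤ) * ∑ x with x ∈ W, sg (s x) := by
      calc (Nat.card Z : ℤ) * ∑ x, sg (s x) = ∑ z : Z, ∑ x, sg (s (x * z)) := by
            rw [Finset.sum_congr rfl (f := fun z : Z => ∑ x, sg (s (x * z)))
              (g := fun _ => ∑ x, sg (s x)) fun z _ =>
              Equiv.sum_comp (Equiv.mulRight (z : T)) fun x => sg (s x)]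
            simp
        _ = ∑ x, sg (s x) * ∑ z : Z, sg (b x z) := by
            rw [Finset.sum_comm]
            refine Finset.sum_congr rfl fun x _ => ?_
            rw [Finset.mul_sum]
            exact Finset.sum_congr rfl fun z _ => by
              rw [hsb, sg_add, sg_add, sgZ z z.2, mul_one]
        _ = _ := by
            rw [Finset.sum_filter, Finset.mul_sum]
            refine Finset.sum_congr rfl fun x _ => ?_
            rw [hchar]
            split_ifs <;> ring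
    have hS2 := mul_left_cancel₀ (by have := Nat.card_pos (α := Z); omega) hS1
    have hS3 : ∑ x with x ∈ W, sg (s x) = (Nat.card W : ℤ) -
        2 * (Nat.card {x | x ∈ W ∧ (s x).2.2 ≠ 0} : ℤ) := by
      have e1 : (Nat.card W : ℤ) = ∑ x with x ∈ W, (1 : ℤ) := by
        rw [Nat.card_eq_fintype_card, Fintype.card_subtype]; simp
      have e2 : (Nat.card {x | x ∈ W ∧ (s x).2.2 ≠ 0} : ℤ) =
          ∑ x with x ∈ W, if (s x).2.2 ≠ 0 then (1 : ℤ) else 0 := by
        rw [Finset.sum_boole, Finset.filter_filter, Nat.card_eq_fintype_card, Fintype.card_subtype]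
        rfl
      rw [e1, e2, Finset.mul_sum, ← Finset.sum_sub_distrib]
      refine Finset.sum_congr rfl fun x _ => ?_
      unfold sg
      split_ifs <;> simp_all
    have hdvd := card_dvd_of_mul_mem Z {x | x ∈ W ∧ (s x).2.2 ≠ 0} fun x hx z hz =>
      ⟨W.mul_mem hx.1 (hZW hz), by
        rw [hsb, Prod.snd_add, Prod.snd_add, Prod.snd_add, Prod.snd_add, hZs z hz, hx.1 z hz,
          add_zero, add_zero]
        exact hx.2⟩
    have : Fact (Nat.Prime 2) := ⟨Nat.prime_two⟩
    obtain ⟨i, hi⟩ := (h2.to_subgroup Z).exists_card_eq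
    obtain ⟨k, hk⟩ := (h2.to_subgroup W).exists_card_eq
    have hik := card_le_of_le hZW
    have hi6 : 6 ≤ i := by
      by_contra hlt
      have := Nat.pow_le_pow_right (n := 2) (by norm_num) (show i ≤ 5 by omega)
      omega
    have d64 : 64 ∣ Nat.card {x | x ∈ W ∧ (s x).2.2 ≠ 0} :=
      (hi ▸ pow_dvd_pow 2 hi6 : 2 ^ 6 ∣ Nat.card Z).trans hdvd
    rw [hS2, hS3, hf72] at c2
    by_cases hk7 : 7 ≤ k
    · have d128 : 128 ∣ Nat.card W := (hk ▸ pow_dvd_pow 2 hk7 : 2 ^ 7 ∣ Nat.card W)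
      omega
    · have := Nat.pow_le_pow_right (n := 2) (by norm_num) (show k ≤ 6 by omega)
      have hWZ : Z = W := eq_of_le_of_card_ge hZW (by omega)
      have : Nat.card {x | x ∈ W ∧ (s x).2.2 ≠ 0} = 0 := by
        rw [Nat.card_eq_zero]
        left
        exact ⟨fun x => x.2.2 (hZs x (hWZ.ge x.2.1))⟩
      omega

end Suz

section Amb

variable {G : Type*} [Group G]

/-- the involutions together with `1` form the subgroup `E` of order `p + 1` -/
structure Hyp (E : Subgroup G) (p : ℕ) : Prop where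
  mem : ∀ x, x ∈ E ↔ x * x = 1
  card : Nat.card E = p + 1
  prime : p.Prime
  ne : p ≠ 2
  trans : ∀ x ∈ E, ∀ y ∈ E, x ≠ 1 → y ≠ 1 → ∃ g : G, g * x * g⁻¹ = y

namespace Hyp

variable {E T : Subgroup G} {p : ℕ}

theorem normal (h : Hyp E p) : E.Normal := ⟨fun x hx g => by
  rw [h.mem] at hx ⊢
  calc g * x * g⁻¹ * (g * x * g⁻¹) = g * (x * x) * g⁻¹ := by group
    _ = 1 := by rw [hx]; group⟩

theorem le_cent (h : Hyp E p) : E ≤ centralizer (E : Set G) := fun x hx y hy => by
  have h1 := (h.mem _).1 (E.mul_mem hx hy)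
  have h2 := (h.mem _).1 hx
  have h3 := (h.mem _).1 hy
  calc y * x = (x * x) * y * x * (y * y) := by rw [h2, h3]; group
    _ = x * (x * y * (x * y)) * y := by group
    _ = x * y := by rw [h1, mul_one]

theorem two (h : Hyp E p) : IsPGroup 2 E := fun x =>
  ⟨1, Subtype.ext (by simpa [sq] using (h.mem x).1 x.2)⟩

theorem normalC (h : Hyp E p) : (centralizer (E : Set G)).Normal := by
  have := h.normal
  infer_instance

theorem le_syl (h : Hyp E p) (hT : IsSylowIn 2 T (centralizer (E : Set G))) : E ≤ T := by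
  have := h.normal
  have : Fact (Nat.Prime 2) := ⟨Nat.prime_two⟩
  exact hT.le_of_le_normalizer h.two h.le_cent le_normalizer_of_normal

variable [Finite G]

theorem lift (h : Hyp E p) (hT : IsSylowIn 2 T (centralizer (E : Set G))) (g : G) :
    ∃ n ∈ normalizer (T : Set G), ∀ e ∈ E, n * e * n⁻¹ = g * e * g⁻¹ := by
  have := h.normalC
  have : Fact (Nat.Prime 2) := ⟨Nat.prime_two⟩
  obtain ⟨c, hc, n, hn, e⟩ := hT.frattini (g := g⁻¹) (le_normalizer_of_normal (mem_top _))
  refine ⟨n⁻¹, inv_mem hn, fun x hx => ?_⟩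
  have e1 : g = n⁻¹ * c⁻¹ := by rw [← mul_inv_rev, ← e, inv_inv]
  have e2 : c⁻¹ * x * c = x := by rw [mul_assoc, hc x hx, inv_mul_cancel_left]
  rw [e1]
  nth_rewrite 1 [← e2]
  group

omit [Finite G] in
theorem cen (h : Hyp E p) (hT : T ≤ centralizer (E : Set G)) (x y : T) (hx : x * x = 1) :
    Commute x y :=
  Subtype.ext (hT y.2 x ((h.mem x).2 (congrArg Subtype.val hx)))

omit [Finite G] in
theorem card_sub (h : Hyp E p) (hT : E ≤ T) : Nat.card {x : T // x * x = 1} = p + 1 := by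
  rw [← h.card]
  exact Nat.card_congr ⟨fun x => ⟨x.1, (h.mem _).2 (congrArg Subtype.val x.2)⟩,
    fun x => ⟨⟨x.1, hT x.2⟩, Subtype.ext ((h.mem _).1 x.2)⟩, fun _ => rfl, fun _ => rfl⟩

theorem struct' (h : Hyp E p) (h2 : IsPGroup 2 T) (hE : E ≤ T)
    (hT : T ≤ centralizer (E : Set G))
    (hl : ∀ g : G, ∃ n ∈ normalizer (T : Set G), ∀ e ∈ E, n * e * n⁻¹ = g * e * g⁻¹) :
    (∃ m, Homo T m) ∨ Suz T (p + 1) := by
  refine tstruct h2 h.prime h.ne (h.card_sub hE) (h.cen hT) fun x y hx hx2 hy hy2 => ?_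
  have hxE := (h.mem x).2 (congrArg Subtype.val hx2)
  obtain ⟨g, hg⟩ := h.trans x hxE y ((h.mem y).2 (congrArg Subtype.val hy2))
    (fun e => hx (Subtype.ext e)) (fun e => hy (Subtype.ext e))
  obtain ⟨n, hn, hn'⟩ := hl g
  exact ⟨T.normalizerMonoidHom ⟨n, hn⟩, Subtype.ext ((hn' x hxE).trans hg)⟩

theorem struct (h : Hyp E p) (hT : IsSylowIn 2 T (centralizer (E : Set G))) :
    (∃ m, Homo T m) ∨ Suz T (p + 1) :=
  h.struct' hT.isPGroup (h.le_syl hT) hT.le (h.lift hT)

end Hyp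

theorem fix_of_odd {T : Type*} [Group T] (h2 : IsPGroup 2 T) (hc : ∀ x y : T, Commute x y)
    {k : MulAut T} {m : ℕ} (hm : Odd m) (hk : k ^ m = 1) (hfix : ∀ x, x * x = 1 → k x = x) :
    k = 1 := by
  have : ∀ (j : ℕ) (x : T), x ^ 2 ^ j = 1 → k x = x := by
    intro j
    induction j with
    | zero => intro x hx; rw [pow_zero, pow_one] at hx; rw [hx, map_one]
    | succ j ih =>
      intro x hx
      have h1 := ih (x * x) (by rw [← H38.pow_two_pow_succ', hx])
      obtain ⟨e, he⟩ : ∃ e, e = k x * x⁻¹ := ⟨_, rfl⟩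
      have h3 : e * e = 1 := by
        rw [he, (hc _ _).mul_mul_mul_comm, ← map_mul, h1]; group
      have h4 : ∀ i : ℕ, (k ^ i) x = e ^ i * x := by
        intro i
        induction i with
        | zero => simp
        | succ i ih2 =>
          rw [pow_succ', MulAut.mul_apply, ih2, map_mul, map_pow, hfix e h3, pow_succ, he]
          group
      have h5 := h4 m
      obtain ⟨l, rfl⟩ := hm
      rw [hk, pow_succ, pow_mul, sq, h3, one_pow, one_mul, MulAut.one_apply, right_eq_mul,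
        he, mul_inv_eq_one] at h5
      exact h5
  ext x
  obtain ⟨j, hj⟩ := h2 x
  exact this j x hj

theorem exists_odd_pow [Finite G] (g : G) : ∃ m : ℕ, Odd m ∧ IsPGroup 2 (zpowers (g ^ m)) := by
  obtain ⟨a, m, hm, e⟩ := Nat.exists_eq_two_pow_mul_odd (orderOf_pos g).ne'
  refine ⟨m, hm, isPGroup_zpowers_of_pow_eq_one (k := a) ?_⟩
  rw [← pow_mul, mul_comm, ← e, pow_orderOf_eq_one]

theorem pow4 (n : G) : n ^ 4 = n * (n * (n * n)) := by
  simp only [pow_succ, pow_zero, one_mul, mul_assoc]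

theorem rho_ne : rho (rho (0, 0, 1)) ≠ (0, 0, 1) := by decide

/-- the Singer cycle -/
def sing (v : V) : V := (v.2.2, v.1 + v.2.2, v.2.1)

theorem aut_sing : ∀ k : Fin 7, IsAut sing^[k] := by decide

theorem sing_trans : ∀ u v : V, u ≠ 0 → v ≠ 0 → ∃ k : Fin 7, sing^[k] u = v := by decide

theorem no_gl3 [Finite G] {ε : V → G} (hε : Coord ε)
    (hfull : ∀ f, IsAut f → ∃ g : G, ∀ v, g * ε v * g⁻¹ = ε (f v)) : False := by
  have : Fact (Nat.Prime 2) := ⟨Nat.prime_two⟩
  let E : Subgroup G :=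
    { carrier := {x | x * x = 1}
      mul_mem' := fun {a b} ha hb => by
        obtain ⟨u, rfl⟩ := hε.surj a ha
        obtain ⟨v, rfl⟩ := hε.surj b hb
        rw [← hε.add]
        exact hε.sq _
      one_mem' := by simp
      inv_mem' := fun {a} ha => by
        show a⁻¹ * a⁻¹ = 1
        rw [← mul_inv_rev, ha, inv_one] }
  have hεE : ∀ v, ε v ∈ E := hε.sq
  have h : Hyp E 7 := ⟨fun _ => Iff.rfl, hε.card, by norm_num, by norm_num,
    fun x hx y hy hx1 hy1 => by
      obtain ⟨u, rfl⟩ := hε.surj x hx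
      obtain ⟨v, rfl⟩ := hε.surj y hy
      obtain ⟨k, hk⟩ := sing_trans u v (fun e => hx1 (e ▸ hε.zero)) (fun e => hy1 (e ▸ hε.zero))
      obtain ⟨g, hg⟩ := hfull _ (aut_sing k)
      exact ⟨g, by rw [hg, hk]⟩⟩
  obtain ⟨T, hT⟩ := exists_isSylowIn 2 (centralizer (E : Set G))
  have hET := h.le_syl hT
  have hfullN : ∀ f, IsAut f → ∃ n ∈ normalizer (T : Set G), ∀ v, n * ε v * n⁻¹ = ε (f v) := by
    intro f hf
    obtain ⟨g, hg⟩ := hfull f hf
    obtain ⟨n, hn, hn'⟩ := h.lift hT g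
    exact ⟨n, hn, fun v => (hn' _ (hεE v)).trans (hg v)⟩
  have hC : ∀ g : G, (∀ v, g * ε v * g⁻¹ = ε v) → g ∈ centralizer (E : Set G) := by
    intro g hg x hx
    obtain ⟨v, rfl⟩ := hε.surj x hx
    rw [← mul_inv_eq_iff_eq_mul.1 (hg v)]
  have hin : ∀ g ∈ normalizer (T : Set G), IsPGroup 2 (zpowers g) →
      g ∈ centralizer (E : Set G) → g ∈ T := fun g hg h2 hc =>
    hT.le_of_le_normalizer' h2 (zpowers_le.2 hc) (zpowers_le.2 hg) (mem_zpowers g)
  let ε' : V → T := fun v => ⟨ε v, hET (hεE v)⟩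
  have hε' : Coord ε' := ⟨fun u v => Subtype.ext (hε.add u v),
    fun u v e => hε.inj (congrArg Subtype.val e), fun x hx => by
      obtain ⟨v, hv⟩ := hε.surj x (congrArg Subtype.val hx)
      exact ⟨v, Subtype.ext hv⟩⟩
  -- a 2-element over `ρ`
  obtain ⟨r, hrN, hr, hr4⟩ : ∃ r ∈ normalizer (T : Set G), (∀ v, r * ε v * r⁻¹ = ε (rho v)) ∧
      r ^ 4 ∈ T := by
    obtain ⟨n, hn, hn'⟩ := hfullN rho aut_rho
    obtain ⟨m, hm, h2⟩ := exists_odd_pow n
    have n4 : n ^ 4 ∈ centralizer (E : Set G) := hC _ fun v => by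
      calc n ^ 4 * ε v * (n ^ 4)⁻¹ = n * (n * (n * (n * ε v * n⁻¹) * n⁻¹) * n⁻¹) * n⁻¹ := by
            simp only [pow4, mul_assoc, mul_inv_rev]
        _ = ε v := by
            rw [hn', hn', hn', hn']
            congr 1
            revert v; decide
    obtain ⟨l, hl⟩ : ∃ l, m * m = 4 * l + 1 := by
      obtain ⟨a, rfl⟩ := hm
      exact ⟨a * a + a, by ring⟩
    refine ⟨n ^ (m * m), pow_mem hn _, fun v => ?_, ?_⟩
    · have := (pow_mem n4 l) (ε (rho v)) (hεE _)
      rw [hl, pow_succ, pow_mul]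
      calc (n ^ 4) ^ l * n * ε v * ((n ^ 4) ^ l * n)⁻¹ =
            (n ^ 4) ^ l * (n * ε v * n⁻¹) * ((n ^ 4) ^ l)⁻¹ := by group
        _ = _ := by rw [hn', ← this, mul_inv_cancel_right]
    · apply hin _ (pow_mem (pow_mem hn _) _)
      · refine h2.to_le (zpowers_le.2 ?_)
        rw [pow_mul]
        exact pow_mem (pow_mem (mem_zpowers _) _) _
      · rw [← pow_mul, mul_comm, pow_mul]
        exact pow_mem n4 _
  let r' : MulAut T := T.normalizerMonoidHom ⟨r, hrN⟩
  have hr'c : ∀ x : T, (r' x : G) = r * x * r⁻¹ := fun _ => rfl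
  have hr' : ∀ v, r' (ε' v) = ε' (rho v) := fun v => Subtype.ext (hr v)
  rcases h.struct hT with ⟨m, hm⟩ | hS
  · let _ : CommGroup T := { mul_comm := fun x y => (hm.comm x y).eq }
    obtain ⟨x, hx⟩ := ab_lemma hε' hm T.normalizerMonoidHom.range
      (by
        rintro _ ⟨n, rfl⟩ hn
        have hnC := hC n fun v => congrArg Subtype.val (hn v)
        obtain ⟨k, hk, h2⟩ := exists_odd_pow (n : G)
        have hkT := hin _ (pow_mem n.2 k) h2 (pow_mem hnC k)
        refine fix_of_odd hT.isPGroup hm.comm hk ?_ fun x hx => ?_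
        · rw [← map_pow]
          ext x
          show (n : G) ^ k * x * ((n : G) ^ k)⁻¹ = x
          rw [mul_inv_eq_iff_eq_mul]
          exact congrArg Subtype.val (hm.comm ⟨_, hkT⟩ x).eq
        · obtain ⟨v, rfl⟩ := hε'.surj x hx
          exact hn v)
      (fun f hf => by
        obtain ⟨n, hn, hn'⟩ := hfullN f hf
        exact ⟨_, ⟨⟨n, hn⟩, rfl⟩, fun v => Subtype.ext (hn' v)⟩)
      (r := r') ⟨_, rfl⟩ hr' (a := (⟨r ^ 4, hr4⟩ : T)⁻¹) (Subtype.ext (by
        rw [hr'c, coe_inv]; group))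
    have hx' : (x : G) * (r * (r * x * r⁻¹) * r⁻¹) = (r ^ 4)⁻¹ := congrArg Subtype.val hx
    have e1 : (x * (r * r)) * (x * (r * r)) = (1 : G) := by
      calc (x * (r * r)) * (x * (r * r)) = (x * (r * (r * x * r⁻¹) * r⁻¹)) * r ^ 4 := by
            simp only [pow4, mul_assoc, inv_mul_cancel_left]
        _ = 1 := by rw [hx', inv_mul_cancel]
    have e2 : r * r ∈ centralizer (E : Set G) := by
      have := mul_mem (inv_mem (hT.le x.2)) (h.le_cent ((h.mem _).2 e1))
      rwa [inv_mul_cancel_left] at this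
    have e3 : ε (rho (rho (0, 0, 1))) = ε (0, 0, 1) := by
      rw [← hr, ← hr]
      calc r * (r * ε (0, 0, 1) * r⁻¹) * r⁻¹ = (r * r * ε (0, 0, 1)) * (r * r)⁻¹ := by group
        _ = _ := by rw [← e2 _ (hεE _), mul_inv_cancel_right]
    exact rho_ne (hε.inj e3)
  · refine suz_lemma hT.isPGroup hε' (h.cen hT.le) hS (fun u v hu hv => ?_) (g := r' * r')
      (fun v => ?_) (u := ⟨r ^ 4, hr4⟩) fun x => Subtype.ext ?_
    · obtain ⟨k, hk⟩ := sing_trans u v hu hv
      obtain ⟨n, hn, hn'⟩ := hfullN _ (aut_sing k)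
      exact ⟨T.normalizerMonoidHom ⟨n, hn⟩, Subtype.ext ((hn' u).trans (by rw [hk]))⟩
    · rw [MulAut.mul_apply, hr', hr']
      congr 1
      revert v; decide
    · simp only [MulAut.mul_apply, hr'c, coe_mul, coe_inv, pow4, mul_assoc, mul_inv_rev]

end Amb

end Cfsg.Agent.H8.Pyr
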