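import Mathlib
import Cfsg.Agent.Lead.T3Defs

/-! Project T3 (S1143), piece GLOB: from a coherent family of germs to a global isomorphism. -/

set_option autoImplicit false
set_option linter.unusedSectionVars false

namespace Cfsg.Agent.Lead.T3

open Cfsg.Agent.H35

universe u

namespace Glob

/-- Definition by recursion on a measure. -/
theorem exists_rec {C D : Type*} (μ : C → ℕ) (A : C → C → Prop) (hA : ∀ y x, A y x → μ y < μ x)
    (τ : C → D → C → D) (d : D) :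
    ∃ f : C → D, ∀ x, (∃ y, A y x ∧ f x = τ y (f y) x) ∨ ((∀ y, ¬ A y x) ∧ f x = d) := by
  classical
  let F : ∀ x : C, (∀ y, μ y < μ x → D) → D := fun x g =>
    if h : ∃ y, A y x then τ h.choose (g h.choose (hA _ _ h.choose_spec)) x else d
  have wf : WellFounded fun y x : C => μ y < μ x := (measure μ).wf
  refine ⟨wf.fix F, fun x => ?_⟩
  rw [wf.fix_eq]
  by_cases h : ∃ y, A y x
  · exact Or.inl ⟨h.choose, h.choose_spec, by simp only [F, dif_pos h]⟩
  · exact Or.inr ⟨fun y hy => h ⟨y, hy⟩, by simp only [F, dif_neg h]⟩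

section cox

variable {I W : Type} [Group W] [Finite W] {X : Cox I W}

theorem mem_univ (w : W) : w ∈ X.WJ Set.univ := by
  rw [Cox.WJ, Set.image_univ, X.closure_eq]; trivial

theorem s_left (i j : I) : X.s i ∈ X.WJ {i, j} := InvGen.s_mem_closure (by simp)

variable (hC : CxStmt)
include hC

theorem w0_w0 : X.w0 * X.w0 = 1 := (hC X).1 _

theorem w0_inv : X.w0⁻¹ = X.w0 := inv_eq_of_mul_eq_one_right (w0_w0 hC)

theorem len_w0_mul (v : W) : X.len (X.w0 * v) + X.len v = X.len X.w0 :=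
  ((hC X).2.1 _ v (mem_univ v)).1

theorem len_mul_w0 (v : W) : X.len (v * X.w0) + X.len v = X.len X.w0 :=
  ((hC X).2.1 _ v (mem_univ v)).2

theorem w0_s (i : I) : X.w0 * X.s i = X.s (X.op Set.univ i) * X.w0 :=
  ((hC X).2.2.1 _ i (Set.mem_univ _)).2.1

theorem op_op (i : I) : X.op Set.univ (X.op Set.univ i) = i := ((hC X).2.2.1 _ i (Set.mem_univ _)).2.2

theorem s_w0 (i : I) : X.s i * X.w0 = X.w0 * X.s (X.op Set.univ i) := by
  rw [w0_s hC, op_op hC]

theorem conj_wJ (k l : I) :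
    X.w0 * X.wJ {k, l} * X.w0 ∈ X.WJ {X.op Set.univ k, X.op Set.univ l} := by
  have h := (hC X).2.2.2.2.2.2.1 {k, l} Set.univ (Set.subset_univ _)
  rw [Set.image_pair] at h
  rw [Cox.w0, h]
  exact (X.wJ_spec _).1

/-- the length computation for a pair without descents -/
theorem len_nd (k l : I) {w : W}
    (hw : ∀ j ∈ ({X.op Set.univ k, X.op Set.univ l} : Set I), X.len w ≤ X.len (w * X.s j)) :
    X.len (X.wJ {k, l} * X.w0) = X.len (X.wJ {k, l} * X.w0 * w⁻¹) + X.len w := by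
  have h1 := X.exch.len_mul_of_isDRed (K := ∅) ⟨fun _ h => h.elim, hw⟩ (conj_wJ hC k l)
  have h2 := len_mul_w0 hC (X := X) (w * (X.w0 * X.wJ {k, l} * X.w0))
  have h3 := len_mul_w0 hC (X := X) (X.w0 * X.wJ {k, l} * X.w0)
  have e1 : w * (X.w0 * X.wJ {k, l} * X.w0) * X.w0 = (X.wJ {k, l} * X.w0 * w⁻¹)⁻¹ := by
    rw [mul_inv_rev, mul_inv_rev, inv_inv, w0_inv hC, inv_eq_of_mul_eq_one_right ((hC X).1 _)]
    simp [mul_assoc, w0_w0 hC]
  have e2 : X.w0 * X.wJ {k, l} * X.w0 * X.w0 = (X.wJ {k, l} * X.w0)⁻¹ := by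
    rw [mul_inv_rev, w0_inv hC, inv_eq_of_mul_eq_one_right ((hC X).1 _)]
    simp [mul_assoc, w0_w0 hC]
  rw [e1, X.len_inv] at h2
  rw [e2, X.len_inv] at h3
  omega

theorem len_gate (J : Set I) {u : W} (hu : u ∈ X.WJ J) :
    X.len (u * (X.wJ J * X.w0)) = X.len u + X.len (X.wJ J * X.w0) := by
  have h1 := len_mul_w0 hC (X := X) (u * X.wJ J)
  have h2 := len_mul_w0 hC (X := X) (X.wJ J)
  have h3 := ((hC X).2.1 J u hu).2
  rw [← mul_assoc]
  omega

end cox

variable {I W : Type} [Group W] [Finite W] {X : Cox I W} {C C' : Type u} [Finite C] [Finite C']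

section bld

variable (h1 : Ba1Stmt.{u}) (B : Bld X C)
include h1

theorem trans {x y z : C} {a b : W} (ha : B.δ x y = a) (hb : B.δ y z = b)
    (h : X.len (a * b) = X.len a + X.len b) : B.δ x z = a * b := by
  subst ha hb
  exact (h1 B).1 x y z h

theorem between {x z : C} {w w' : W} (h : B.δ x z = w * w') : ∃ y, B.δ x y = w ∧ B.δ y z = w' :=
  (h1 B).2.1 x z w w' h

theorem res_self (J : Set I) (x : C) : x ∈ B.res J x := (h1 B).2.2.2.1 J x

theorem res_eq {J : Set I} {x y : C} (h : y ∈ B.res J x) : B.res J y = B.res J x :=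
  (h1 B).2.2.2.2.1 J x y h

theorem proj_mem (J : Set I) (x z : C) : B.proj J x z ∈ B.res J x :=
  ((h1 B).2.2.2.2.2.2.1 J x z).1

theorem gate (J : Set I) (x z : C) {y : C} (hy : y ∈ B.res J x) :
    X.len (B.δ z y) = X.len (B.δ z (B.proj J x z)) + X.len (B.δ (B.proj J x z) y) := by
  have h := (((h1 B).2.2.2.2.2.2.1 J x z).2.2 y hy).2
  rw [B.symm y z, B.symm (B.proj J x z) z, B.symm y (B.proj J x z), X.len_inv, X.len_inv, X.len_inv]
  omega

theorem uniq {c d x x' : C} (h : B.δ c x = B.δ c x') (h' : B.δ x d = B.δ x' d)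
    (e : X.len (B.δ c d) = X.len (B.δ c x) + X.len (B.δ x d)) : x = x' :=
  (h1 B).2.2.2.2.2.2.2.2.1 c d x x' h h' e

end bld

theorem mem_res {B : Bld X C} {J : Set I} {x y : C} : y ∈ B.res J x ↔ B.δ x y ∈ X.WJ J := Iff.rfl

theorem δ_self (B : Bld X C) (x : C) : B.δ x x = 1 := (B.eq_one x x).2 rfl

/-- an ascent from `y` to `x`, seen from `d` -/
def Asc (B : Bld X C) (d : C) (i : I) (y x : C) : Prop :=
  B.δ y x = X.s i ∧ X.len (B.δ d y) < X.len (B.δ d x)

theorem Asc.eq {B : Bld X C} {d y x : C} {i : I} (h : Asc B d i y x) :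
    B.δ d x = B.δ d y * X.s i ∧ X.len (B.δ d x) = X.len (B.δ d y) + 1 := by
  have h1 : B.δ x y = X.s i := by rw [B.symm, h.1, X.inv_s]
  have h2 : B.δ d x = B.δ d y * X.s i := by
    rcases B.step i x y d h1 with e | e
    · rw [B.symm x d, e, B.symm y d]; simp
    · have := h.2
      rw [B.symm x d, e, ← B.symm] at this
      exact absurd this (lt_irrefl _)
  refine ⟨h2, ?_⟩
  have := X.len_mul_s_le i (B.δ d y)
  have := h.2
  rw [← h2] at *
  omega

variable (B : Bld X C) (B' : Bld X C') (σ : W → C) (σ' : W → C') (Φ : W → C → C')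

/-- the position of the chamber of the apartment opposite `x` -/
noncomputable def om (x : C) : W := X.w0 * B.δ (σ X.w0) x * X.w0

open Classical in
/-- the transfer of the germ opposite `z` -/
noncomputable def tr (z : C) (z' : C') : C → C' :=
  if h : ∃ ψ, B.Germ B' ψ z ∧ ψ z = z' ∧ B.Link B' (Φ (om B σ z)) (σ (om B σ z)) ψ z then h.choose
  else fun _ => z'

/-- The hypotheses. -/
structure Hyp : Prop where
  hC : CxStmt
  h1 : Ba1Stmt.{u}
  hL : LinkStmt.{u}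
  ha : B.Apt σ
  ha' : B'.Apt σ'
  fam : SigFam B B' σ σ' Φ

/-- The inductive properties. -/
structure Gd (f : C → C') (x : C) : Prop where
  dist : B'.δ (σ' X.w0) (f x) = B.δ (σ X.w0) x
  cpt : B.Cpt B' (Φ (om B σ x)) (σ (om B σ x)) x (f x)
  asc : ∀ i y, Asc B (σ X.w0) i y x → tr B B' σ Φ y (f y) x = f x

variable {B B' σ σ' Φ} (H : Hyp B B' σ σ' Φ)
include H

theorem tr_spec {z : C} {z' : C'} (h : B.Cpt B' (Φ (om B σ z)) (σ (om B σ z)) z z') :
    B.Germ B' (tr B B' σ Φ z z') z ∧ tr B B' σ Φ z z' z = z' ∧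
      B.Link B' (Φ (om B σ z)) (σ (om B σ z)) (tr B B' σ Φ z z') z := by
  have h2 := (H.hL B B').1 _ _ _ _ (H.fam.germ _) h
  rw [tr, dif_pos h2]
  exact h2.choose_spec

theorem om_asc {i : I} {y x : C} (h : Asc B (σ X.w0) i y x) :
    om B σ x = om B σ y * X.s (X.op Set.univ i) := by
  rw [om, om, h.eq.1, mul_assoc, mul_assoc, s_w0 H.hC]
  simp [mul_assoc]

theorem om_opp (x : C) : B.δ (σ (om B σ x)) x = X.w0 := by
  have e : B.δ (σ (om B σ x)) (σ X.w0) = X.w0 * (B.δ (σ X.w0) x)⁻¹ := by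
    rw [H.ha, om, mul_inv_rev, mul_inv_rev, w0_inv H.hC]
    simp [mul_assoc, w0_w0 H.hC]
  have := trans H.h1 B e rfl (z := x) (by
    have := len_w0_mul H.hC (X := X) (B.δ (σ X.w0) x)⁻¹
    rw [X.len_inv] at this
    rw [inv_mul_cancel_right, this])
  rwa [inv_mul_cancel_right] at this

theorem apt_res {w v : W} {J : Set I} (hv : v ∈ X.WJ J) : σ (w * v) ∈ B.res J (σ w) := by
  rw [mem_res]
  rwa [H.ha, inv_mul_cancel_left]

/-- consistency along an ascent -/
theorem cons {f : C → C'} {i : I} {y x : C} (h : Asc B (σ X.w0) i y x) (hy : Gd B B' σ σ' Φ f y)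
    (hx : Gd B B' σ σ' Φ f x) (j : I) :
    Set.EqOn (tr B B' σ Φ y (f y)) (tr B B' σ Φ x (f x)) (B.res {i, j} y) := by
  obtain ⟨y1, y2, y3⟩ := tr_spec H hy.cpt
  obtain ⟨x1, x2, x3⟩ := tr_spec H hx.cpt
  have hxy : x ∈ B.res {i, j} y := by
    rw [mem_res]
    rw [h.1]; exact s_left i j
  have := (H.hL B B').2.2.1 _ _ _ _ _ _ _ _ (X.op Set.univ i) (X.op Set.univ j) (H.fam.germ _) y1 x1
    y3 x3 (by rw [om_asc H h]; exact apt_res H (s_left _ _))
    (by rw [om_asc H h]; exact H.fam.coh _ _ _) (by rwa [op_op H.hC, op_op H.hC])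
    (by
      rw [op_op H.hC, op_op H.hC, x2, ← hx.asc i y h]
      rw [mem_res]
      rw [(y1 i j).1 _ (res_self H.h1 B _ _) _ hxy]
      exact hxy)
  rwa [op_op H.hC, op_op H.hC] at this

/-- all transfers agree on a residue of rank two -/
theorem coh {f : C → C'} {n : ℕ} (hf : ∀ z, X.len (B.δ (σ X.w0) z) < n → Gd B B' σ σ' Φ f z)
    (i j : I) (x : C) : ∀ m < n, ∀ z ∈ B.res {i, j} x, X.len (B.δ (σ X.w0) z) = m →
      Set.EqOn (tr B B' σ Φ z (f z))
        (tr B B' σ Φ (B.proj {i, j} x (σ X.w0)) (f (B.proj {i, j} x (σ X.w0)))) (B.res {i, j} x) := by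
  intro m
  induction m using Nat.strong_induction_on with
  | _ m ih =>
  intro hm z hz e
  set g := B.proj {i, j} x (σ X.w0) with hg
  have hgx : g ∈ B.res {i, j} x := proj_mem H.h1 B _ _ _
  by_cases h0 : B.δ g z = 1
  · rw [(B.eq_one _ _).1 h0]
    exact fun _ _ => rfl
  have hgz : B.δ g z ∈ X.WJ {i, j} := by
    have := hz
    rwa [← res_eq H.h1 B hgx] at this
  obtain ⟨k, hk, hl⟩ := X.exch.exists_right_descent_mem hgz h0
  obtain ⟨y, e1, e2⟩ := between H.h1 B (x := g) (z := z) (w := B.δ g z * X.s k) (w' := X.s k) (by simp)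
  have hy : y ∈ B.res {i, j} x := by
    rw [← res_eq H.h1 B hgx]
    rw [mem_res]
    rw [e1]
    exact mul_mem hgz (InvGen.s_mem_closure hk)
  have g1 := gate H.h1 B {i, j} x (σ X.w0) hy
  have g2 := gate H.h1 B {i, j} x (σ X.w0) hz
  rw [← hg] at g1 g2
  rw [e1] at g1
  have hA : Asc B (σ X.w0) k y z := ⟨e2, by omega⟩
  have k1 := ih _ (by omega) (by omega) y hy rfl
  have k2 : Set.EqOn (tr B B' σ Φ y (f y)) (tr B B' σ Φ z (f z)) (B.res {i, j} x) := by
    rw [← res_eq H.h1 B hy]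
    rcases hk with rfl | rfl
    · exact cons H hA (hf _ (by omega)) (hf _ (by omega)) j
    · rw [Set.pair_comm]
      exact cons H hA (hf _ (by omega)) (hf _ (by omega)) i
  exact k2.symm.trans k1

theorem asc_res {i : I} {y x : C} (h : Asc B (σ X.w0) i y x) (j : I) : y ∈ B.res {i, j} x := by
  rw [mem_res]
  rw [B.symm, h.1, X.inv_s]
  exact s_left i j

/-- compatibility on a residue whose type contains a descent -/
theorem cpt_asc {f : C → C'} {k : I} {y x : C} (h : Asc B (σ X.w0) (X.op Set.univ k) y x)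
    (hy : Gd B B' σ σ' Φ f y) (e : tr B B' σ Φ y (f y) x = f x) (l : I) :
    ∀ a ∈ B.res {k, l} (σ (om B σ x)), B'.δ (Φ (om B σ x) a) (f x) = B.δ a x := by
  intro a ha
  obtain ⟨-, -, y3⟩ := tr_spec H hy.cpt
  have e1 := om_asc H h
  rw [op_op H.hC] at e1
  rw [e1, res_eq H.h1 B (apt_res H (s_left k l))] at ha
  rw [e1, ← H.fam.coh _ k l ha, ← e]
  refine y3.2 k l a ha x ?_
  rw [res_eq H.h1 B (asc_res H h _)]
  exact res_self H.h1 B _ _

/-- compatibility on a residue whose type contains no descent -/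
theorem cpt_nd {x : C} {x' : C'} (hx : B'.δ (σ' X.w0) x' = B.δ (σ X.w0) x) (k l : I)
    (h : ∀ j ∈ ({X.op Set.univ k, X.op Set.univ l} : Set I), ∀ y, ¬ Asc B (σ X.w0) j y x) :
    ∀ a ∈ B.res {k, l} (σ (om B σ x)), B'.δ (Φ (om B σ x) a) x' = B.δ a x := by
  intro a ha
  have hw := len_nd H.hC k l (X := X) (w := B.δ (σ X.w0) x) fun j hj => by
    by_contra hn
    obtain ⟨y, e1, e2⟩ := between H.h1 B (x := σ X.w0) (z := x) (w := B.δ (σ X.w0) x * X.s j)
      (w' := X.s j) (by simp)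
    exact h j hj y ⟨e2, by rw [e1]; omega⟩
  have hJ : X.wJ {k, l} ∈ X.WJ {k, l} := (X.wJ_spec _).1
  have e0 : (om B σ x * X.wJ {k, l})⁻¹ * X.w0 = X.wJ {k, l} * X.w0 * (B.δ (σ X.w0) x)⁻¹ := by
    rw [om, mul_inv_rev, mul_inv_rev, mul_inv_rev, w0_inv H.hC,
      inv_eq_of_mul_eq_one_right ((H.hC X).1 _)]
    simp [mul_assoc, w0_w0 H.hC]
  have e1 := trans H.h1 B ((H.ha _ _).trans e0) rfl (z := x) (by rw [inv_mul_cancel_right, hw])
  have e2 := trans H.h1 B' ((H.ha' _ _).trans e0) hx (by rw [inv_mul_cancel_right, hw])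
  rw [inv_mul_cancel_right] at e1 e2
  have hp := apt_res H (w := om B σ x) hJ
  have hu : B.δ a (σ (om B σ x * X.wJ {k, l})) ∈ X.WJ {k, l} := by
    have := hp
    rwa [← res_eq H.h1 B ha] at this
  have e3 := (H.fam.germ (om B σ x) k l).1 _ ha _ hp
  rw [H.fam.apt _ k l _ hJ] at e3
  rw [trans H.h1 B rfl e1 (len_gate H.hC _ hu), trans H.h1 B' e3 e2 (len_gate H.hC _ hu)]

theorem exists_gd : ∃ f : C → C', f (σ X.w0) = σ' X.w0 ∧ ∀ x, Gd B B' σ σ' Φ f x := by
  obtain ⟨f, hf⟩ := exists_rec (fun x => X.len (B.δ (σ X.w0) x))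
    (fun y x => ∃ i, Asc B (σ X.w0) i y x) (fun _ _ h => h.choose_spec.2) (tr B B' σ Φ) (σ' X.w0)
  refine ⟨f, ?_, fun x => ?_⟩
  · rcases hf (σ X.w0) with ⟨y, ⟨i, h⟩, -⟩ | h
    · have := h.2
      rw [δ_self, X.len_one] at this
      omega
    · exact h.2
  induction h : X.len (B.δ (σ X.w0) x) using Nat.strong_induction_on generalizing x with
  | _ n ih =>
  have ih' : ∀ z, X.len (B.δ (σ X.w0) z) < n → Gd B B' σ σ' Φ f z := fun z hz => ih _ hz z rfl
  have ha : B'.δ (σ' X.w0) (f x) = B.δ (σ X.w0) x := by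
    rcases hf x with ⟨y, ⟨i, hA⟩, e⟩ | ⟨h0, e⟩
    · have hy := ih' y (h ▸ hA.2)
      obtain ⟨y1, y2, -⟩ := tr_spec H hy.cpt
      have e1 : B'.δ (f y) (f x) = X.s i := by
        have := (y1 i i).1 _ (res_self H.h1 B _ _) x (by
          rw [res_eq H.h1 B (asc_res H hA i)]; exact res_self H.h1 B _ _)
        rwa [y2, ← e, hA.1] at this
      rw [hA.eq.1]
      exact trans H.h1 B' hy.dist e1 (by rw [← hA.eq.1, hA.eq.2, X.exch.len_s])
    · have e1 : B.δ (σ X.w0) x = 1 := by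
        by_contra hn
        obtain ⟨j, hj⟩ := X.exists_right_descent hn
        obtain ⟨y, e1, e2⟩ := between H.h1 B (x := σ X.w0) (z := x) (w := B.δ (σ X.w0) x * X.s j)
          (w' := X.s j) (by simp)
        exact h0 y ⟨j, e2, by rw [e1]; omega⟩
      rw [e, e1, δ_self]
  have hc : ∀ i y, Asc B (σ X.w0) i y x → tr B B' σ Φ y (f y) x = f x := fun j y hy => by
    rcases hf x with ⟨z, ⟨i, hA⟩, e⟩ | ⟨h0, -⟩
    · have k1 := coh H ih' i j x _ (h ▸ hA.2) z (asc_res H hA j) rfl (res_self H.h1 B _ _)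
      have k2 := coh H ih' i j x _ (h ▸ hy.2) y (Set.pair_comm j i ▸ asc_res H hy i) rfl
        (res_self H.h1 B _ _)
      rw [e, k1, k2]
    · exact absurd ⟨j, hy⟩ (h0 y)
  refine ⟨ha, ⟨om_opp H x, ?_⟩, hc⟩
  rintro a ⟨k, l, hkl⟩
  by_cases h1 : ∃ y, Asc B (σ X.w0) (X.op Set.univ k) y x
  · obtain ⟨y, hy⟩ := h1
    exact cpt_asc H hy (ih' y (h ▸ hy.2)) (hc _ y hy) l a hkl
  by_cases h2 : ∃ y, Asc B (σ X.w0) (X.op Set.univ l) y x
  · obtain ⟨y, hy⟩ := h2
    exact cpt_asc H hy (ih' y (h ▸ hy.2)) (hc _ y hy) k a (Set.pair_comm k l ▸ hkl)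
  refine cpt_nd H ha k l ?_ a hkl
  rintro j (rfl | rfl) y hy
  · exact h1 ⟨y, hy⟩
  · exact h2 ⟨y, hy⟩

/-- the transfer at `x` is `f` on the residues of rank two -/
theorem tr_eq {f : C → C'} (hf : ∀ x, Gd B B' σ σ' Φ f x) (x : C) (i j : I) :
    ∀ z ∈ B.res {i, j} x, tr B B' σ Φ x (f x) z = f z := fun z hz => by
  have k1 := coh H (fun z _ => hf z) i j x _ (Nat.lt_succ_self _) x (res_self H.h1 B _ _) rfl hz
  have k2 := coh H (fun z _ => hf z) i j x _ (Nat.lt_succ_self _) z hz rfl hz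
  rw [k1, ← k2, (tr_spec H (hf z).cpt).2.1]

end Glob

open Glob in
theorem globStmt (hC : CxStmt) (h1 : Ba1Stmt.{u}) (h3 : Ba3Stmt.{u}) (hL : LinkStmt.{u}) :
    GlobStmt.{u} := by
  intro I W _ _ X C C' _ _ B B' _ σ σ' Φ ha ha' fam
  have H : Hyp B B' σ σ' Φ := ⟨hC, h1, hL, ha, ha', fam⟩
  obtain ⟨f, hd, hf⟩ := exists_gd H
  have iso : ∀ x i j, ∀ y ∈ B.res {i, j} x, B'.δ (f x) (f y) = B.δ x y := fun x i j y hy => by
    have := ((tr_spec H (hf x).cpt).1 i j).1 _ (res_self h1 B _ _) _ hy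
    rwa [tr_eq H hf x i j y hy, tr_eq H hf x i j x (res_self h1 B _ _)] at this
  obtain ⟨k1, k2⟩ := ((h3 B B').1 Set.univ (σ 1) f fun x _ i _ y hy => by
    change B'.δ _ _ = _
    have hy' : B.δ x y = X.s i := hy
    rw [iso x i i y (by rw [mem_res, hy']; exact s_left i i), hy']).2 fun x _ i _ y' hy' => by
      have hy'' : B'.δ (f x) y' = X.s i := hy'
      obtain ⟨g1, g2, -⟩ := tr_spec H (hf x).cpt
      obtain ⟨y, hy, rfl⟩ := (g1 i i).2 (show y' ∈ B'.res _ _ by rw [mem_res, g2, hy'']; exact s_left i i)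
      rw [tr_eq H hf x i i y hy] at hy'' ⊢
      exact ⟨y, (iso x i i y hy).symm.trans hy'', rfl⟩
  have k3 : ∀ x y, B'.δ (f x) (f y) = B.δ x y := fun x y => k1 x (mem_univ _) y (mem_univ _)
  have hb : Function.Bijective f := ⟨fun x y e => (B.eq_one x y).1 (by rw [← k3, e, δ_self]),
    fun y => by
      obtain ⟨x, -, e⟩ := k2 (show y ∈ B'.res Set.univ _ from mem_univ _)
      exact ⟨x, e⟩⟩
  have lk : ∀ v, B.Link B' (Φ (v * X.w0)) (σ (v * X.w0)) (tr B B' σ Φ (σ v) (f (σ v))) (σ v) :=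
    fun v => by
      have e : om B σ (σ v) = v * X.w0 := by rw [om, ha]; simp
      have := (tr_spec H (hf (σ v)).cpt).2.2
      rwa [e] at this
  have k4 : ∀ v i, f (σ v) = σ' v → f (σ (v * X.s i)) = σ' (v * X.s i) := fun v i hv => by
    have hm : σ (v * X.s i) ∈ B.res {i, i} (σ v) := apt_res H (s_left i i)
    have e1 := (lk v).2 (X.op Set.univ i) (X.op Set.univ i) _ (res_self h1 B _ _) (σ (v * X.s i))
      (by rwa [op_op hC])
    have e2 := fam.apt (v * X.w0) i i 1 (one_mem _)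
    rw [mul_one] at e2
    rw [e2, tr_eq H hf _ i i _ hm, ha, ← ha'] at e1
    have e3 : B'.δ (f (σ (v * X.s i))) (σ' v) = B'.δ (σ' (v * X.s i)) (σ' v) := by
      rw [ha', ← hv, k3, ha]
    refine uniq h1 B' e1 e3 ?_
    rw [e1, e3, ha', ha', ha']
    have := len_w0_mul hC (X := X) (X.s i)
    simp only [mul_inv_rev, w0_inv hC, X.inv_s, mul_assoc, inv_mul_cancel_left, inv_mul_cancel, mul_one]
    omega
  refine ⟨Equiv.ofBijective f hb, k3, fun w => ?_, ?_⟩
  · have : ∀ v, f (σ (X.w0 * v)) = σ' (X.w0 * v) := fun v =>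
      X.induction_right (p := fun v => f (σ (X.w0 * v)) = σ' (X.w0 * v)) v (by simpa using hd)
        fun i v _ h => by simpa only [mul_assoc] using k4 _ i h
    simpa using this (X.w0⁻¹ * w)
  · have := ((hL B B').2.1 _ _ _ _ (lk 1)).1
    rw [one_mul] at this
    refine ⟨this.1, fun i j x hx y hy => ?_⟩
    rw [← this.2 i j x hx y hy, tr_eq H hf _ i j x hx]
    rfl

end Cfsg.Agent.Lead.T3
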